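import Cfsg.Agent.P8.Order
import Cfsg.Prelude.Def_Spor_J1

/-! A simple group of order 175560 is isomorphic to the matrix group `J1`. -/

set_option autoImplicit false

namespace Cfsg.Agent.P8

open Subgroup TC

theorem TC.cert60 : checkIndex 4 id
    [[1, 2, 1, 2, 1, 2, 1, 2, 1, 2], [2, 3, 2, 3, 2, 3], [1, 3, 1, 3], [1, 2, 3, 1, 2, 3, 1, 2, 3, 1, 2, 3, 1, 2, 3]]
    []
    0x3002002e03002d03002d01002c02002b01002903002803002801002702002601002502002303002203002201002102002001001f02001e03001e01001d02001c01001b02001a03001903001901001802001701001602001503001402001301001202001103001101001002000f01000e02000d03000d01000c01000b02000a03000a02000901000802000703000702000602000503000501000402000303000301000203000202000103000102000101000000000000 60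
    [0x3c0105003c0000003b0200003b0100003a0200003a01000039030e003900090038020300380000003603010036020000350100003202030031010500300200002f0100002c020300290009002601050025020000200105001f0200001d0203001a0009001802030013010500120200000f0105000e020000060200]
    0x1ffffffffffffffe 60 = true := by
  decide +kernel

section pres

variable {X : Type*} [Group X]

theorem Rel.card_le' [Finite X] {e a b c d : X} (h : Rel e a b c d) :
    Nat.card (closure {x | x ∈ [e, a, b, c, d]}) ≤ 175560 := by
  have h0 := h.card_le (closure {x | x ∈ [b, c, d]}) (subset_closure (by simp))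
    (subset_closure (by simp)) (subset_closure (by simp))
  obtain ⟨⟨ee, aa, bb, cc, dd, ea, ab, bc, cd, eb, ec, ed, ac, ad, bd, abc⟩, bcd, eab⟩ := h
  simp only [pow_succ, pow_zero, one_mul, mul_assoc] at bc cd bd bcd
  have h2 := (TC.relIndex_le_of_checkIndex (⊥ : Subgroup X)
    (g := gen [b, c, d]) rfl (gen_iv _ (by simp [*]) _) (by simp [gen, *]) (by simp)
    TC.cert60 _ (closure_le_gen [b, c, d])).2
  rw [relIndex_bot_left] at h2
  omega

theorem Rel.exists_hom {Y : Type*} [Group Y] [Finite X] [Finite Y] [IsSimpleGroup X]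
    {e a b c d : X} {e' a' b' c' d' : Y} (h : Rel e a b c d) (h' : Rel e' a' b' c' d')
    (hX : closure {x | x ∈ [e, a, b, c, d]} = ⊤) (hc : Nat.card X = 175560) (he : e' ≠ 1) :
    Nonempty (X ≃* closure {x | x ∈ [e', a', b', c', d']}) := by
  set D := closure {x | x ∈ [(e, e'), (a, a'), (b, b'), (c, c'), (d, d')]} with hD
  have h1 := (h.prod h').card_le'
  rw [← hD] at h1
  let p : D →* X := (MonoidHom.fst X Y).comp D.subtype
  let q : D →* Y := (MonoidHom.snd X Y).comp D.subtype
  have hp : Function.Surjective p := by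
    rw [← MonoidHom.range_eq_top, MonoidHom.range_comp, range_subtype, hD, MonoidHom.map_closure,
      ← hX]
    congr 1
    ext x
    simp [eq_comm]
  have hq : q.range = closure {x | x ∈ [e', a', b', c', d']} := by
    rw [MonoidHom.range_comp, range_subtype, hD, MonoidHom.map_closure]
    congr 1
    ext x
    simp [eq_comm]
  have hb : Function.Bijective p := (Nat.bijective_iff_surjective_and_card p).2
    ⟨hp, le_antisymm (hc ▸ h1) (Nat.card_le_card_of_surjective p hp)⟩
  let f := MulEquiv.ofBijective p hb
  have : IsSimpleGroup D := f.symm.isSimpleGroup_congr.1 inferInstance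
  have hk : q.ker = ⊥ := by
    refine (inferInstance : q.ker.Normal).eq_bot_or_eq_top.resolve_right fun h5 => he ?_
    have h6 : (⟨(e, e'), subset_closure (by simp)⟩ : D) ∈ q.ker := h5 ▸ mem_top _
    exact h6
  exact ⟨f.symm.trans ((q.ofInjective ((MonoidHom.ker_eq_bot_iff q).1 hk)).trans
    (MulEquiv.subgroupCongr hq))⟩

end pres

/-- The matrix coded by a number. -/
def dec (T : ℕ) : Matrix (Fin 7) (Fin 7) (ZMod 11) :=
  Matrix.of fun i j => (get T (7 * i + j) : ZMod 11)

def dot (A B i j : ℕ) : ℕ :=
  Nat.mod (get A i * get B j + get A (i + 1) * get B (7 + j) + get A (i + 2) * get B (14 + j) +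
    get A (i + 3) * get B (21 + j) + get A (i + 4) * get B (28 + j) +
    get A (i + 5) * get B (35 + j) + get A (i + 6) * get B (42 + j)) 11

def mulAux (A B n : ℕ) : ℕ :=
  Nat.rec 0 (fun k ih => force ih fun T => put T k (dot A B (7 * (k / 7)) (k % 7))) n

def cI : ℕ := 0x0001000000000000000000000000000000010000000000000000000000000000000100000000000000000000000000000001000000000000000000000000000000010000000000000000000000000000000100000000000000000000000000000001

def evalE (g : List ℕ) (w : List ℕ) : ℕ :=
  List.rec cI (fun x _ ih => force ih fun T => force (g.getD x 0) fun A => mulAux A T 49) w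

theorem get_mulAux (A B n k : ℕ) (h : k < n) :
    get (mulAux A B n) k = dot A B (7 * (k / 7)) (k % 7) := by
  induction n with
  | zero => omega
  | succ n ih =>
    have h1 : mulAux A B (n + 1) = put (mulAux A B n) n (dot A B (7 * (n / 7)) (n % 7)) :=
      force_eq (mulAux A B n) fun T => put T n (dot A B (7 * (n / 7)) (n % 7))
    have h3 : dot A B (7 * (n / 7)) (n % 7) < 65536 :=
      lt_trans (Nat.mod_lt _ (by norm_num)) (by norm_num : 11 < 65536)
    rw [h1, get_put _ _ _ _ h3]
    split_ifs with h2
    · rw [h2]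
    · exact ih (by omega)

theorem dec_mul (A B : ℕ) : dec (mulAux A B 49) = dec A * dec B := by
  ext i j
  have h1 : (7 * (i : ℕ) + j) / 7 = i := by omega
  have h2 : (7 * (i : ℕ) + j) % 7 = j := by omega
  simp only [dec, Matrix.mul_apply, Matrix.of_apply, Fin.sum_univ_seven]
  rw [get_mulAux _ _ _ _ (by omega), h1, h2, dot]
  change (((_ : ℕ) % 11 : ℕ) : ZMod 11) = _
  rw [ZMod.natCast_mod]
  push_cast
  simp

theorem dec_cI : dec cI = 1 := by decide +kernel

theorem val_prod {u : List (GL (Fin 7) (ZMod 11))} {g : List ℕ}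
    (h : ∀ x < u.length, (u.getD x 1 : GL (Fin 7) (ZMod 11)).val = dec (g.getD x 0))
    (w : List ℕ) (hw : ∀ x ∈ w, x < u.length) :
    ((w.map fun x => u.getD x 1).prod : GL (Fin 7) (ZMod 11)).val = dec (evalE g w) := by
  induction w with
  | nil => exact dec_cI.symm
  | cons x w ih =>
    have h1 : evalE g (x :: w) = mulAux (g.getD x 0) (evalE g w) 49 :=
      (force_eq (evalE g w) fun T => force (g.getD x 0) fun A => mulAux A T 49).trans
        (force_eq _ _)
    rw [h1, dec_mul, List.map_cons, List.prod_cons, Units.val_mul, h x (hw x (by simp)),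
      ih fun y hy => hw y (by simp [hy])]

def cX : ℕ := 0x0000000000000000000000000001000100000000000000000000000000000001000000000000000000000000000000010000000000000000000000000000000100000000000000000000000000000001000000000000000000000000000000010000
def cY : ℕ := 0x00010003000100010009000300030003000100010009000300030001000a000a000200080008000a0008000a000200080008000a0008000a000200080008000a0008000a000a00030003000100030001000100090008000a0008000a000a00020008
def ce : ℕ := 0x000a000000000000000000000000000000010000000000000000000000000000000a00000000000000000000000000000001000000000000000000000000000000010000000000000000000000000000000a0000000000000000000000000000000a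
def ca : ℕ := 0x0003000a00010000000100000000000a00020008000000080000000000010008000300000002000000000000000000000007000000020005000100080002000000030000000000000000000000020000000500040000000000000005000000040009
def cb : ℕ := 0x000a0000000000000000000000000000000a000000000000000000000000000000010000000000000000000000000000000a00000000000000000000000000000001000000000000000000000000000000010000000000000000000000000000000a
def cc' : ℕ := 0x0008000000090000000000010008000000070000000900050000000000090000000800000000000100080000000900000005000700000000000000050000000700090000000000010000000100000000000800010008000000080000000000010009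
def cd : ℕ := 0x000a0000000000000000000000000000000a0000000000000000000000000000000a000000000000000000000000000000010000000000000000000000000000000a0000000000000000000000000000000100000000000000000000000000000001

theorem dec_cX : jankoMatrixX = dec cX := by decide +kernel
theorem dec_cY : jankoMatrixY = dec cY := by decide +kernel

/-- A word in the two generators of `J1`. -/
def wd (w : List ℕ) : GL (Fin 7) (ZMod 11) :=
  (w.map fun x => [Spor.jankoX, Spor.jankoY].getD x 1).prod

theorem wd_mem (w : List ℕ) : wd w ∈ Spor.J1 := by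
  refine Subgroup.list_prod_mem _ fun x hx => ?_
  obtain ⟨k, -, rfl⟩ := List.mem_map.1 hx
  match k with
  | 0 => exact subset_closure (by simp)
  | 1 => exact subset_closure (by simp)
  | k + 2 => exact one_mem _

theorem wd_val (w : List ℕ) (hw : ∀ x ∈ w, x < 2) : (wd w).val = dec (evalE [cX, cY] w) :=
  val_prod (fun x hx => by
    match x, hx with
    | 0, _ => exact dec_cX
    | 1, _ => exact dec_cY) w hw

def je := wd [0, 1, 0, 1, 1, 1, 1]
def ja := wd [0, 1, 1, 0, 1, 1, 0, 1, 1, 0, 1, 0, 1, 1, 0]
def jb := wd [1, 0, 0, 1, 1, 1, 1, 0, 0]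
def jc := wd [1, 1, 0, 1, 0, 0, 1, 1, 1, 0, 0, 1, 1, 1]
def jd := wd [0, 1, 0, 0, 1, 1, 1, 1, 0]

theorem ev1 : evalE [cX, cY] [0, 1, 0, 1, 1, 1, 1] = ce ∧
    evalE [cX, cY] [0, 1, 1, 0, 1, 1, 0, 1, 1, 0, 1, 0, 1, 1, 0] = ca ∧
    evalE [cX, cY] [1, 0, 0, 1, 1, 1, 1, 0, 0] = cb ∧
    evalE [cX, cY] [1, 1, 0, 1, 0, 0, 1, 1, 1, 0, 0, 1, 1, 1] = cc' ∧
    evalE [cX, cY] [0, 1, 0, 0, 1, 1, 1, 1, 0] = cd := by decide +kernel

theorem five_val (w : List ℕ) (hw : ∀ x ∈ w, x < 5) :
    ((w.map fun x => [je, ja, jb, jc, jd].getD x 1).prod).val =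
      dec (evalE [ce, ca, cb, cc', cd] w) :=
  val_prod (fun x hx => by
    match x, hx with
    | 0, _ => exact (wd_val _ (by decide)).trans (congrArg dec ev1.1)
    | 1, _ => exact (wd_val _ (by decide)).trans (congrArg dec ev1.2.1)
    | 2, _ => exact (wd_val _ (by decide)).trans (congrArg dec ev1.2.2.1)
    | 3, _ => exact (wd_val _ (by decide)).trans (congrArg dec ev1.2.2.2.1)
    | 4, _ => exact (wd_val _ (by decide)).trans (congrArg dec ev1.2.2.2.2)) w hw

def relW : List (List ℕ) := [[0, 0], [1, 1], [2, 2], [3, 3], [4, 4],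
  [0, 1, 0, 1, 0, 1, 0, 1, 0, 1], [1, 2, 1, 2, 1, 2], [2, 3, 2, 3, 2, 3, 2, 3, 2, 3],
  [3, 4, 3, 4, 3, 4], [0, 2, 0, 2], [0, 3, 0, 3], [0, 4, 0, 4], [1, 3, 1, 3], [1, 4, 1, 4],
  [2, 4, 2, 4], [1, 2, 3, 1, 2, 3, 1, 2, 3, 1, 2, 3, 1, 2, 3],
  [2, 3, 4, 2, 3, 4, 2, 3, 4, 2, 3, 4, 2, 3, 4],
  [4, 0, 1, 2, 0, 1, 2, 0, 1, 2, 0, 1, 2, 0, 1, 2]]

theorem ev2 : ∀ w ∈ relW, (∀ x ∈ w, x < 5) ∧ evalE [ce, ca, cb, cc', cd] w = cI := by
  decide +kernel

theorem ev3 : evalE [ce, ca, cb, cc', cd] [1, 0, 2, 1, 0, 1, 2, 3, 2, 4, 3, 2, 3] = cX ∧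
    evalE [ce, ca, cb, cc', cd] [1, 2, 1, 3, 2, 1, 0, 1, 2, 3, 2, 3, 4] = cY := by
  decide +kernel

theorem rel_of_words {X : Type*} [Group X] {e a b c d : X}
    (h : ∀ w ∈ relW, (w.map fun x => [e, a, b, c, d].getD x 1).prod = 1) : Rel e a b c d := by
  simp only [relW, List.mem_cons, List.not_mem_nil, or_false, forall_eq_or_imp, forall_eq,
    List.map_cons, List.map_nil, List.prod_cons, List.prod_nil, List.getD_cons_succ,
    List.getD_cons_zero, mul_one] at h
  obtain ⟨h1, h2, h3, h4, h5, h6, h7, h8, h9, h10, h11, h12, h13, h14, h15, h16, h17, h18⟩ := h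
  refine ⟨⟨h1, h2, h3, h4, h5, ?_, ?_, ?_, ?_, ?_, ?_, ?_, ?_, ?_, ?_, ?_⟩, ?_, ?_⟩ <;>
    simp only [pow_succ, pow_zero, one_mul, mul_assoc] <;> assumption

theorem rel_j : Rel je ja jb jc jd := rel_of_words fun w hw =>
  Units.ext (by rw [five_val w (ev2 w hw).1, (ev2 w hw).2, dec_cI, Units.val_one])

theorem closure_j : Subgroup.closure {x | x ∈ [je, ja, jb, jc, jd]} = Spor.J1 := by
  have key : ∀ w : List ℕ, (w.map fun x => [je, ja, jb, jc, jd].getD x 1).prod ∈
      Subgroup.closure {x | x ∈ [je, ja, jb, jc, jd]} := fun w =>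
    Subgroup.list_prod_mem _ fun x hx => by
    obtain ⟨k, -, rfl⟩ := List.mem_map.1 hx
    rw [List.getD_eq_getElem?_getD]
    cases he : [je, ja, jb, jc, jd][k]? with
    | none => exact one_mem _
    | some u => exact subset_closure (List.mem_of_getElem? he)
  refine le_antisymm ((closure_le _).2 fun x hx => ?_) ((closure_le _).2 fun x hx => ?_)
  · simp only [List.mem_cons, List.not_mem_nil, or_false, Set.mem_setOf_eq] at hx
    rcases hx with rfl | rfl | rfl | rfl | rfl <;> exact wd_mem _
  · rcases hx with rfl | rfl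
    · have h := key [1, 0, 2, 1, 0, 1, 2, 3, 2, 4, 3, 2, 3]
      rwa [Units.ext ((five_val _ (by decide)).trans
        ((congrArg dec ev3.1).trans dec_cX.symm) : _ = Spor.jankoX.val)] at h
    · have h := key [1, 2, 1, 3, 2, 1, 0, 1, 2, 3, 2, 3, 4]
      rwa [Units.ext ((five_val _ (by decide)).trans
        ((congrArg dec ev3.2).trans dec_cY.symm) : _ = Spor.jankoY.val)] at h

theorem je_ne : je ≠ 1 := fun h => by
  have h1 : dec ce = 1 := by
    rw [← ev1.1, ← wd_val _ (by decide)]
    exact congrArg Units.val h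
  exact absurd h1 (by decide +kernel)

/-- A simple group of order 175560 is isomorphic to Janko's matrix group. -/
theorem isoJ1 {G : Type*} [Group G] [Finite G] [IsSimpleGroup G] (hG : Nat.card G = 175560) :
    Spor.IsoJ1 G := by
  obtain ⟨e, a, b, c, d, h, hX, -⟩ := exists_gen hG
  obtain ⟨f⟩ := h.exists_hom rel_j hX hG je_ne
  exact ⟨f.trans (MulEquiv.subgroupCongr closure_j)⟩

end Cfsg.Agent.P8
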