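import Cfsg.Agent.P3.Char1
import Cfsg.Agent.P1.B_0
import Cfsg.Agent.P6.R2

/-! A virtual character of norm 3 induced from the centralizer of a real element. -/

set_option autoImplicit false

namespace Cfsg.Agent.P8

open Subgroup Cfsg Cfsg.Agent Cfsg.Agent.FT
open Cfsg.Agent.P3 (theta Fsum)

universe u

variable {G : Type u} [Group G] [Finite G]

theorem Fsum_ind (t : G) (K : Subgroup G) (ψ : G → ℂ) :
    𝐨(K) * Fsum t (ind ⊤ K ψ) = 𝐨(𝐂[t]) ^ 2 *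
      ∑ v ∈ fs (classSupp {t} ⊤), ∑ u ∈ fs (classSupp {t} ⊤), res K ψ (u * v) := by
  have e1 : ∀ g : G, ∑ a ∈ fs ((⊤ : Subgroup G) : Set G), res K ψ (g⁻¹ * (a * t * a⁻¹ * t) * g) =
      ∑ a ∈ fs ((⊤ : Subgroup G) : Set G), res K ψ (a * t * a⁻¹ * (g⁻¹ * t * g⁻¹⁻¹)) := by
    intro g
    rw [← sum_fs_mul_left (mem_top g)]
    exact sum_fs_congr fun a _ => by congr 1; group
  rw [Fsum, sum_fs_congr fun a _ => ind_of_mem K ψ (mem_top _), ← Finset.mul_sum, Finset.sum_comm,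
    sum_fs_congr fun g _ => e1 g,
    sum_fs_inv ⊤ fun g => ∑ a ∈ fs ((⊤ : Subgroup G) : Set G), res K ψ (a * t * a⁻¹ * (g * t * g⁻¹)),
    CH1.sum_fs_conj_class ⊤ t
      fun v => ∑ a ∈ fs ((⊤ : Subgroup G) : Set G), res K ψ (a * t * a⁻¹ * v),
    sum_fs_congr fun v _ => CH1.sum_fs_conj_class ⊤ t fun u => res K ψ (u * v),
    ← Finset.smul_sum, top_inf_eq, mul_inv_cancel_left₀ (card_ne_zero_C K), nsmul_eq_mul,
    nsmul_eq_mul]
  ring

/-- `l` is a nonreal linear character of `C`; the elements outside its kernel form a trivial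
intersection set with normalizer `C ∪ s C`. -/
structure DT (C : Subgroup G) (s y : G) (l : G → ℂ) : Prop where
  lin : IsLin C l
  sN : s ∈ 𝐍(C)
  sC : s ∉ C
  yC : y ∈ C
  inv : s⁻¹ * y * s = y⁻¹
  ne : l y ^ 2 ≠ 1
  ti : ∀ a ∈ C, l a ≠ 1 → ∀ g, g⁻¹ * a * g ∈ C → g ∈ C ∨ s⁻¹ * g ∈ C

namespace DT

variable {C : Subgroup G} {s y : G} {l : G → ℂ} (h : DT C s y l)
include h

theorem ind_apply {α : G → ℂ} (hα : α ∈ CF C) {a : G} (ha : a ∈ C) (h4 : l a ≠ 1) :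
    ind ⊤ C α a = α a + α (s⁻¹ * a * s) := by
  rw [ind_of_mem _ _ (mem_top a), res_of_mem_CF hα,
    sum_fs_diff (A := C) fun _ _ => mem_top _,
    ← sum_fs_subset (A := (s * ·) '' C) (B := _ \ _) (by
      rintro _ ⟨c, hc, rfl⟩
      exact ⟨mem_top _, fun e => h.sC ((mul_mem_cancel_right hc).mp e)⟩) (fun g hg hg' => by
      by_contra e
      rcases h.ti a ha h4 g (by_contra fun e' => e (CF_off hα e')) with e' | e'
      · exact hg.2 e'
      · exact hg' ⟨_, e', mul_inv_cancel_left s g⟩),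
    ← sum_fs_bij (s * ·) (mul_right_injective s).injOn.bijOn_image,
    sum_fs_congr fun c hc => CF_conj' hα hc a, sum_fs_const,
    sum_fs_congr (g := fun _ => α (s⁻¹ * a * s)) fun c hc => by
      rw [← CF_conj' hα hc (s⁻¹ * a * s)]; congr 1; group,
    sum_fs_const, nsmul_eq_mul, nsmul_eq_mul, ← mul_add,
    inv_mul_cancel_left₀ (card_ne_zero_C _)]

theorem ne_cf1 : cf1 C ≠ l := fun e => h.ne (by rw [← e, cf1_of_mem h.yC, one_pow])

theorem nsq_theta : nsq ⊤ (theta C l) = 3 := by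
  have hl := h.lin
  have hα : cf1 C - l ∈ VChar C := sub_mem (cf1_mem_VChar _) hl.isChar.mem_VChar
  have hl' := hl.cfConj_of_norm h.sN
  have h5 : cfConj s l y = l y⁻¹ := by rw [cfConj_apply, h.inv]
  have h6 := hl.mul_inv h.yC
  have n1 := h.ne_cf1
  have n2 : cf1 C ≠ cfConj s l := fun e => h.ne (by
    rw [← h5, ← e, cf1_of_mem h.yC, mul_one] at h6; rw [h6, one_pow])
  have n3 : l ≠ cfConj s l := fun e => h.ne (by rwa [← h5, ← e, ← sq] at h6)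
  have i1 := cf1_mem_Irr C
  refine nsq_eq_of_ip ?_
  rw [theta, ip_ind_left le_top _ (ind_mem_CF _ _ _), ip_congr_of_supp
    (A := {g | g ∈ C ∧ l g ≠ 1}) (fun g hg hg' => by
      rw [Pi.sub_apply, cf1_of_mem hg, not_not.1 fun e => hg' ⟨hg, e⟩, sub_self])
    (ψ' := cf1 C - l + (cf1 C - cfConj s l)) fun a ha => by
      rw [h.ind_apply (vchar_mem_CF hα) ha.1 ha.2, ← cfConj_apply s (cf1 C - l) a, map_sub,
        cfConj_cf1_of_norm h.sN, Pi.add_apply]]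
  simp only [ip_sub_left, ip_sub_right, ip_add_right, ip_irr_self i1, ip_irr_self hl.mem_Irr,
    ip_irr_of_ne i1 hl.mem_Irr n1, ip_irr_of_ne hl.mem_Irr i1 n1.symm,
    ip_irr_of_ne i1 hl'.mem_Irr n2, ip_irr_of_ne hl.mem_Irr hl'.mem_Irr n3]
  norm_num

theorem ip_theta : ip ⊤ (theta C l) (cf1 ⊤) = 1 := by
  have i1 := cf1_mem_Irr C
  rw [theta, ip_ind_left le_top _ (cf1_mem_CF _), ← ip_res_right, res_cf1 le_top, ip_sub_left,
    ip_irr_self i1, ip_irr_of_ne h.lin.mem_Irr i1 h.ne_cf1.symm, sub_zero]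

theorem Fsum_theta {t : G} {J : Set G} (hJ : J ⊆ classSupp {t} ⊤)
    (h1 : ∀ u ∈ classSupp {t} ⊤, ∀ v ∈ classSupp {t} ⊤, u * v ∈ C → l (u * v) ≠ 1 → u ∈ J ∧ v ∈ J)
    (h2 : ∀ u ∈ J, ∀ v ∈ J, u * v ∈ C) (h3 : ∀ u, y * u ∈ J ↔ u ∈ J) :
    𝐨(C) * Fsum t (theta C l) = 𝐨(𝐂[t]) ^ 2 * J.ncard ^ 2 := by
  have h0 : ∀ u ∈ classSupp {t} ⊤, ∀ v ∈ classSupp {t} ⊤, ¬ (u ∈ J ∧ v ∈ J) →
      res C (cf1 C - l) (u * v) = 0 := fun u hu v hv e => by
    by_cases h4 : u * v ∈ C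
    · rw [res_of_mem _ h4, Pi.sub_apply, cf1_of_mem h4, not_not.1 fun e' => e (h1 u hu v hv h4 e'),
        sub_self]
    · exact res_of_notMem _ h4
  have h4 : ∀ v ∈ J, ∑ u ∈ fs J, l (u * v) = 0 := fun v hv => by
    have h5 := sum_fs_bij (A := J) (B := J) (y * ·) ⟨fun u hu => (h3 u).2 hu,
      (mul_right_injective y).injOn, fun u hu => ⟨y⁻¹ * u, (h3 _).1 (by simpa using hu), by simp⟩⟩
      fun u => l (u * v)
    rw [sum_fs_congr (g := fun u => l y * l (u * v)) fun u hu => by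
      rw [mul_assoc, h.lin.2.2 y h.yC _ (h2 u hu v hv)], ← Finset.mul_sum] at h5
    by_contra e
    exact h.ne (by rw [(mul_eq_right₀ e).1 h5, one_pow])
  rw [theta, Fsum_ind, ← sum_fs_subset hJ fun v hv hv' => Finset.sum_eq_zero fun u hu =>
      h0 u (mem_fs.1 hu) v hv fun e => hv' e.2,
    sum_fs_congr (g := fun _ => (J.ncard : ℂ)) fun v hv => by
      rw [← sum_fs_subset hJ fun u hu hu' => h0 u hu v (hJ hv) fun e => hu' e.1,
        sum_fs_congr (g := fun u => 1 - l (u * v)) fun u hu => by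
          rw [res_of_mem _ (h2 u hu v hv), Pi.sub_apply, cf1_of_mem (h2 u hu v hv)],
        Finset.sum_sub_distrib, h4 v hv, Finset.sum_const, card_fs]
      simp,
    Finset.sum_const, card_fs, nsmul_eq_mul, ← sq]

end DT

theorem dirr_int {t : G} (ht : P6.Inv t) {α : G → ℂ} (hα : Dirr ⊤ α) :
    ∃ a r : ℤ, α 1 = a ∧ α t = r ∧ a ≠ 0 ∧ a ∣ Nat.card G ∧ r ^ 2 ≤ 𝐨(𝐂[t]) := by
  obtain ⟨ε, hε, χ, hχ, rfl⟩ := hα.exists_sign
  obtain ⟨e, he, -⟩ := ht.exists_int (irr_isChar hχ)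
  have h1 := irr_dg_dvd_card hχ
  have h2 := sum_irr_norm_sq (mem_top t)
  have h3 := Finset.single_le_sum (f := fun χ : G → ℂ => ‖χ t‖ ^ 2) (fun _ _ => sq_nonneg _) hχ
  rw [card_top] at h1
  rw [h2, he, top_inf_eq, Complex.norm_intCast, sq_abs] at h3
  have h4 := (irr_dg_pos hχ).ne'
  refine ⟨ε * dg χ, ε * e, by simp [irr_one_eq hχ], by simp [he], ?_, ?_, ?_⟩
  · rcases hε with rfl | rfl <;> simpa using h4
  · rcases hε with rfl | rfl <;> simpa using Int.natCast_dvd_natCast.2 h1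
  · rcases hε with rfl | rfl <;> simpa using (by exact_mod_cast h3 : e ^ 2 ≤ (𝐨(𝐂[t]) : ℤ))

/-- The order formula. -/
theorem order_formula {t : G} (ht : P6.Inv t) {θ : G → ℂ} (hθ : θ ∈ VChar ⊤) (h3 : nsq ⊤ θ = 3)
    (h1 : ip ⊤ θ (cf1 ⊤) = 1) (h0 : θ 1 = 0) (h2 : θ t = 0) {T : ℕ} (hT : Fsum t θ = T) :
    ∃ a r : ℤ, a * (a + 1) ≠ 0 ∧ a * (a + 1) ∣ Nat.card G ∧ r ^ 2 ≤ 𝐨(𝐂[t]) ∧
      Nat.card G * (a - r) ^ 2 = T * (a * (a + 1)) := by
  obtain ⟨α, β, hα, hβ, -, -, -, rfl⟩ := P1.BS.exists_three hθ h3 h1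
  obtain ⟨a, r, a1, a2, a3, a4, a5⟩ := dirr_int ht hα
  obtain ⟨b, q, b1, b2, b3, b4, -⟩ := dirr_int ht hβ
  simp only [Pi.add_apply, cf1_top_apply, a1, a2, b1, b2] at h0 h2
  obtain rfl : b = -(a + 1) := by
    have : 1 + a + b = 0 := by exact_mod_cast h0
    omega
  obtain rfl : q = -(r + 1) := by
    have : 1 + r + q = 0 := by exact_mod_cast h2
    omega
  have h4 := P3.Fsum_dirr t hα
  have h5 := P3.Fsum_dirr t hβ
  have h6 := P3.Fsum_dirr t (X := cf1 ⊤) (Or.inl (cf1_mem_Irr _))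
  rw [P3.Fsum_add, P3.Fsum_add] at hT
  simp only [cf1_top_apply, a1, a2, b1, b2] at h4 h5 h6
  refine ⟨a, r, mul_ne_zero a3 (by omega), IsCoprime.mul_dvd ⟨-1, 1, by ring⟩ a4
    (neg_dvd.1 b4), a5, ?_⟩
  have h7 : (Nat.card G : ℂ) * (a - r) ^ 2 = T * (a * (a + 1)) := by
    push_cast at h5
    linear_combination (a * (a + 1) : ℂ) * hT - (a + 1) * h4 + a * h5 - a * (a + 1) * h6
  exact_mod_cast h7

set_option synthInstance.maxSize 2000 in
theorem numeric_J : ∀ T ∈ [(144000 : ℤ), 192000], ∀ d : ℕ, d < 877 → T % (d - 438) ^ 2 = 0 →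
    ∀ r : ℕ, r < 21 → ∀ N ∈ [T / (d - 438) ^ 2 * ((d + r - 448) * (d + r - 448 + 1))],
      N % 8 = 0 → N % 16 ≠ 0 → N % 25 ≠ 0 → N % 7 = 0 → N = 175560 ∨ N = 209160 := by
  decide +kernel

theorem numeric_J' {T N : ℕ} (hT : T = 144000 ∨ T = 192000) {a r : ℤ} (h0 : a * (a + 1) ≠ 0)
    (hd : a * (a + 1) ∣ N) (hr : r ^ 2 ≤ 120) (e : N * (a - r) ^ 2 = T * (a * (a + 1)))
    (h8 : 8 ∣ N) (h16 : ¬ 16 ∣ N) (h25 : ¬ 25 ∣ N) (h7 : 7 ∣ N) : N = 175560 ∨ N = 209160 := by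
  obtain ⟨n, hn⟩ := hd
  have h1 : n * (a - r) ^ 2 = T := mul_right_cancel₀ h0 (by rw [← e, hn]; ring)
  have h2 : 0 < (a - r) ^ 2 := by
    refine (sq_nonneg _).lt_of_ne fun e => ?_
    rw [← e] at h1
    omega
  have h3 : (a - r) ^ 2 ≤ 192000 := (Int.le_of_dvd (by omega) ⟨n, by rw [← h1, mul_comm]⟩).trans
    (show (T : ℤ) ≤ 192000 by omega)
  have h4 : |a - r| < 439 := abs_lt_of_sq_lt_sq (by omega) (by norm_num)
  have h5 : |r| < 11 := abs_lt_of_sq_lt_sq (by omega) (by norm_num)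
  rw [abs_lt] at h4 h5
  obtain ⟨d, hd⟩ := Int.eq_ofNat_of_zero_le (show 0 ≤ a - r + 438 by omega)
  obtain ⟨q, hq⟩ := Int.eq_ofNat_of_zero_le (show 0 ≤ r + 10 by omega)
  have h6 : (d : ℤ) - 438 = a - r := by omega
  have h9 : (d : ℤ) + q - 448 = a := by omega
  have := numeric_J T (by rcases hT with rfl | rfl <;> simp) d (by omega)
    (by rw [h6, ← h1, Int.mul_emod_left]) q (by omega) N (by
      rw [h6, h9, ← h1, Int.mul_ediv_cancel _ h2.ne', hn, mul_comm]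
      exact List.mem_singleton_self _) (by omega) (by omega) (by omega) (by omega)
  omega

end Cfsg.Agent.P8
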