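import Cfsg.Agent.P8.Num
import Cfsg.Agent.H8.ThompsonTransfer
import Cfsg.Agent.L.Invol

/-! Involution centralizers in a simple group of order 175560. -/

set_option autoImplicit false

namespace Cfsg.Agent.P8

open S4274 (D mem_D)
open Subgroup

variable {G : Type*} [Group G] [Finite G]

theorem orderOf_invol {v : G} (h : v * v = 1) (h1 : v ≠ 1) : orderOf v = 2 :=
  orderOf_eq_prime (by rw [pow_two, h]) h1

theorem eight_dvd_card_centralizer {k : ℕ} (hk : Odd k) (hG : Nat.card G = 8 * k)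
    (hno : ∀ N : Subgroup G, N.index ≠ 2) {v : G} (hv : v * v = 1) (hv1 : v ≠ 1) :
    8 ∣ Nat.card (centralizer ({v} : Set G)) := by
  obtain ⟨S, hS⟩ := (H8.isPGroup_zpowers_of_orderOf (p := 2) (k := 1)
    (orderOf_invol hv hv1)).exists_le_sylow
  have hS8 : Nat.card S = 8 := by
    have h0 : k ≠ 0 := by rintro rfl; simp at hk
    rw [S.card_eq_multiplicity, hG, Nat.factorization_mul (by norm_num) h0, Finsupp.add_apply,
      Nat.factorization_eq_zero_of_not_dvd (n := k) hk.not_two_dvd_nat,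
      show 8 = 2 ^ 3 by norm_num, Nat.Prime.factorization_pow Nat.prime_two]
    simp
  by_cases h : ∀ a ∈ (S : Subgroup G), a * a = 1
  · rw [← hS8]
    exact card_dvd_of_le fun a ha => mem_centralizer_singleton_iff.2
      (L.commute_of_sq_eq_one h ha (hS (mem_zpowers v)))
  push Not at h
  obtain ⟨w, hwS, hw⟩ : ∃ w ∈ (S : Subgroup G), orderOf w = 4 := by
    obtain ⟨a, ha, ha'⟩ := h
    have h1 := Subgroup.orderOf_dvd_natCard _ ha
    rw [hS8] at h1
    have h2 : ¬ orderOf a ∣ 2 := by rwa [orderOf_dvd_iff_pow_eq_one, pow_two]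
    have h3 : 4 ∣ orderOf a := by
      have := Nat.le_of_dvd (by norm_num) h1
      generalize orderOf a = n at *
      interval_cases n <;> simp_all
    exact ⟨_, pow_mem ha _, orderOf_pow_orderOf_div (orderOf_pos a).ne' h3⟩
  have hM : (zpowers w).index = 2 * k := by
    have := (zpowers w).card_mul_index
    rw [Nat.card_zpowers, hw, hG] at this
    omega
  have huniq : ∀ u ∈ zpowers w, u * u = 1 → u ≠ 1 → u = w ^ 2 := by
    intro u hu h1 h2
    classical
    obtain ⟨i, hi, rfl⟩ := Finset.mem_image.1 (mem_zpowers_iff_mem_range_orderOf.1 hu)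
    rw [hw, Finset.mem_range] at hi
    rw [← pow_add, ← orderOf_dvd_iff_pow_eq_one, hw] at h1
    interval_cases i <;> simp_all
  obtain ⟨g, hg⟩ : ∃ g : G, g * v * g⁻¹ ∈ zpowers w := by
    by_contra hc
    push Not at hc
    obtain ⟨N, -, hN, -⟩ := H8.exists_normal_index_two_of_not_conj _ hk hM (by rwa [pow_two]) hc
    exact hno N hN
  have h1 := huniq _ hg (by rw [conj_mul, hv, mul_one, mul_inv_cancel]) (by simpa using hv1)
  rw [← L.card_centralizer_of_isConj (isConj_iff.2 ⟨g, h1⟩), ← hS8]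
  refine card_dvd_of_le fun a ha => mem_centralizer_singleton_iff.2 ?_
  have h2 : (S : Subgroup G) ≤ normalizer (zpowers w : Set G) :=
    H9.le_normalizer_of_card_mul_eq S.isPGroup' (zpowers_le.2 hwS)
      (by rw [Nat.card_zpowers, hw, hS8])
  have h3 : w ^ 2 * w ^ 2 = 1 := by rw [← pow_add, ← orderOf_dvd_iff_pow_eq_one, hw]
  have h4 : w ^ 2 ≠ 1 := by rw [Ne, ← orderOf_dvd_iff_pow_eq_one, hw]; norm_num
  exact mul_inv_eq_iff_eq_mul.1 (huniq _ (H1.conj_mem_of_le_normalizer h2 ha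
    (pow_mem (mem_zpowers w) 2)) (by rw [conj_mul, h3, mul_one, mul_inv_cancel])
    (by simpa using h4))

theorem exists_conj_of_not_four_dvd {H : Subgroup G} (h4 : ¬ 4 ∣ Nat.card H) {u v : G}
    (hu : u ∈ H) (hu2 : u * u = 1) (hu1 : u ≠ 1) (hv : v ∈ H) (hv2 : v * v = 1) (hv1 : v ≠ 1) :
    ∃ h ∈ H, h * u * h⁻¹ = v := by
  have h1 := H1.card_mul_relIndex (zpowers_le.2 hv)
  rw [Nat.card_zpowers, orderOf_invol hv2 hv1] at h1
  obtain ⟨h, hh, h2⟩ := H1.exists_conj_le_sylow (p := 2) (H := H)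
    (H8.isPGroup_zpowers_of_orderOf (k := 1) (orderOf_invol hv2 hv1))
    (fun h => h4 (h1 ▸ Nat.mul_dvd_mul_left 2 h)) (zpowers_le.2 hu)
    (H8.isPGroup_zpowers_of_orderOf (k := 1) (orderOf_invol hu2 hu1))
  refine ⟨h, hh, ?_⟩
  have h3 := H1.map_conj_le_iff.1 h2 u (mem_zpowers u)
  classical
  obtain ⟨i, hi, h5⟩ := Finset.mem_image.1 (mem_zpowers_iff_mem_range_orderOf.1 h3)
  rw [orderOf_invol hv2 hv1, Finset.mem_range] at hi
  interval_cases i
  · exact absurd h5.symm (by simpa using hu1)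
  · simpa using h5.symm

theorem invol_rel {p : ℕ} [hp : Fact p.Prime] (hp2 : p ≠ 2) (P : Sylow p G) (hP : Nat.card P = p)
    (h4 : ¬ 4 ∣ Nat.card (centralizer ((P : Subgroup G) : Set G))) {v : G} (hv : v * v = 1)
    (hv1 : v ≠ 1) (hc : v ∈ centralizer ((P : Subgroup G) : Set G)) :
    Nat.card (normalizer ((P : Subgroup G) : Set G) ⊓ centralizer {v} : Subgroup G) *
        Nat.card (centralizer ((P : Subgroup G) : Set G)) =
      Nat.card (normalizer ((P : Subgroup G) : Set G)) *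
        Nat.card (centralizer ((P : Subgroup G) : Set G) ⊓ centralizer {v} : Subgroup G) ∧
    2 * p ∣ Nat.card (centralizer ((P : Subgroup G) : Set G) ⊓ centralizer {v} : Subgroup G) ∧
    Nat.card (normalizer ((P : Subgroup G) : Set G) ⊓ centralizer {v} : Subgroup G) *
      Nat.card (Sylow p (centralizer ({v} : Set G))) = Nat.card (centralizer ({v} : Set G)) := by
  have hPv : (P : Subgroup G) ≤ centralizer {v} := fun a ha =>
    mem_centralizer_singleton_iff.2 (hc a ha)
  refine ⟨?_, ?_, ?_⟩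
  · have h1 := H1.card_sup_mul_card_inf
      (A := normalizer ((P : Subgroup G) : Set G) ⊓ centralizer {v})
      (inf_le_left.trans (H1.normalizer_le_normalizer_centralizer (P : Subgroup G)))
    have h2 : normalizer ((P : Subgroup G) : Set G) ⊓ centralizer {v} ⊔
        centralizer ((P : Subgroup G) : Set G) = normalizer ((P : Subgroup G) : Set G) := by
      refine le_antisymm (sup_le inf_le_left (centralizer_le_normalizer _)) fun g hg => ?_
      obtain ⟨h, hh, h3⟩ := exists_conj_of_not_four_dvd h4 (H1.conj_mem_of_le_normalizer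
        (H1.normalizer_le_normalizer_centralizer (P : Subgroup G)) hg hc)
        (by rw [conj_mul, hv, mul_one, mul_inv_cancel]) (by simpa using hv1) hc hv hv1
      rw [show g = h⁻¹ * (h * g) by group]
      refine mul_mem (mem_sup_right (inv_mem hh)) (mem_sup_left
        ⟨mul_mem (centralizer_le_normalizer _ hh) hg, mem_centralizer_singleton_iff.2 ?_⟩)
      rw [← mul_inv_eq_iff_eq_mul]
      exact (by group : _ = h * (g * v * g⁻¹) * h⁻¹).trans h3
    rw [h2, inf_right_comm, inf_eq_right.2 (centralizer_le_normalizer _)] at h1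
    exact h1.symm
  · refine Nat.Coprime.mul_dvd_of_dvd_of_dvd
      ((Nat.coprime_primes Nat.prime_two hp.out).2 hp2.symm) ?_ ?_
    · rw [← orderOf_invol hv hv1]
      exact Subgroup.orderOf_dvd_natCard _ ⟨hc, mem_centralizer_singleton_iff.2 rfl⟩
    · have : IsCyclic (P : Subgroup G) := isCyclic_of_prime_card hP
      nth_rewrite 1 [← hP]
      exact card_dvd_of_le (le_inf (le_centralizer _) hPv)
  · rw [← relIndex_normalizer_eq_card_sylow P hPv, H1.card_inf_mul_relIndex]

theorem numeric2 : ∀ m ∈ D, 8 ∣ m → m ≠ 175560 → (5 ∣ m → ∃ k ∈ [20, 60], k ∣ m ∧ m / k % 5 = 1) →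
    (7 ∣ m → m / 42 % 7 = 1 ∧ 42 ∣ m) → (11 ∣ m → m / 110 % 11 = 1 ∧ 110 ∣ m) →
    (19 ∣ m → m / 114 % 19 = 1 ∧ 114 ∣ m) →
    (5 ∣ m → 3 ∣ m) ∧ (12 ∣ m → m / 12 % 3 = 1 → m = 120) ∧
      (60 ∣ m → m / 60 % 3 = 1 → m / 60 % 5 ≠ 1) := by
  decide +kernel

theorem exists_sylow_of_dvd {p : ℕ} [hp : Fact p.Prime] (h2 : ¬ p ^ 2 ∣ Nat.card G) {v : G}
    (h : p ∣ Nat.card (centralizer ({v} : Set G))) :
    ∃ P : Sylow p G, v ∈ centralizer ((P : Subgroup G) : Set G) := by
  obtain ⟨w, hw⟩ := exists_prime_orderOf_dvd_card' p h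
  let R : Sylow p G := Classical.arbitrary _
  obtain ⟨Q, hQ⟩ := H8.exists_sylow_eq_zpowers R (H9.card_sylow_eq_of_not_sq_dvd R
    (h.trans (card_subgroup_dvd_card _)) h2) (y := (w : G)) (by rw [orderOf_coe, hw])
  refine ⟨Q, ?_⟩
  have : (Q : Subgroup G) ≤ centralizer {v} := hQ ▸ zpowers_le.2 w.2
  exact fun a ha => mem_centralizer_singleton_iff.1 (this ha)

theorem normalizer_three_eq [IsSimpleGroup G] (hG : Nat.card G = 175560) (P : Sylow 3 G)
    (Q : Sylow 5 G) (h : (Q : Subgroup G) ≤ centralizer ((P : Subgroup G) : Set G)) :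
    normalizer ((P : Subgroup G) : Set G) = normalizer ((Q : Subgroup G) : Set G) ∧
      Nat.card (normalizer ((P : Subgroup G) : Set G)) = 60 := by
  have : Fact (Nat.Prime 5) := ⟨by norm_num⟩
  obtain ⟨n3, n5, -⟩ := sylow_counts hG
  have a1 := card_normalizer_sylow P
  have a2 := card_normalizer_sylow Q
  rw [n3, hG] at a1
  rw [n5, hG] at a2
  have h1 := H1.card_inf_mul_relIndex (normalizer ((Q : Subgroup G) : Set G))
    (normalizer ((P : Subgroup G) : Set G))
  have h2 := H1.card_inf_mul_relIndex (normalizer ((P : Subgroup G) : Set G))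
    (normalizer ((Q : Subgroup G) : Set G))
  rw [inf_comm] at h2
  have h4 := relIndex_normalizer_modEq Q (h.trans (centralizer_le_normalizer _))
  have h5 := relIndex_normalizer_modEq P
    ((le_centralizer_iff.1 h).trans (centralizer_le_normalizer _))
  have h6 : Nat.card (normalizer ((P : Subgroup G) : Set G)) = 60 := by omega
  have h7 : Nat.card (normalizer ((Q : Subgroup G) : Set G)) = 60 := by omega
  have h8 := Nat.eq_of_mul_eq_mul_left Nat.card_pos (h1.trans (h6.trans (h7.symm.trans h2.symm)))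
  have h9 : (normalizer ((Q : Subgroup G) : Set G)).relIndex
      (normalizer ((P : Subgroup G) : Set G)) = 1 := by
    have h10 := Dvd.intro_left _ (h1.trans h6)
    rw [← h8] at h5
    have h11 := Nat.le_of_dvd (by norm_num) h10
    exact (by decide : ∀ n ≤ 60, n ∣ 60 → n ≡ 1 [MOD 5] → n ≡ 1 [MOD 3] → n = 1) _ h11 h10 h4 h5
  exact ⟨H1.eq_of_le_of_card_le (relIndex_eq_one.1 h9) (by omega), h6⟩

theorem invol_small [IsSimpleGroup G] (hG : Nat.card G = 175560) {p n : ℕ} [hp : Fact p.Prime]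
    (hp2 : p ≠ 2) (h2 : ¬ p ^ 2 ∣ 175560) (hn : n * Nat.card (Sylow p G) = 175560)
    (hC : ∀ P : Sylow p G, Nat.card (centralizer ((P : Subgroup G) : Set G)) ∣ 2 * p)
    {v : G} (hv : v * v = 1) (hv1 : v ≠ 1) (h : p ∣ Nat.card (centralizer ({v} : Set G))) :
    Nat.card (centralizer ({v} : Set G)) / n % p = 1 ∧ n ∣ Nat.card (centralizer ({v} : Set G)) := by
  obtain ⟨P, hP⟩ := exists_sylow_of_dvd (hG ▸ h2) h
  obtain ⟨a1, a2, a3⟩ := invol_rel hp2 P (H9.card_sylow_eq_of_not_sq_dvd P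
    (h.trans (card_subgroup_dvd_card _)) (hG ▸ h2)) (fun h4 => hp2 ((Nat.prime_dvd_prime_iff_eq
      Nat.prime_two hp.out).1 (Nat.dvd_of_mul_dvd_mul_left two_pos (h4.trans (hC P)))).symm)
      hv hv1 hP
  have a4 := card_dvd_of_le (inf_le_left : centralizer ((P : Subgroup G) : Set G) ⊓
    centralizer {v} ≤ _)
  rw [← Nat.dvd_antisymm ((hC P).trans a2) a4] at a1
  have a5 := Nat.eq_of_mul_eq_mul_right Nat.card_pos a1
  have a6 := Nat.eq_of_mul_eq_mul_right Nat.card_pos
    ((card_normalizer_sylow P).trans (hG.trans hn.symm))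
  have a7 : 0 < n := a6 ▸ Nat.card_pos
  rw [← a3, a5, a6, Nat.mul_div_cancel_left _ a7]
  have := card_sylow_modEq_one p (centralizer ({v} : Set G))
  rw [Nat.ModEq, Nat.mod_eq_of_lt hp.out.one_lt] at this
  exact ⟨this, Dvd.intro _ rfl⟩

theorem invol_cent [IsSimpleGroup G] (hG : Nat.card G = 175560) {v : G} (hv : v * v = 1)
    (hv1 : v ≠ 1) (h : 3 ∣ Nat.card (centralizer ({v} : Set G)) ∨
      5 ∣ Nat.card (centralizer ({v} : Set G))) :
    Nat.card (centralizer ({v} : Set G)) = 120 ∧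
      Nat.card (Sylow 3 (centralizer ({v} : Set G))) = 10 ∧
      Nat.card (Sylow 5 (centralizer ({v} : Set G))) = 6 ∧
      ∀ P : Sylow 3 G, v ∈ centralizer ((P : Subgroup G) : Set G) →
        Nat.card (normalizer ((P : Subgroup G) : Set G) ⊓ centralizer {v} : Subgroup G) = 12 := by
  have : Fact (Nat.Prime 5) := ⟨by norm_num⟩
  have : Fact (Nat.Prime 7) := ⟨by norm_num⟩
  have : Fact (Nat.Prime 11) := ⟨by norm_num⟩
  have : Fact (Nat.Prime 19) := ⟨by norm_num⟩
  obtain ⟨n3, n5, n7, n11, n19, c3, c5, c7, c11, c19⟩ := sylow_counts hG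
  have hP3 : ∀ P : Sylow 3 G, Nat.card P = 3 := fun P =>
    H9.card_sylow_eq_of_not_sq_dvd P (by rw [hG]; norm_num) (by rw [hG]; norm_num)
  have hP5 : ∀ P : Sylow 5 G, Nat.card P = 5 := fun P =>
    H9.card_sylow_eq_of_not_sq_dvd P (by rw [hG]; norm_num) (by rw [hG]; norm_num)
  have h8 := eight_dvd_card_centralizer (k := 21945) (by decide) hG (fun N hN => by
    rcases (normal_of_index_eq_two hN).eq_bot_or_eq_top with rfl | rfl
    · rw [index_bot, hG] at hN; omega
    · rw [index_top] at hN; omega) hv hv1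
  have hne : Nat.card (centralizer ({v} : Set G)) ≠ 175560 := by
    intro h1
    rw [← hG, card_eq_iff_eq_top] at h1
    have h2 : v ∈ center G := mem_center_iff.2 fun g =>
      mem_centralizer_singleton_iff.1 (h1 ▸ mem_top g)
    rcases (inferInstance : (center G).Normal).eq_bot_or_eq_top with h3 | h3
    · exact hv1 (mem_bot.1 (h3 ▸ h2))
    · exact not_comm_of_card hG ⟨⟨fun a b => mem_center_iff.1 (h3 ▸ mem_top b) a⟩⟩
  have h5 : ∀ Q : Sylow 5 G, v ∈ centralizer ((Q : Subgroup G) : Set G) →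
      Nat.card (normalizer ((Q : Subgroup G) : Set G) ⊓ centralizer {v} : Subgroup G) ∈ [20, 60] ∧
      Nat.card (normalizer ((Q : Subgroup G) : Set G) ⊓ centralizer {v} : Subgroup G) *
      Nat.card (Sylow 5 (centralizer ({v} : Set G))) = Nat.card (centralizer ({v} : Set G)) := by
    intro Q hQ
    obtain ⟨a1, a2, a3⟩ := invol_rel (by norm_num) Q (hP5 Q)
      (fun h => by have := h.trans (c5 Q); omega) hv hv1 hQ
    refine ⟨?_, a3⟩
    have a4 := card_dvd_of_le (inf_le_left : centralizer ((Q : Subgroup G) : Set G) ⊓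
      centralizer {v} ≤ _)
    have a5 := card_normalizer_sylow Q
    have a6 := c5 Q
    rw [n5, hG] at a5
    have a7 : Nat.card (normalizer ((Q : Subgroup G) : Set G)) = 60 := by omega
    obtain ⟨k, k1, k2, -, k3⟩ := H9.exists_card_normalizer_eq_of_simple (not_comm_of_card hG) Q
      (hP5 Q)
    rw [a7] at a1 k3
    have a8 := Nat.le_of_dvd (by norm_num) a6
    have a9 := Nat.le_of_dvd (by norm_num) k1
    have a10 := Nat.le_of_dvd Nat.card_pos a4
    have a11 := a2.trans a4
    generalize Nat.card (centralizer ((Q : Subgroup G) : Set G)) = c at *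
    have a12 : c = 30 := by interval_cases k <;> omega
    subst a12
    simp only [List.mem_cons, List.not_mem_nil, or_false]
    have := (by decide : ∀ j ≤ 30, 2 * 5 ∣ j → j ∣ 30 → j = 10 ∨ j = 30) _ a10 a2 a4
    omega
  have hs5 := card_sylow_modEq_one 5 (centralizer ({v} : Set G))
  have hs3 := card_sylow_modEq_one 3 (centralizer ({v} : Set G))
  simp only [Nat.ModEq] at hs3 hs5
  obtain ⟨b1, b2, b3⟩ := numeric2 _ (mem_D (hG ▸ card_subgroup_dvd_card _)) h8 hne (fun h => by
      obtain ⟨Q, hQ⟩ := exists_sylow_of_dvd (by rw [hG]; norm_num) h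
      obtain ⟨a1, a2⟩ := h5 Q hQ
      refine ⟨_, a1, Dvd.intro _ a2, ?_⟩
      rw [← a2, Nat.mul_div_cancel_left _ Nat.card_pos, hs5])
    (invol_small hG (by norm_num) (by norm_num) (by rw [n7]) c7 hv hv1)
    (invol_small hG (by norm_num) (by norm_num) (by rw [n11]) c11 hv hv1)
    (invol_small hG (by norm_num) (by norm_num) (by rw [n19]) c19 hv hv1)
  have h3 : ∀ P : Sylow 3 G, v ∈ centralizer ((P : Subgroup G) : Set G) →
      Nat.card (normalizer ((P : Subgroup G) : Set G) ⊓ centralizer {v} : Subgroup G) = 12 ∧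
      Nat.card (normalizer ((P : Subgroup G) : Set G) ⊓ centralizer {v} : Subgroup G) *
      Nat.card (Sylow 3 (centralizer ({v} : Set G))) = Nat.card (centralizer ({v} : Set G)) := by
    intro P hP
    obtain ⟨a1, a2, a3⟩ := invol_rel (by norm_num) P (hP3 P) (by rw [c3]; omega) hv hv1 hP
    refine ⟨?_, a3⟩
    have a4 := card_dvd_of_le (inf_le_left : centralizer ((P : Subgroup G) : Set G) ⊓
      centralizer {v} ≤ _)
    obtain ⟨w, hw⟩ := exists_prime_orderOf_dvd_card' 5
      (G := centralizer ((P : Subgroup G) : Set G)) (by rw [c3]; norm_num)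
    obtain ⟨Q, hQ⟩ := H8.exists_sylow_eq_zpowers (Classical.arbitrary (Sylow 5 G)) (hP5 _)
      (y := (w : G)) (by rw [orderOf_coe, hw])
    have hQP : (Q : Subgroup G) ≤ centralizer ((P : Subgroup G) : Set G) := hQ ▸ zpowers_le.2 w.2
    obtain ⟨a5, a6⟩ := normalizer_three_eq hG P Q hQP
    rw [c3] at a1 a4
    rw [a6] at a1
    by_contra a7
    have a8 : Nat.card (centralizer ((P : Subgroup G) : Set G) ⊓ centralizer {v} : Subgroup G) =
        30 := by
      have := (by decide : ∀ j ≤ 30, 2 * 3 ∣ j → j ∣ 30 → j = 6 ∨ j = 30) _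
        (Nat.le_of_dvd (by norm_num) a4) a2 a4
      omega
    have a9 := H1.eq_of_le_of_card_le (inf_le_left : centralizer ((P : Subgroup G) : Set G) ⊓
      centralizer {v} ≤ _) (by rw [a8, c3])
    obtain ⟨-, a10⟩ := h5 Q fun a ha => mem_centralizer_singleton_iff.1
      (inf_eq_left.1 a9 (hQP ha))
    rw [← a5] at a10
    have a11 : Nat.card (normalizer ((P : Subgroup G) : Set G) ⊓ centralizer {v} : Subgroup G) =
        60 := by omega
    rw [a11] at a3 a10
    exact b3 (Dvd.intro _ a3) (by omega) (by omega)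
  obtain ⟨P, hP⟩ := exists_sylow_of_dvd (p := 3) (by rw [hG]; norm_num) (h.elim id b1)
  obtain ⟨a1, a2⟩ := h3 P hP
  rw [a1] at a2
  have a3 := b2 (Dvd.intro _ a2) (by omega)
  obtain ⟨Q, hQ⟩ := exists_sylow_of_dvd (p := 5) (v := v) (by rw [hG]; norm_num)
    (by rw [a3]; norm_num)
  obtain ⟨a4, a5⟩ := h5 Q hQ
  simp only [List.mem_cons, List.not_mem_nil, or_false] at a4
  refine ⟨a3, by omega, ?_, fun P hP => (h3 P hP).1⟩
  rcases a4 with a4 | a4 <;> rw [a4] at a5 <;> omega

end Cfsg.Agent.P8
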