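import Cfsg.Agent.S4274

/-! Sylow numbers of a simple group of order 175560. -/

set_option autoImplicit false

namespace Cfsg.Agent.P8

open S4274 (D mem_D opts cc)

def Pair (t u : ℕ × ℕ × ℕ) : Prop :=
  (u.1 ∣ cc 175560 t ↔ t.1 ∣ cc 175560 u) ∧ (u.1 ∣ cc 175560 t → ∃ k ∈ D,
    k * (175560 / t.2.1 / k) = 175560 / t.2.1 ∧ k * (175560 / u.2.1 / k) = 175560 / u.2.1 ∧
    175560 / t.2.1 / k % u.1 = 1 ∧ 175560 / u.2.1 / k % t.1 = 1)

instance (t u : ℕ × ℕ × ℕ) : Decidable (Pair t u) := by unfold Pair; infer_instance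

def Cnt (L : List (ℕ × ℕ × ℕ)) : Prop :=
  ∀ S ∈ [3, 5, 7, 11, 19].sublists,
    (∀ t ∈ L, ∀ s ∈ S, t.1 ∈ S → t.1 ≠ s → ¬ s ∣ cc 175560 t) →
    (L.map fun t => if t.1 ∈ S then t.2.1 * (cc 175560 t - cc 175560 t / t.1)
      else t.2.1 * (t.1 - 1)).sum ≤ 175560

instance (L : List (ℕ × ℕ × ℕ)) : Decidable (Cnt L) := by unfold Cnt; infer_instance

theorem numeric : ∀ x ∈ opts 175560 19, ∀ a ∈ opts 175560 11, Pair x a →
    ∀ b ∈ opts 175560 7, Pair x b → Pair a b → ∀ c ∈ opts 175560 5, Pair x c → Pair a c →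
    Pair b c → ∀ e ∈ opts 175560 3, Pair x e → Pair a e → Pair b e → Pair c e →
    Cnt [e, c, b, a, x] → e.2.1 = 2926 ∧ c.2.1 = 2926 ∧ b.2.1 = 4180 ∧ a.2.1 = 1596 ∧
      x.2.1 = 1540 ∧ cc 175560 e = 30 ∧ cc 175560 c ∣ 30 ∧ cc 175560 b ∣ 14 ∧
      cc 175560 a ∣ 22 ∧ cc 175560 x ∣ 38 := by
  decide +kernel

open Subgroup MulAction

variable {G : Type*} [Group G] [Finite G]

theorem relIndex_normalizer_eq_card_sylow {q : ℕ} [Fact q.Prime] (Q : Sylow q G)
    {H : Subgroup G} (h : (Q : Subgroup G) ≤ H) :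
    (normalizer ((Q : Subgroup G) : Set G)).relIndex H = Nat.card (Sylow q H) := by
  rw [(Q.subtype h).card_eq_index_normalizer, relIndex, subgroupOf_normalizer_eq h]
  rfl

theorem relIndex_normalizer_modEq {q : ℕ} [Fact q.Prime] (Q : Sylow q G)
    {H : Subgroup G} (h : (Q : Subgroup G) ≤ H) :
    (normalizer ((Q : Subgroup G) : Set G)).relIndex H ≡ 1 [MOD q] := by
  rw [relIndex_normalizer_eq_card_sylow Q h]
  exact card_sylow_modEq_one q H

theorem card_normalizer_sylow {q : ℕ} [Fact q.Prime] (Q : Sylow q G) :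
    Nat.card (normalizer ((Q : Subgroup G) : Set G)) * Nat.card (Sylow q G) = Nat.card G := by
  rw [Q.card_eq_index_normalizer]
  exact card_mul_index _

open scoped IsMulCommutative in
theorem not_comm_of_card [IsSimpleGroup G] (hG : Nat.card G = 175560) :
    ¬ IsMulCommutative G := fun h => by
  have := IsSimpleGroup.prime_card (α := G)
  rw [hG] at this
  norm_num at this

theorem sylow_counts [IsSimpleGroup G] (hG : Nat.card G = 175560) :
    Nat.card (Sylow 3 G) = 2926 ∧ Nat.card (Sylow 5 G) = 2926 ∧ Nat.card (Sylow 7 G) = 4180 ∧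
    Nat.card (Sylow 11 G) = 1596 ∧ Nat.card (Sylow 19 G) = 1540 ∧
    (∀ P : Sylow 3 G, Nat.card (centralizer ((P : Subgroup G) : Set G)) = 30) ∧
    (∀ P : Sylow 5 G, Nat.card (centralizer ((P : Subgroup G) : Set G)) ∣ 30) ∧
    (∀ P : Sylow 7 G, Nat.card (centralizer ((P : Subgroup G) : Set G)) ∣ 14) ∧
    (∀ P : Sylow 11 G, Nat.card (centralizer ((P : Subgroup G) : Set G)) ∣ 22) ∧
    (∀ P : Sylow 19 G, Nat.card (centralizer ((P : Subgroup G) : Set G)) ∣ 38) := by
  have hS := not_comm_of_card hG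
  let R : ∀ r : ℕ, Sylow r G := fun r => Classical.arbitrary _
  let tr : ℕ → ℕ × ℕ × ℕ := fun r => (r, Nat.card (Sylow r G),
    (centralizer ((R r : Subgroup G) : Set G)).relIndex
      (normalizer ((R r : Subgroup G) : Set G)))
  have hP : ∀ r ∈ [3, 5, 7, 11, 19], r.Prime ∧ r ∣ Nat.card G ∧ ¬ r ^ 2 ∣ Nat.card G := by
    intro r hr
    simp only [List.mem_cons, List.not_mem_nil, or_false] at hr
    rw [hG]
    rcases hr with rfl | rfl | rfl | rfl | rfl <;> norm_num
  have hR : ∀ r ∈ [3, 5, 7, 11, 19], ∀ Q : Sylow r G, Nat.card Q = r := fun r hr Q => by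
    have := Fact.mk (hP r hr).1
    exact H9.card_sylow_eq_of_not_sq_dvd Q (hP r hr).2.1 (hP r hr).2.2
  have hmul : ∀ r ∈ [3, 5, 7, 11, 19], (tr r).2.1 * (tr r).2.2 *
      Nat.card (centralizer ((R r : Subgroup G) : Set G)) = 175560 := fun r hr => by
    have := Fact.mk (hP r hr).1
    simp only [tr]
    rw [mul_assoc, mul_comm (relIndex _ _),
      H1.card_mul_relIndex (centralizer_le_normalizer _), mul_comm, card_normalizer_sylow, hG]
  have hcc : ∀ r ∈ [3, 5, 7, 11, 19], ∀ Q : Sylow r G,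
      cc 175560 (tr r) = Nat.card (centralizer ((Q : Subgroup G) : Set G)) := fun r hr Q => by
    have := Fact.mk (hP r hr).1
    have h1 := hmul r hr
    unfold cc
    rw [H8.card_centralizer_sylow_eq Q (R r)]
    nth_rewrite 1 [← h1]
    exact Nat.mul_div_cancel_left _ (Nat.pos_of_ne_zero fun h0 => by
      rw [h0, zero_mul] at h1; omega)
  have hN : ∀ r ∈ [3, 5, 7, 11, 19], ∀ Q : Sylow r G,
      175560 / (tr r).2.1 = Nat.card (normalizer ((Q : Subgroup G) : Set G)) := fun r hr Q => by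
    have := Fact.mk (hP r hr).1
    rw [← hG, ← card_normalizer_sylow Q]
    exact Nat.mul_div_cancel _ Nat.card_pos
  have hopt : ∀ r ∈ [3, 5, 7, 11, 19], tr r ∈ opts 175560 r := by
    intro r hr
    have := Fact.mk (hP r hr).1
    have h1 := hmul r hr
    have h : r ∣ 175560 := hG ▸ (hP r hr).2.1
    obtain ⟨k, hk1, hk2, hk3, -⟩ := H9.exists_card_normalizer_eq_of_simple hS (R r) (hR r hr _)
    simp only [tr] at h1 ⊢
    simp only [opts, if_pos h, List.mem_flatMap, List.mem_filter, List.mem_map, List.mem_range,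
      decide_eq_true_eq]
    have h2 := (hP r hr).1.two_le
    have h3 := Nat.le_of_dvd (by omega) hk1
    have h4 : k ≠ 0 := by rintro rfl; rw [zero_dvd_iff] at hk1; omega
    refine ⟨_, ⟨mem_D (Dvd.intro _ ((mul_assoc _ _ _).symm.trans h1)), ?_, ?_⟩, k,
      ⟨by omega, by omega, hk1, ?_⟩, by rw [hk3]⟩
    · have := card_sylow_modEq_one r G
      rwa [Nat.ModEq, Nat.mod_eq_of_lt (hP r hr).1.one_lt] at this
    · have := H9.faithfulSMul_sylow (H9.card_sylow_ne_one_of_simple hS (hP r hr).2.1)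
      have h5 := card_dvd_of_injective (toPermHom G (Sylow r G)) toPerm_injective
      rw [Nat.card_perm, hG] at h5
      exact (Nat.Prime.dvd_factorial (by norm_num)).1 ((by norm_num : 19 ∣ 175560).trans h5)
    · rw [← h1, hk3]
      refine Nat.mul_dvd_mul_left _ ?_
      have : IsCyclic (R r : Subgroup G) := isCyclic_of_prime_card (hR r hr _)
      nth_rewrite 1 [← hR r hr (R r)]
      exact card_dvd_of_le (le_centralizer _)
  have hsym : ∀ r ∈ [3, 5, 7, 11, 19], ∀ s ∈ [3, 5, 7, 11, 19], s ∣ cc 175560 (tr r) →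
      ∃ Q : Sylow s G, (Q : Subgroup G) ≤ centralizer ((R r : Subgroup G) : Set G) := by
    intro r hr s hs h3
    rw [hcc r hr (R r)] at h3
    have := Fact.mk (hP s hs).1
    obtain ⟨w, hw⟩ := exists_prime_orderOf_dvd_card' s h3
    obtain ⟨Q, hQ⟩ := H8.exists_sylow_eq_zpowers (R s) (hR s hs _) (y := (w : G))
      (by rw [orderOf_coe, hw])
    exact ⟨Q, hQ ▸ zpowers_le.2 w.2⟩
  have hsym' : ∀ r ∈ [3, 5, 7, 11, 19], ∀ s ∈ [3, 5, 7, 11, 19], s ∣ cc 175560 (tr r) →
      r ∣ cc 175560 (tr s) := by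
    intro r hr s hs h3
    obtain ⟨Q, hQ⟩ := hsym r hr s hs h3
    rw [hcc s hs Q]
    nth_rewrite 1 [← hR r hr (R r)]
    exact card_dvd_of_le (le_centralizer_iff.1 hQ)
  have hpair : ∀ r ∈ [3, 5, 7, 11, 19], ∀ s ∈ [3, 5, 7, 11, 19], Pair (tr r) (tr s) := by
    intro r hr s hs
    refine ⟨⟨hsym' r hr s hs, hsym' s hs r hr⟩, fun h3 => ?_⟩
    obtain ⟨Q, hQ⟩ := hsym r hr s hs h3
    have := Fact.mk (hP s hs).1
    have := Fact.mk (hP r hr).1
    rw [hN r hr (R r), hN s hs Q]
    have h1 := H1.card_inf_mul_relIndex (normalizer ((Q : Subgroup G) : Set G))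
      (normalizer ((R r : Subgroup G) : Set G))
    have h2 := H1.card_inf_mul_relIndex (normalizer ((R r : Subgroup G) : Set G))
      (normalizer ((Q : Subgroup G) : Set G))
    rw [inf_comm] at h2
    have h4 := relIndex_normalizer_modEq Q (hQ.trans (centralizer_le_normalizer _))
    have h5 := relIndex_normalizer_modEq (R r)
      ((le_centralizer_iff.1 hQ).trans (centralizer_le_normalizer _))
    refine ⟨Nat.card (normalizer ((Q : Subgroup G) : Set G) ⊓
      normalizer ((R r : Subgroup G) : Set G) : Subgroup G),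
      mem_D (hG ▸ card_subgroup_dvd_card _), ?_⟩
    have h6 : 0 < Nat.card (normalizer ((Q : Subgroup G) : Set G) ⊓
      normalizer ((R r : Subgroup G) : Set G) : Subgroup G) := Nat.card_pos
    generalize Nat.card (normalizer ((Q : Subgroup G) : Set G) ⊓
      normalizer ((R r : Subgroup G) : Set G) : Subgroup G) = k at h1 h2 h6 ⊢
    rw [← h1, ← h2, Nat.mul_div_cancel_left _ h6, Nat.mul_div_cancel_left _ h6]
    rw [Nat.ModEq, Nat.mod_eq_of_lt (hP s hs).1.one_lt] at h4
    rw [Nat.ModEq, Nat.mod_eq_of_lt (hP r hr).1.one_lt] at h5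
    exact ⟨rfl, rfl, h4, h5⟩
  have hcnt : Cnt [tr 3, tr 5, tr 7, tr 11, tr 19] := by
    intro T hT h
    let Y : ℕ → Set G := fun r => if r ∈ T then {x | r ∣ orderOf x} else {x | orderOf x = r}
    have h1 := H8.sum_ncard_le_of_disjoint [3, 5, 7, 11, 19].toFinset Y (Z := Set.univ) (by
      intro r hr s hs hrs
      rw [List.mem_toFinset] at hr hs
      have := Fact.mk (hP r hr).1
      have := Fact.mk (hP s hs).1
      have hc := (Nat.coprime_primes (hP r hr).1 (hP s hs).1).2 hrs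
      rw [Set.disjoint_left]
      intro x hx hx'
      simp only [Y] at hx hx'
      split_ifs at hx hx' with a1 a2 a3
      · apply h (tr r) (by
          simp only [List.mem_cons, List.not_mem_nil, or_false] at hr ⊢
          rcases hr with rfl | rfl | rfl | rfl | rfl <;> simp) s a2 a1 hrs
        rw [hcc r hr (R r)]
        have := H8.dvd_card_centralizer_of_commute (R r) (hR r hr _)
          (orderOf_pow_orderOf_div (orderOf_pos x).ne' hx)
          (Commute.pow_pow_self x _ (orderOf x / s))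
        rwa [orderOf_pow_orderOf_div (orderOf_pos x).ne' hx'] at this
      · exact (hP r hr).1.ne_one (hc.eq_one_of_dvd (hx' ▸ hx))
      · exact (hP s hs).1.ne_one (hc.symm.eq_one_of_dvd (hx ▸ hx'))
      · exact hrs (hx.symm.trans hx')) (fun _ _ => Set.subset_univ _)
    have h2 : ∀ r ∈ [3, 5, 7, 11, 19], (if (tr r).1 ∈ T then
        (tr r).2.1 * (cc 175560 (tr r) - cc 175560 (tr r) / (tr r).1)
        else (tr r).2.1 * ((tr r).1 - 1)) ≤ (Y r).ncard := by
      intro r hr
      have := Fact.mk (hP r hr).1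
      rw [hcc r hr (R r)]
      simp only [tr, Y]
      split_ifs with a1
      · exact H8.mul_le_ncard_dvd_orderOf (R r) (hR r hr _)
      · exact H8.mul_le_ncard_orderOf_eq (R r) (hR r hr _)
    rw [List.sum_toFinset _ (by simp), Set.ncard_univ, hG] at h1
    have e3 := h2 3 (by simp)
    have e5 := h2 5 (by simp)
    have e7 := h2 7 (by simp)
    have e11 := h2 11 (by simp)
    have e19 := h2 19 (by simp)
    simp only [List.map_cons, List.map_nil, List.sum_cons, List.sum_nil] at h1 ⊢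
    omega
  obtain ⟨a1, a2, a3, a4, a5, a6, a7, a8, a9, a10⟩ := numeric _ (hopt 19 (by simp))
    _ (hopt 11 (by simp)) (hpair 19 (by simp) 11 (by simp)) _ (hopt 7 (by simp))
    (hpair 19 (by simp) 7 (by simp)) (hpair 11 (by simp) 7 (by simp)) _ (hopt 5 (by simp))
    (hpair 19 (by simp) 5 (by simp)) (hpair 11 (by simp) 5 (by simp))
    (hpair 7 (by simp) 5 (by simp)) _ (hopt 3 (by simp)) (hpair 19 (by simp) 3 (by simp))
    (hpair 11 (by simp) 3 (by simp)) (hpair 7 (by simp) 3 (by simp))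
    (hpair 5 (by simp) 3 (by simp)) hcnt
  exact ⟨a1, a2, a3, a4, a5, fun P => hcc 3 (by simp) P ▸ a6, fun P => hcc 5 (by simp) P ▸ a7,
    fun P => hcc 7 (by simp) P ▸ a8, fun P => hcc 11 (by simp) P ▸ a9,
    fun P => hcc 19 (by simp) P ▸ a10⟩

end Cfsg.Agent.P8
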