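import Cfsg.Agent.P8.JFive
import Cfsg.Agent.P8.JChar

/-! Janko's theorem: one class of involutions with centralizer `2 × A5` gives order 175560. -/

set_option autoImplicit false

namespace Cfsg.Agent.P8

open Subgroup Cfsg Cfsg.Agent Cfsg.Agent.FT
open Cfsg.Agent.P5 (V4 Tri)
open scoped IsMulCommutative

universe u

variable {G : Type u} [Group G] [Finite G]

/-- A central Sylow subgroup of prime order is detected by a linear character. -/
theorem exists_lin {C : Subgroup G} {y : G} {p : ℕ} (hp : p.Prime) (hy : orderOf y = p)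
    (hS : IsSyl p (zpowers y) C) (hC : C ≤ 𝐂[y]) :
    ∃ l, IsLin C l ∧ l y ≠ 1 ∧ ∀ a ∈ C, l a ^ p = 1 := by
  have yC := hS.1 (mem_zpowers y)
  have h1 := H1.card_mul_relIndex hS.1
  rw [Nat.card_zpowers, hy] at h1
  have h2 : (center C).index ∣ (zpowers y).relIndex C := index_dvd_of_le fun z hz =>
    mem_center_iff.2 fun g => Subtype.ext
      (mem_cent1.1 (cent1_le_cent1_of_mem_zpowers hz (hC g.2))).symm
  have h3 := hS.3
  generalize (zpowers y).relIndex C = m at h1 h2 h3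
  obtain ⟨ψ, hψ⟩ := CommGroup.exists_apply_ne_one_of_hasEnoughRootsOfUnity (center C) ℂ
    (a := MonoidHom.transferCenterPow C ⟨y, yC⟩ ^ m) fun e => by
      have h4 : y ^ ((center C).index * m) = 1 := by
        simpa [pow_mul] using congrArg (fun z : center C => ((z : C) : G)) e
      rw [← orderOf_dvd_iff_pow_eq_one, hy, hp.dvd_mul] at h4
      exact h3 (h4.elim (·.trans h2) id)
  refine ⟨_, isLin_extendByZero ((powMonoidHom m).comp (ψ.comp (MonoidHom.transferCenterPow C))),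
    ?_, fun a ha => ?_⟩
  · rw [H6.extendByZero_of_mem _ _ yC]
    exact fun e => hψ (by rw [map_pow]; exact Units.ext e)
  · rw [H6.extendByZero_of_mem _ _ ha, ← Units.val_pow_eq_pow_val, MonoidHom.comp_apply,
      powMonoidHom_apply, ← pow_mul, mul_comm, h1, ← map_pow, pow_card_eq_one', map_one,
      Units.val_one]

namespace JH

variable (h : JH G)
include h

theorem exists_five : ∃ t s y : G, V4 t s ∧ orderOf y = 5 ∧ y ∈ 𝐂[t] ∧ s * y * s⁻¹ = y⁻¹ := by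
  obtain ⟨t, tt, t1⟩ := h.ex
  obtain ⟨y, yt, hy⟩ := exists_mem_orderOf_eq_prime (p := 5) (by norm_num) (H := 𝐂[t])
    (by rw [h.card_cent tt t1]; norm_num)
  obtain ⟨s, hV, hs⟩ := h.exists_inv tt t1 (Or.inr rfl) (hy ▸ pow_orderOf_eq_one y)
    (fun e => by simp [e] at hy) yt
  exact ⟨t, s, y, hV, hy, yt, hs⟩

theorem seven_dvd : 7 ∣ Nat.card G := by
  obtain ⟨t, s, -, hV, -⟩ := h.exists_five
  have h1 := h.card_cent2 hV
  have h2 := H1.card_mul_relIndex (le_top : 𝐂[t] ⊓ 𝐂[s] ≤ ⊤)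
  rw [h1, card_top] at h2
  have h3 := h.e8.lt
  obtain ⟨P, hP⟩ := IsSyl.exists_sylow_top Nat.prime_two (P := 𝐂[t] ⊓ 𝐂[s])
    ⟨le_top, isPGroup_of_card_eq (n := 3) h1, by omega⟩
  have sq : ∀ z ∈ (P : Subgroup G), z * z = 1 := fun z hz =>
    h.sq_of_comm hV (hP.le hz).1 (hP.le hz).2
  have : IsMulCommutative P := isMulComm_iff_le_cent.2 fun a ha b hb =>
    (commute_of_sq (sq b hb) (sq a ha) (by rw [pow_two, sq _ (mul_mem hb ha)])).eq
  have tP : t ∈ (P : Subgroup G) := hP.ge ⟨self_mem_cent1 t, mem_cent1.2 hV.comm.symm⟩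
  have h4 := P6.ncard_class 𝐍((P : Subgroup G)) t
  have h5 : {c | ∃ y ∈ 𝐍((P : Subgroup G)), y * t * y⁻¹ = c} = ((P : Subgroup G) : Set G) \ {1} := by
    ext c
    refine ⟨?_, fun hc => ?_⟩
    · rintro ⟨g, hg, rfl⟩
      exact ⟨H1.conj_mem_of_le_normalizer le_rfl hg tP, by simpa using hV.t1⟩
    · obtain ⟨g, rfl⟩ := h.conj t c hV.tt hV.t1 (sq c hc.1) hc.2
      obtain ⟨n, hn, e⟩ := P.conj_eq_normalizer_conj_of_mem t g⁻¹ tP (by simpa using hc.1)
      exact ⟨n⁻¹, inv_mem hn, by simpa using e.symm⟩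
  rw [h5, Set.ncard_diff_singleton_of_mem (one_mem _), ← Nat.card_coe_set_eq,
    SetLike.coe_sort_coe, hP, h1] at h4
  exact (h4 ▸ relIndex_dvd_card _ _).trans (card_subgroup_dvd_card _)

section main

variable {t s y : G} (hV : V4 t s) (hy : orderOf y = 5) (yt : y ∈ 𝐂[t]) (hs : s * y * s⁻¹ = y⁻¹)
include hV hy yt hs

theorem card_small : 𝐨((Od y ⊓ 𝐂[s] : Subgroup G)) = 1 ∨ 𝐨((Od y ⊓ 𝐂[s] : Subgroup G)) = 3 := by
  have h1 := h.card_odd hV.ss hV.s1 (K := Od y ⊓ 𝐂[s]) inf_le_right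
    ((odd_Od y).of_dvd_nat (FT.card_dvd_of_le inf_le_left))
  have h2 := h.not_five hV hy yt hs
  omega

theorem card_small' : 𝐨((Od y ⊓ 𝐂[t * s] : Subgroup G)) = 1 ∨
    𝐨((Od y ⊓ 𝐂[t * s] : Subgroup G)) = 3 :=
  h.card_small (hV.comm.eq ▸ hV.swap.rot) hy yt (by
    rw [show t * s * y * (t * s)⁻¹ = t * (s * y * s⁻¹) * t⁻¹ by group, hs, ← conj_inv,
      mem_cent1_iff_conj.1 (mem_cent1_comm.1 yt)])

theorem card_cy : 𝐨(𝐂[y]) = 10 * (𝐨((Od y ⊓ 𝐂[s] : Subgroup G)) *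
    𝐨((Od y ⊓ 𝐂[t * s] : Subgroup G))) := by
  have y5 : y ^ 5 = 1 := hy ▸ pow_orderOf_eq_one y
  have y1 : y ≠ 1 := fun e => by simp [e] at hy
  rw [h.card_eq hV.tt hV.t1 (Or.inr rfl) y5 y1 yt, h.card_Od (Or.inr rfl) y5 y1 yt hV hs]
  ring

theorem card_cy_dvd : 𝐨(𝐂[y]) ∣ 90 := by
  rw [h.card_cy hV hy yt hs]
  rcases h.card_small hV hy yt hs with e | e <;> rcases h.card_small' hV hy yt hs with e' | e' <;>
    rw [e, e'] <;> norm_num

theorem syl : IsSyl 5 (zpowers y) 𝐂[y] := by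
  have h1 := H1.card_mul_relIndex (zpowers_le.2 (self_mem_cent1 y))
  have h2 := h.card_cy_dvd hV hy yt hs
  rw [← h1, Nat.card_zpowers, hy] at h2
  exact ⟨zpowers_le.2 (self_mem_cent1 y), isPGroup_of_card_prime ((Nat.card_zpowers y).trans hy),
    fun e => absurd ((Nat.mul_dvd_mul_left 5 e).trans h2) (by norm_num)⟩

theorem le_zpowers {Q : Subgroup G} (hQ : IsPGroup 5 Q) (h1 : Q ≤ 𝐂[y]) : Q ≤ zpowers y :=
  (h.syl hV hy yt hs).le_of_normal (by norm_num)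
    ((cent_zpowers y).ge.trans (cent_le_norm _)) hQ h1

theorem syl_top : IsSyl 5 (zpowers y) ⊤ := by
  refine isSyl_of_maximal (by norm_num) le_top (h.syl hV hy yt hs).2 fun Q h1 _ hQ => ?_
  obtain ⟨⟨z, hz⟩, z1⟩ := ne_bot_iff_exists_ne_one.1 (center_ne_bot
    (isNilpotent_of_isPGroup (by norm_num) hQ) fun e => by
      rw [mem_bot.1 (e.le (h1 (mem_zpowers y)))] at hy; simp at hy)
  have h2 := zpowers_eq_of_prime (by norm_num) hy (h.le_zpowers hV hy yt hs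
    (hQ.to_le inf_le_left) (inf_le_right.trans (cent_le_cent1 (h1 (mem_zpowers y)))) hz)
    fun e => z1 (Subtype.ext e)
  refine le_antisymm (h.le_zpowers hV hy yt hs hQ ?_) h1
  rw [← cent_zpowers, ← h2, cent_zpowers]
  exact mem_cent_iff_cent1.1 hz.2

theorem zpowers_pow {a : G} (ha : a ∈ 𝐂[y]) (h5 : 5 ∣ orderOf a) :
    zpowers (a ^ (orderOf a / 5)) = zpowers y := by
  have h1 := orderOf_pow_orderOf_div (orderOf_pos a).ne' h5
  exact zpowers_eq_of_prime (by norm_num) hy (h.le_zpowers hV hy yt hs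
    (isPGroup_of_card_prime ((Nat.card_zpowers _).trans h1)) (zpowers_le.2 (pow_mem ha _))
    (mem_zpowers _)) fun e => by simp [e] at h1

theorem ti {a g : G} (ha : a ∈ 𝐂[y]) (h5 : 5 ∣ orderOf a) (hg : g⁻¹ * a * g ∈ 𝐂[y]) :
    g ∈ 𝐂[y] ∨ s⁻¹ * g ∈ 𝐂[y] := by
  classical
  have h0 : orderOf (g⁻¹ * a * g) = orderOf a := by
    rw [← MulAut.conj_inv_apply, MulEquiv.orderOf_eq]
  have h1 := h.zpowers_pow hV hy yt hs ha h5
  have h2 := h.zpowers_pow hV hy yt hs hg (h0 ▸ h5)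
  obtain ⟨j, hj⟩ := h1.ge (mem_zpowers y)
  have h3 : g⁻¹ * y * g⁻¹⁻¹ ∈ zpowers y := by
    rw [← h2, h0]
    refine ⟨j, ?_⟩
    rw [← hj, ← conj_zpow, ← conj_pow, inv_inv]
  obtain ⟨i, hi, h4⟩ := Finset.mem_image.1 (mem_zpowers_iff_mem_range_orderOf.1 h3)
  rw [hy, Finset.mem_range] at hi
  have y5 : y ^ 5 = 1 := hy ▸ pow_orderOf_eq_one y
  have h6 : ∀ n, i * i + 1 = 5 * n → False := fun n hn => by
    have h7 := h.sq_of_inverts (k := g⁻¹) (a := y) (by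
      rw [show g⁻¹ * g⁻¹ * y * (g⁻¹ * g⁻¹)⁻¹ = g⁻¹ * (g⁻¹ * y * g⁻¹⁻¹) * g⁻¹⁻¹ by
        simp only [mul_inv_rev, mul_assoc], ← h4,
        ← conj_pow, ← h4, ← pow_mul, eq_inv_iff_mul_eq_one, ← pow_succ, hn, pow_mul, y5, one_pow])
    rw [← pow_two, ← orderOf_dvd_iff_pow_eq_one, hy] at h7
    omega
  interval_cases i
  · have h7 : y = 1 := conj_eq_one_iff.1 (h4.symm.trans (pow_zero y))
    simp [h7] at hy
  · exact Or.inl (inv_mem_iff.1 (mem_cent1_iff_conj.2 (by simpa using h4.symm)))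
  · exact (h6 1 rfl).elim
  · exact (h6 2 rfl).elim
  · refine Or.inr (inv_mem_iff.1 (mem_cent1_iff_conj.2 ?_))
    rw [show (s⁻¹ * g)⁻¹ * y * (s⁻¹ * g)⁻¹⁻¹ = g⁻¹ * (s * y * s⁻¹) * g⁻¹⁻¹ by group, hs,
      ← conj_inv, ← h4, inv_eq_iff_mul_eq_one, ← pow_succ, y5]

theorem ncard_inv : {u | u * u = 1 ∧ u * y * u⁻¹ = y⁻¹}.ncard =
    5 * (𝐨((Od y ⊓ 𝐂[s] : Subgroup G)) + 𝐨((Od y ⊓ 𝐂[t * s] : Subgroup G))) := by
  have y5 : y ^ 5 = 1 := hy ▸ pow_orderOf_eq_one y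
  have y1 : y ≠ 1 := fun e => by simp [e] at hy
  have sd := h.sdProd hV.tt hV.t1 (Or.inr rfl) y5 y1 yt
  have hts : t * s * y * (t * s)⁻¹ = y⁻¹ := by
    rw [show t * s * y * (t * s)⁻¹ = t * (s * y * s⁻¹) * t⁻¹ by group, hs, ← conj_inv,
      mem_cent1_iff_conj.1 (mem_cent1_comm.1 yt)]
  have key : ∀ w : G, w * w = 1 → w * y * w⁻¹ = y⁻¹ → ∀ k ∈ Od y,
      (k * w * k⁻¹ * (k * w * k⁻¹) = 1 ∧ k * w * k⁻¹ * y * (k * w * k⁻¹)⁻¹ = y⁻¹) ∧
        k * w * k⁻¹ * w ∈ Od y := fun w ww hw k hk => by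
    refine ⟨⟨by simp [ww], ?_⟩, ?_⟩
    · rw [show k * w * k⁻¹ * y * (k * w * k⁻¹)⁻¹ = k * (w * (k⁻¹ * y * k⁻¹⁻¹) * w⁻¹) * k⁻¹ by group,
        mem_cent1_iff_conj.1 (inv_mem (Od_le y hk)), hw, ← conj_inv,
        mem_cent1_iff_conj.1 (Od_le y hk)]
    · have h1 := H1.conj_mem_of_le_normalizer le_rfl
        (conj_eq_self_iff.1 (by rw [← Od_conj, hw, Od_inv]) : w ∈ 𝐍(Od y)) (inv_mem hk)
      rw [P5.inv_eq_of_sq ww] at h1
      simpa only [mul_assoc] using mul_mem hk h1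
  have h1 : {u | u * u = 1 ∧ u * y * u⁻¹ = y⁻¹} =
      {c | ∃ k ∈ Od y, k * s * k⁻¹ = c} ∪ {c | ∃ k ∈ Od y, k * (t * s) * k⁻¹ = c} := by
    refine Set.Subset.antisymm (fun u hu => ?_) ?_
    · obtain ⟨z, hz, k, hk, e⟩ := sd.mem_iff'.1 (mem_cent1_iff_conj.2 (show s * u * y * (s * u)⁻¹ = y by
        rw [show s * u * y * (s * u)⁻¹ = s * (u * y * u⁻¹) * s⁻¹ by group, hu.2, ← conj_inv, hs,
          inv_inv]))
      rcases mem_zpowers_invol hV.tt hz with rfl | rfl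
      · exact Or.inl (P5.exists_conj_of_odd (odd_Od y) hV.ss hu.1 (by rwa [← e, one_mul]))
      · exact Or.inr (P5.exists_conj_of_odd (odd_Od y) hV.tsts hu.1 (by
          rwa [mul_assoc, ← e, ← mul_assoc, hV.tt, one_mul]))
    · rintro _ (⟨k, hk, rfl⟩ | ⟨k, hk, rfl⟩)
      exacts [(key s hV.ss hs k hk).1, (key _ hV.tsts hts k hk).1]
  have h2 := H1.card_inf_mul_relIndex 𝐂[s] (Od y)
  have h3 := H1.card_inf_mul_relIndex 𝐂[t * s] (Od y)
  rw [h1, Set.ncard_union_eq (Set.disjoint_left.2 ?_), P6.ncard_class, P6.ncard_class]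
  · rw [inf_comm, h.card_Od (Or.inr rfl) y5 y1 yt hV hs] at h2 h3
    rcases h.card_small hV hy yt hs with e | e <;> rcases h.card_small' hV hy yt hs with e' | e' <;>
      rw [e, e'] at h2 h3 ⊢ <;> omega
  · rintro _ ⟨k, hk, rfl⟩ ⟨k', hk', e⟩
    have h4 := mul_mem (inv_mem (key s hV.ss hs k hk).2) (e ▸ (key _ hV.tsts hts k' hk').2)
    rw [mul_inv_rev, mul_assoc, inv_mul_cancel_left, hV.comm.eq, inv_mul_cancel_left] at h4
    exact hV.t1 (P5.eq_one_of_odd (odd_Od y) h4 hV.tt)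

theorem card_cases : Nat.card G = 175560 ∨ Nat.card G = 209160 := by
  obtain ⟨l, hl, ly, l5⟩ := exists_lin (by norm_num) hy (h.syl hV hy yt hs) le_rfl
  have yC := self_mem_cent1 y
  have y2 : y * y ≠ 1 := fun e => by
    rw [← pow_two, ← orderOf_dvd_iff_pow_eq_one, hy] at e
    omega
  have five : ∀ a ∈ 𝐂[y], l a ≠ 1 → 5 ∣ orderOf a := fun a ha e => by
    by_contra h5
    exact e (pow_eq_one_iff_of_coprime ((Nat.Prime.coprime_iff_not_dvd (by norm_num)).2 h5)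
      |>.1 ⟨l5 a ha, hl.pow_card ha⟩)
  have nC : ∀ u : G, u * y * u⁻¹ = y⁻¹ → u ∉ 𝐂[y] := fun u hu e =>
    y2 (by nth_rw 1 [← mem_cent1_iff_conj.1 e, hu]; rw [inv_mul_cancel])
  have hD : DT 𝐂[y] s y l := ⟨hl, conj_eq_self_iff.1 (by
      ext x
      rw [mem_conj, mem_cent1_iff_commute, mem_cent1_iff_commute, ← Commute.inv_left_iff (a := y) (b := x),
        ← hs]
      exact ⟨fun e => by simpa [mul_assoc] using e.conj s, fun e => by
        simpa [mul_assoc] using e.conj s⁻¹⟩), nC s hs, yC, by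
      rw [← inv_inv (s⁻¹ * y * s), ← inv_inj, inv_inv, inv_inv, mul_inv_rev, mul_inv_rev, ← hs]
      group,
    fun e => ly (pow_eq_one_iff_of_coprime (by norm_num : Nat.Coprime 2 5) |>.1 ⟨e, l5 y yC⟩),
    fun a ha e g hg => h.ti hV hy yt hs ha (five a ha e) hg⟩
  have cl : ∀ u, u ∈ classSupp {t} (⊤ : Subgroup G) ↔ u * u = 1 ∧ u ≠ 1 := fun u => by
    refine ⟨?_, fun hu => ?_⟩
    · rintro ⟨_, rfl, g, -, rfl⟩
      exact ⟨by simp [hV.tt], by simpa using hV.t1⟩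
    · obtain ⟨g, rfl⟩ := h.conj t u hV.tt hV.t1 hu.1 hu.2
      exact ⟨t, rfl, g, mem_top g, rfl⟩
  have h1 := hD.Fsum_theta (t := t) (J := {u | u * u = 1 ∧ u * y * u⁻¹ = y⁻¹})
    (fun u hu => (cl u).2 ⟨hu.1, fun e => nC u hu.2 (e ▸ one_mem _)⟩)
    (fun u hu v hv e e' => by
      have h2 := (h.zpowers_pow hV hy yt hs e (five _ e e')).ge (mem_zpowers y)
      have h3 : y ∈ zpowers (u * v) := zpowers_le.2 (npow_mem_zpowers _ _) h2
      have uu := ((cl u).1 hu).1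
      have vv := ((cl v).1 hv).1
      exact ⟨⟨uu, P5.inverts_of_mem_zpowers (by
        rw [mul_inv_rev, P5.inv_eq_of_sq uu, P5.inv_eq_of_sq vv, ← mul_assoc, uu, one_mul]) h3⟩,
        vv, P5.inverts_of_mem_zpowers (by
          rw [mul_inv_rev, P5.inv_eq_of_sq uu, mul_assoc, mul_inv_cancel_right,
            P5.inv_eq_of_sq vv]) h3⟩)
    (fun u hu v hv => mem_cent1_iff_conj.2 (by
      rw [show u * v * y * (u * v)⁻¹ = u * (v * y * v⁻¹) * u⁻¹ by group, hv.2, ← conj_inv, hu.2,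
        inv_inv]))
    (fun u => by
      have e1 : y * u * y * (y * u)⁻¹ = y⁻¹ ↔ u * y * u⁻¹ = y⁻¹ := by
        rw [show y * u * y * (y * u)⁻¹ = y * (u * y * u⁻¹) * y⁻¹ by group]
        simp [mul_eq_one_iff_inv_eq, eq_comm]
      simp only [Set.mem_setOf_eq, e1, and_congr_left_iff]
      intro e
      rw [show y * u * (y * u) = y * (u * y * u⁻¹) * (u * u) by group, e]
      simp)
  have h0 : ∀ g : G, ¬ 5 ∣ orderOf g → P3.theta 𝐂[y] l g = 0 := fun g hg =>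
    ind_apply_eq_zero fun x _ hx => by
      have h2 : l (x⁻¹ * g * x) = 1 := by_contra fun e => hg (by
        simpa only [← MulAut.conj_inv_apply, MulEquiv.orderOf_eq] using five _ hx e)
      rw [Pi.sub_apply, cf1_of_mem hx, h2, sub_self]
  obtain ⟨T, hT, h2⟩ : ∃ T : ℕ, (T = 144000 ∨ T = 192000) ∧
      P3.Fsum t (P3.theta 𝐂[y] l) = T := by
    rw [h.ncard_inv hV hy yt hs, h.card_cy hV hy yt hs, h.card_cent hV.tt hV.t1] at h1
    rcases h.card_small hV hy yt hs with e | e <;> rcases h.card_small' hV hy yt hs with e' | e' <;>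
      rw [e, e'] at h1 <;> push_cast at h1
    · exact ⟨_, Or.inl rfl, by push_cast; linear_combination h1 / 10⟩
    · exact ⟨_, Or.inr rfl, by push_cast; linear_combination h1 / 30⟩
    · exact ⟨_, Or.inr rfl, by push_cast; linear_combination h1 / 30⟩
    · exact ⟨_, Or.inl rfl, by push_cast; linear_combination h1 / 90⟩
  obtain ⟨a, r, h3, h4, h5, h6⟩ := order_formula ⟨hV.t1, hV.tt⟩ (P3.theta_vchar hl.mem_Irr)
    hD.nsq_theta hD.ip_theta (h0 1 (by simp)) (h0 t (by rw [orderOf_invol hV.tt hV.t1]; decide)) h2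
  rw [h.card_cent hV.tt hV.t1] at h5
  have h7 := H1.card_mul_relIndex (le_top : zpowers y ≤ ⊤)
  have h8 := (h.syl_top hV hy yt hs).3
  rw [Nat.card_zpowers, hy, card_top] at h7
  exact numeric_J' hT h3 h4 h5 h6 (h.card_cent2 hV ▸ card_subgroup_dvd_card _) h.e8.lt
    (by omega) h.seven_dvd

end main

theorem card : Nat.card G = 175560 := by
  obtain ⟨t, s, y, hV, hy, yt, hs⟩ := h.exists_five
  refine (h.card_cases hV hy yt hs).resolve_right fun hG => ?_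
  have : Fact (Nat.Prime 83) := ⟨by norm_num⟩
  have : Fact (Nat.Prime 5) := ⟨by norm_num⟩
  obtain ⟨P⟩ : Nonempty (Sylow 83 G) := inferInstance
  have h1 := H9.card_sylow_eq_of_not_sq_dvd P (by rw [hG]; norm_num) (by rw [hG]; norm_num)
  have h2 := card_normalizer_sylow P
  have h3 := card_sylow_modEq_one 83 G
  have h4 : 5 ∣ 𝐨(𝐍((P : Subgroup G))) := by
    refine ((Nat.Prime.dvd_mul (by norm_num)).1 (show 5 ∣ _ by rw [h2, hG]; norm_num)).resolve_right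
      fun e => ?_
    have h5 : Nat.card (Sylow 83 G) ∣ 83 * 2520 := Dvd.intro_left _ (h2.trans hG)
    have h7 : Nat.card (Sylow 83 G) ∣ 2520 := (Nat.Coprime.dvd_mul_left (Nat.Coprime.symm
      ((Nat.Prime.coprime_iff_not_dvd (by norm_num)).2 (not_dvd_card_sylow 83 G)))).1 h5
    have h6 : ∀ n < 2521, 2520 % n = 0 → n % 83 = 1 → n % 5 ≠ 0 := by decide +kernel
    exact h6 _ (Nat.lt_succ_of_le (Nat.le_of_dvd (by norm_num) h7)) (Nat.mod_eq_zero_of_dvd h7) h3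
      (by omega)
  obtain ⟨z, hz, z5⟩ := exists_mem_orderOf_eq_prime (by norm_num) h4
  have z6 := isPGroup_of_card_prime ((Nat.card_zpowers z).trans z5)
  have h5 := H2.card_modEq_card_inf_centralizer z6 (zpowers_le.2 hz)
  have h6 := FT.card_dvd_of_le (inf_le_left : (P : Subgroup G) ⊓ 𝐂(zpowers z) ≤ _)
  have h7 := FT.card_dvd_of_le (inf_le_right : (P : Subgroup G) ⊓ 𝐂(zpowers z) ≤ _)
  rw [h1] at h5 h6
  rw [((Nat.dvd_prime (by norm_num)).1 h6).resolve_left fun e => by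
    rw [e] at h5; exact absurd h5 (by decide), cent_zpowers] at h7
  obtain ⟨g, -, hg⟩ := (h.syl_top hV hy yt hs).exists_conj_le (by norm_num) z6 le_top
  have h8 := zpowers_eq_of_prime (by norm_num) hy (hg (conj_mem_conj (mem_zpowers z) g))
    fun e => by simp_all
  have h9 := h.card_cy_dvd hV hy yt hs
  rw [← cent_zpowers, ← h8, cent_zpowers, Nat.card_congr (cj rfl).toEquiv] at h9
  exact absurd (h7.trans h9) (by norm_num)

end JH

/-- Janko's theorem. -/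
theorem card_of_JR {t : G} {L : Subgroup G} (h : P7.JR t L 5) : Nat.card G = 175560 :=
  (jh_of_jr h).card

end Cfsg.Agent.P8
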