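import Cfsg.Agent.P8.Cert
import Cfsg.Agent.H1.Basic

/-! Consequences of the Coxeter-like presentation of `J1`. -/

set_option autoImplicit false

namespace Cfsg.Agent.P8

open Subgroup

variable {X : Type*} [Group X]

/-- The Coxeter relations of the diagram `e -5- a -3- b -5- c -3- d` and `(abc)^5 = 1`. -/
structure Rel0 (e a b c d : X) : Prop where
  ee : e * e = 1
  aa : a * a = 1
  bb : b * b = 1
  cc : c * c = 1
  dd : d * d = 1
  ea : (e * a) ^ 5 = 1
  ab : (a * b) ^ 3 = 1
  bc : (b * c) ^ 5 = 1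
  cd : (c * d) ^ 3 = 1
  eb : (e * b) ^ 2 = 1
  ec : (e * c) ^ 2 = 1
  ed : (e * d) ^ 2 = 1
  ac : (a * c) ^ 2 = 1
  ad : (a * d) ^ 2 = 1
  bd : (b * d) ^ 2 = 1
  abc : (a * b * c) ^ 5 = 1

/-- The defining relations of `J1`. -/
structure Rel (e a b c d : X) : Prop extends Rel0 e a b c d where
  bcd : (b * c * d) ^ 5 = 1
  eab : d * (e * a * b) ^ 5 = 1

def gen (l : List X) (i : ℕ) : X := (1 :: l).getD i 1

theorem gen_iv (l : List X) (h : ∀ x ∈ l, x * x = 1) (W : ℕ) :
    ∀ x < W, id x < W ∧ gen l (id x) * gen l x = 1 := by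
  intro x hx
  refine ⟨hx, ?_⟩
  simp only [gen, id, List.getD_eq_getElem?_getD]
  cases he : (1 :: l)[x]? with
  | none => simp
  | some u =>
    rcases List.mem_cons.1 (List.mem_of_getElem? he) with rfl | hu
    · simp
    · simpa using h u hu

theorem closure_le_gen (l : List X) :
    closure {x | x ∈ l} ≤ closure (gen l '' {x | x < l.length + 1}) := by
  refine closure_mono fun x hx => ?_
  obtain ⟨i, hi, rfl⟩ := List.getElem_of_mem hx
  exact ⟨i + 1, by simpa using hi, by simp [gen, hi]⟩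

theorem h3_central {a b c : X} (aa : a * a = 1) (bb : b * b = 1) (cc : c * c = 1)
    (ab : (a * b) ^ 3 = 1) (bc : (b * c) ^ 5 = 1) (ac : (a * c) ^ 2 = 1) :
    (a * b * c) ^ 5 * (a * b * c) ^ 5 = 1 ∧ Commute ((a * b * c) ^ 5) a ∧
      Commute ((a * b * c) ^ 5) b ∧ Commute ((a * b * c) ^ 5) c := by
  have h := TC.mem_of_checkWords (⊥ : Subgroup X) (g := gen [a, b, c]) rfl
    (gen_iv _ (by simp [*]) _) (by
      simp only [pow_succ, pow_zero, one_mul, mul_assoc] at ab bc ac
      simp [gen, *]) (by simp) TC.certH3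
  simp only [List.mem_cons, List.not_mem_nil, or_false, forall_eq_or_imp, forall_eq, gen,
    List.map_cons, List.map_nil, List.prod_cons, List.prod_nil, List.getD_cons_succ,
    List.getD_cons_zero, mul_one, mem_bot] at h
  have h1 : (a * b * c) ^ 5 * (a * b * c) ^ 5 = 1 := by
    simpa only [pow_succ, pow_zero, one_mul, mul_assoc] using h.2.2
  have key : ∀ u : X, u * u = 1 → (a * b * c) ^ 5 * u * ((a * b * c) ^ 5 * u) = 1 →
      Commute ((a * b * c) ^ 5) u := fun u hu h => by
    rw [commute_iff_eq, eq_inv_of_mul_eq_one_left h, mul_inv_rev, inv_eq_of_mul_eq_one_right hu,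
      inv_eq_of_mul_eq_one_right h1]
  have h2 := key a aa (by simpa only [pow_succ, pow_zero, one_mul, mul_assoc] using h.1)
  have h3 := key b bb (by simpa only [pow_succ, pow_zero, one_mul, mul_assoc] using h.2.1)
  refine ⟨h1, h2, h3, ?_⟩
  have h4 := (h2.mul_right h3).inv_right.mul_right (Commute.self_pow (a * b * c) 5).symm
  rwa [inv_mul_cancel_left] at h4

theorem Rel0.collapse {e a b c d : X} (h : Rel0 e a b c d) (h1 : (e * a * b) ^ 5 = 1)
    (h2 : e * (b * c * d) ^ 5 = 1) (K : Subgroup X) (hb : b ∈ K) (hc : c ∈ K) (hd : d ∈ K) :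
    a ∈ K := by
  obtain ⟨ee, aa, bb, cc, dd, ea, ab, bc, cd, eb, ec, ed, ac, ad, bd, abc⟩ := h
  simpa [gen] using TC.mem_of_checkWords K (g := gen [e, a, b, c, d]) rfl
    (gen_iv _ (by simp [*]) _) (by
      simp only [pow_succ, pow_zero, one_mul, mul_assoc] at *
      simp [gen, *]) (by simp [gen, *]) TC.certCollapse

theorem Rel.card_le [Finite X] {e a b c d : X} (h : Rel e a b c d) (K : Subgroup X) (hb : b ∈ K)
    (hc : c ∈ K) (hd : d ∈ K) :
    Nat.card (closure {x | x ∈ [e, a, b, c, d]}) ≤ 2926 * Nat.card K := by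
  obtain ⟨⟨ee, aa, bb, cc, dd, ea, ab, bc, cd, eb, ec, ed, ac, ad, bd, abc⟩, bcd, eab⟩ := h
  simp only [pow_succ, pow_zero, one_mul, mul_assoc] at *
  have h1 := (TC.relIndex_le_of_checkIndex (closure {x | x ∈ [a, b, c, d]})
    (g := gen [e, a, b, c, d]) rfl (gen_iv _ (by simp [*]) _) (by simp [gen, *]) (by
      simp only [List.mem_cons, List.not_mem_nil, or_false, forall_eq_or_imp, forall_eq, gen,
        List.map_cons, List.map_nil, List.prod_cons, List.prod_nil, List.getD_cons_succ,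
        List.getD_cons_zero, mul_one]
      exact ⟨subset_closure (by simp), subset_closure (by simp), subset_closure (by simp),
        subset_closure (by simp)⟩) TC.cert266 _ (closure_le_gen [e, a, b, c, d])).2
  have h2 := (TC.relIndex_le_of_checkIndex K
    (g := gen [a, b, c, d]) rfl (gen_iv _ (by simp [*]) _) (by simp [gen, *]) (by simp [gen, *])
    TC.cert11 _ (closure_le_gen [a, b, c, d])).2
  have h3 := H1.card_inf_mul_relIndex K (closure {x | x ∈ [a, b, c, d]})
  have h4 := H1.card_inf_mul_relIndex (closure {x | x ∈ [a, b, c, d]})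
    (closure {x | x ∈ [e, a, b, c, d]})
  have h5 := card_le_of_le (inf_le_left : K ⊓ closure {x | x ∈ [a, b, c, d]} ≤ _)
  have h6 := card_le_of_le (inf_le_left : closure {x | x ∈ [a, b, c, d]} ⊓
    closure {x | x ∈ [e, a, b, c, d]} ≤ _)
  have h7 := Nat.mul_le_mul h5 h2
  have h8 := Nat.mul_le_mul h6 h1
  omega

theorem Rel.prod {Y : Type*} [Group Y] {e a b c d : X} {e' a' b' c' d' : Y} (h : Rel e a b c d)
    (h' : Rel e' a' b' c' d') : Rel (e, e') (a, a') (b, b') (c, c') (d, d') :=
  ⟨⟨Prod.ext h.ee h'.ee, Prod.ext h.aa h'.aa, Prod.ext h.bb h'.bb, Prod.ext h.cc h'.cc,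
    Prod.ext h.dd h'.dd, Prod.ext h.ea h'.ea, Prod.ext h.ab h'.ab, Prod.ext h.bc h'.bc,
    Prod.ext h.cd h'.cd, Prod.ext h.eb h'.eb, Prod.ext h.ec h'.ec, Prod.ext h.ed h'.ed,
    Prod.ext h.ac h'.ac, Prod.ext h.ad h'.ad, Prod.ext h.bd h'.bd, Prod.ext h.abc h'.abc⟩,
    Prod.ext h.bcd h'.bcd, Prod.ext h.eab h'.eab⟩

theorem commute_of_sq {u v : X} (hu : u * u = 1) (hv : v * v = 1) (h : (u * v) ^ 2 = 1) :
    Commute u v := by
  rw [pow_two] at h
  rw [commute_iff_eq, eq_inv_of_mul_eq_one_left h, mul_inv_rev, inv_eq_of_mul_eq_one_right hu,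
    inv_eq_of_mul_eq_one_right hv]

/-- Two groups generated by elements satisfying the relations are isomorphic as soon as one of
them is simple and the orders are large enough. -/
theorem Rel.nonempty_equiv {Y : Type*} [Group Y] [Finite X] [Finite Y] [IsSimpleGroup Y]
    {e a b c d : X} {e' a' b' c' d' : Y} (h : Rel e a b c d) (h' : Rel e' a' b' c' d')
    (hX : closure {x | x ∈ [e, a, b, c, d]} = ⊤) (hY : closure {x | x ∈ [e', a', b', c', d']} = ⊤)
    (hc : Nat.card X = Nat.card Y)
    (hlt : 2926 * (Nat.card (centralizer ({e} : Set X)) * Nat.card (centralizer ({e'} : Set Y))) <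
      Nat.card X * Nat.card Y) : Nonempty (X ≃* Y) := by
  set D := closure {x | x ∈ [(e, e'), (a, a'), (b, b'), (c, c'), (d, d')]} with hD
  have h1 := (h.prod h').card_le ((centralizer {e}).prod (centralizer {e'}))
    ⟨mem_centralizer_singleton_iff.2 (commute_of_sq h.ee h.bb h.eb).symm,
      mem_centralizer_singleton_iff.2 (commute_of_sq h'.ee h'.bb h'.eb).symm⟩
    ⟨mem_centralizer_singleton_iff.2 (commute_of_sq h.ee h.cc h.ec).symm,
      mem_centralizer_singleton_iff.2 (commute_of_sq h'.ee h'.cc h'.ec).symm⟩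
    ⟨mem_centralizer_singleton_iff.2 (commute_of_sq h.ee h.dd h.ed).symm,
      mem_centralizer_singleton_iff.2 (commute_of_sq h'.ee h'.dd h'.ed).symm⟩
  rw [Nat.card_congr (prodEquiv _ _).toEquiv, Nat.card_prod, ← hD] at h1
  let p : D →* X := (MonoidHom.fst X Y).comp D.subtype
  let q : D →* Y := (MonoidHom.snd X Y).comp D.subtype
  have hp : Function.Surjective p := by
    rw [← MonoidHom.range_eq_top, MonoidHom.range_comp, range_subtype, hD, MonoidHom.map_closure,
      ← hX]
    congr 1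
    ext x
    simp [eq_comm]
  have hq : Function.Surjective q := by
    rw [← MonoidHom.range_eq_top, MonoidHom.range_comp, range_subtype, hD, MonoidHom.map_closure,
      ← hY]
    congr 1
    ext x
    simp [eq_comm]
  have h2 := p.ker.card_mul_index
  rw [index_ker, MonoidHom.range_eq_top.2 hp, card_top] at h2
  have h4 : p.ker = ⊥ := by
    rcases (Normal.map inferInstance q hq : (p.ker.map q).Normal).eq_bot_or_eq_top with h5 | h5
    · rw [eq_bot_iff]
      intro z hz
      have h6 : q z = 1 := mem_bot.1 (h5 ▸ mem_map_of_mem q hz)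
      exact Subtype.ext (Prod.ext hz h6)
    · have h6 := Nat.le_of_dvd Nat.card_pos (card_map_dvd p.ker q)
      rw [h5, card_top] at h6
      have h7 := Nat.mul_le_mul_right (Nat.card X) h6
      rw [mul_comm] at h7
      omega
  have h5 := (MonoidHom.ker_eq_bot_iff p).1 h4
  let f := MulEquiv.ofBijective p ⟨h5, hp⟩
  exact ⟨f.symm.trans (MulEquiv.ofBijective q ((Nat.bijective_iff_surjective_and_card q).2
    ⟨hq, (Nat.card_congr f.toEquiv).trans hc⟩))⟩

end Cfsg.Agent.P8
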