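import Cfsg.Agent.P8.Num
import Cfsg.Agent.H6.TwoPrimes

/-! Groups of shape `2 × A5` and the relations that hold in them. -/

set_option autoImplicit false

namespace Cfsg.Agent.P8

open Equiv Equiv.Perm Subgroup

/-- `φ` maps `M` onto `A5` with kernel `{1, t}`. -/
structure Good {M : Type*} [Group M] (t : M) (φ : M →* Perm (Fin 5)) : Prop where
  ker : ∀ z, φ z = 1 ↔ z = 1 ∨ z = t
  even : ∀ z, sign (φ z) = 1
  surj : ∀ σ, sign σ = 1 → ∃ z, φ z = σ

def u0 : Perm (Fin 5) := swap 0 1 * swap 2 3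

def I5 : List (Perm (Fin 5)) := [swap 0 1 * swap 2 3, swap 0 2 * swap 1 3, swap 0 3 * swap 1 2,
  swap 0 1 * swap 2 4, swap 0 2 * swap 1 4, swap 0 4 * swap 1 2,
  swap 0 1 * swap 4 3, swap 0 4 * swap 1 3, swap 0 3 * swap 1 4,
  swap 0 4 * swap 2 3, swap 0 2 * swap 4 3, swap 0 3 * swap 4 2,
  swap 4 1 * swap 2 3, swap 4 2 * swap 1 3, swap 4 3 * swap 1 2]

theorem mem_I5 : ∀ u : Perm (Fin 5), u * u = 1 → u ≠ 1 → sign u = 1 → u ∈ I5 := by
  decide +kernel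

theorem conj_u0 : ∀ u ∈ I5, ∃ g : Perm (Fin 5), g * u = u0 * g ∧ sign g = 1 := by
  decide +kernel

theorem comm_u0 : ∀ b ∈ I5, b * u0 = u0 * b → b ≠ u0 →
    b ∈ [swap 0 2 * swap 1 3, swap 0 3 * swap 1 2] := by
  decide +kernel

set_option synthInstance.maxSize 2000 in
theorem five_u0 : ∀ y : Perm (Fin 5), u0 * y * u0 * y = 1 → y ^ 5 = 1 → y ≠ 1 →
    ∀ b ∈ [swap 0 2 * swap 1 3, swap 0 3 * swap 1 2],
    ((u0 * y * b) ^ 3 = 1 ∧ (y * b) ^ 5 = 1) ∨
      ((u0 * y ^ 2 * b) ^ 3 = 1 ∧ (y ^ 2 * b) ^ 5 = 1) := by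
  decide +kernel

set_option synthInstance.maxSize 2000 in
theorem three_u0 : ∀ x : Perm (Fin 5), u0 * x * u0 * x = 1 → x ^ 3 = 1 → x ≠ 1 →
    ∀ b ∈ [swap 0 2 * swap 1 3, swap 0 3 * swap 1 2],
    (b * (u0 * x)) ^ 5 = 1 ∧ (b * (u0 * x) * u0) ^ 5 = 1 := by
  decide +kernel

variable {M : Type*} [Group M] {t : M} {φ : M →* Perm (Fin 5)}

theorem Good.mem (h : Good t φ) {u : M} (hu : u * u = 1 ∨ u * u = t) (h1 : u ≠ 1) (h2 : u ≠ t) :
    φ u ∈ I5 :=
  mem_I5 _ (by rw [← map_mul, h.ker]; exact hu) (by rw [Ne, h.ker]; tauto) (h.even u)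

theorem Good.norm (h : Good t φ) {u : M} (hu : u * u = 1 ∨ u * u = t) (h1 : u ≠ 1) (h2 : u ≠ t) :
    ∃ g, φ (g * u * g⁻¹) = u0 := by
  obtain ⟨σ, h3, h4⟩ := conj_u0 _ (h.mem hu h1 h2)
  obtain ⟨g, rfl⟩ := h.surj σ h4
  exact ⟨g, by rw [map_mul, map_mul, h3, map_inv, mul_inv_cancel_right]⟩

theorem Good.conj (h : Good t φ) {u v : M} (hu : u * u = 1 ∨ u * u = t) (h1 : u ≠ 1) (h2 : u ≠ t)
    (hv : v * v = 1 ∨ v * v = t) (h3 : v ≠ 1) (h4 : v ≠ t) :
    ∃ g, g * u * g⁻¹ = v ∨ g * u * g⁻¹ = v * t := by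
  obtain ⟨g, hg⟩ := h.norm hu h1 h2
  obtain ⟨k, hk⟩ := h.norm hv h3 h4
  have h5 : φ (v⁻¹ * (k⁻¹ * g * u * (k⁻¹ * g)⁻¹)) = 1 := by
    rw [show v⁻¹ * (k⁻¹ * g * u * (k⁻¹ * g)⁻¹) = k⁻¹ * ((k * v * k⁻¹)⁻¹ * (g * u * g⁻¹)) * k by
      group, map_mul, map_mul, map_mul, map_inv φ (k * v * k⁻¹), hg, hk]
    simp
  rw [h.ker, inv_mul_eq_one, inv_mul_eq_iff_eq_mul] at h5
  exact ⟨k⁻¹ * g, h5.imp Eq.symm id⟩

theorem Good.comp (h : Good t φ) (g : M) : Good t ((MulAut.conj (φ g)).toMonoidHom.comp φ) where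
  ker z := by simp [← h.ker]
  even z := by simp [h.even]
  surj σ hσ := by
    obtain ⟨z, hz⟩ := h.surj ((φ g)⁻¹ * σ * φ g) (by simp [h.even, hσ])
    exact ⟨z, by simp [hz, mul_assoc]⟩

theorem Good.exists_norm (h : Good t φ) {u : M} (hu : u * u = 1) (h1 : u ≠ 1) (h2 : u ≠ t) :
    ∃ ψ, Good t ψ ∧ ψ u = u0 := by
  obtain ⟨g, hg⟩ := h.norm (Or.inl hu) h1 h2
  exact ⟨_, h.comp g, by simpa using hg⟩

theorem Good.mem_two (h : Good t φ) {e b : M} (he : φ e = u0) (hb : b * b = 1) (h1 : b ≠ 1)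
    (h2 : b ≠ t) (h3 : b ≠ e) (h4 : b ≠ e * t) (hc : b * e = e * b) :
    φ b ∈ [swap 0 2 * swap 1 3, swap 0 3 * swap 1 2] := by
  refine comm_u0 _ (h.mem (Or.inl hb) h1 h2) (by rw [← he, ← map_mul, hc, map_mul]) fun h5 => ?_
  have h6 : φ (e⁻¹ * b) = 1 := by rw [map_mul, map_inv, he, h5, inv_mul_cancel]
  rw [h.ker, inv_mul_eq_one, inv_mul_eq_iff_eq_mul] at h6
  exact h6.elim (fun h => h3 h.symm) h4

theorem Good.five (h : Good t φ) (ht : t * t = 1) {e b y : M} (he : e * e = 1) (he1 : e ≠ 1)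
    (he2 : e ≠ t) (hb : b * b = 1) (h1 : b ≠ 1) (h2 : b ≠ t) (h3 : b ≠ e) (h4 : b ≠ e * t)
    (hc : b * e = e * b) (hy : orderOf y = 5) (hey : e * y * e = y⁻¹) :
    ∃ j, (j = 1 ∨ j = 2) ∧ ((e * y ^ j * b) ^ 3 = 1 ∨ (e * y ^ j * b) ^ 3 = t) ∧
      ((y ^ j * b) ^ 5 = 1 ∨ (y ^ j * b) ^ 5 = t) := by
  obtain ⟨ψ, hψ, h5⟩ := h.exists_norm he he1 he2
  have h6 := five_u0 (ψ y) (by rw [← h5, ← map_mul, ← map_mul, hey, ← map_mul]; simp)
    (by rw [← map_pow, orderOf_dvd_iff_pow_eq_one.1 hy.dvd, map_one]) (by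
      rw [Ne, hψ.ker]
      rintro (rfl | rfl)
      · simp at hy
      · rw [← pow_two, ← orderOf_dvd_iff_pow_eq_one, hy] at ht; omega) _
    (hψ.mem_two h5 hb h1 h2 h3 h4 hc)
  simp only [← h5, ← map_mul, ← map_pow, hψ.ker] at h6
  rcases h6 with h6 | h6
  · exact ⟨1, Or.inl rfl, by rwa [pow_one]⟩
  · exact ⟨2, Or.inr rfl, h6⟩

theorem Good.three (h : Good t φ) (ht : t * t = 1) {d b x : M} (hd : d * d = 1) (hd1 : d ≠ 1)
    (hd2 : d ≠ t) (hb : b * b = 1) (h1 : b ≠ 1) (h2 : b ≠ t) (h3 : b ≠ d) (h4 : b ≠ d * t)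
    (hc : b * d = d * b) (hx : orderOf x = 3) (hdx : d * x * d = x⁻¹) :
    ((b * (d * x)) ^ 5 = 1 ∨ (b * (d * x)) ^ 5 = t) ∧
      ((b * (d * x) * d) ^ 5 = 1 ∨ (b * (d * x) * d) ^ 5 = t) := by
  obtain ⟨ψ, hψ, h5⟩ := h.exists_norm hd hd1 hd2
  have h6 := three_u0 (ψ x) (by rw [← h5, ← map_mul, ← map_mul, hdx, ← map_mul]; simp)
    (by rw [← map_pow, ← hx, pow_orderOf_eq_one, map_one]) (by
      rw [Ne, hψ.ker]
      rintro (rfl | rfl)
      · simp at hx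
      · rw [← pow_two, ← orderOf_dvd_iff_pow_eq_one, hx] at ht; omega) _
    (hψ.mem_two h5 hb h1 h2 h3 h4 hc)
  simpa only [← h5, ← map_mul, ← map_pow, hψ.ker] using h6

open MulAction in
theorem exists_good [Finite M] (hM : Nat.card M = 120) (ht : t * t = 1) (ht1 : t ≠ 1)
    (hc : ∀ g, g * t = t * g) (h5 : Nat.card (Sylow 5 M) = 6) (h3 : Nat.card (Sylow 3 M) = 10)
    (h4 : ∀ P : Sylow 5 M, ¬ 4 ∣ Nat.card (centralizer ((P : Subgroup M) : Set M))) :
    ∃ φ, Good t φ := by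
  classical
  have : Fact (Nat.Prime 5) := ⟨by norm_num⟩
  letI := Fintype.ofFinite (Sylow 5 M)
  let ψ := toPermHom M (Sylow 5 M)
  let P : Sylow 5 M := Classical.arbitrary _
  have hP : ∀ P : Sylow 5 M, Nat.card P = 5 := fun P =>
    H9.card_sylow_eq_of_not_sq_dvd P (by rw [hM]; norm_num) (by rw [hM]; norm_num)
  have hot : orderOf t = 2 := orderOf_eq_prime (by rw [pow_two, ht]) ht1
  have hKN : ∀ Q : Sylow 5 M, ψ.ker ≤ normalizer ((Q : Subgroup M) : Set M) := fun Q k hk =>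
    Sylow.smul_eq_iff_mem_normalizer.1 (DFunLike.congr_fun (MonoidHom.mem_ker.1 hk) Q)
  have htK : t ∈ ψ.ker := by
    rw [MonoidHom.mem_ker]
    ext1 Q
    exact Sylow.smul_eq_iff_mem_normalizer.2 (centralizer_le_normalizer _ fun g _ => hc g)
  have hPK : (P : Subgroup M) ⊓ ψ.ker = ⊥ := by
    rw [eq_bot_iff]
    rintro c ⟨h1, h2⟩
    by_contra h6
    have h7 := H9.fixedBy_sylow_eq_singleton P (hP P) h1 h6
    have h8 : fixedBy (Sylow 5 M) c = Set.univ := Set.eq_univ_of_forall fun Q =>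
      Sylow.smul_eq_iff_mem_normalizer.2 (hKN Q h2)
    have h9 := congrArg Set.ncard (h7.symm.trans h8)
    rw [Set.ncard_singleton, Set.ncard_univ] at h9
    omega
  have hKC : ψ.ker ≤ centralizer ((P : Subgroup M) : Set M) := by
    have := H1.inf_normalizer_eq_inf_centralizer (A := (P : Subgroup M)) (G := ψ.ker)
      le_normalizer_of_normal hPK
    rw [inf_eq_left.2 (hKN P)] at this
    exact inf_eq_left.1 this.symm
  have hK : ψ.ker = zpowers t := by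
    refine (H1.eq_of_le_of_card_le (zpowers_le.2 htK) ?_).symm
    have h1 := card_normalizer_sylow P
    rw [h5, hM] at h1
    have h2 := card_dvd_of_le (sup_le (hKN P) (le_normalizer (H := (P : Subgroup M))))
    rw [H1.card_sup_of_inf_eq_bot (hKN P) (by rw [inf_comm, hPK]), hP,
      show Nat.card (normalizer ((P : Subgroup M) : Set M)) = 4 * 5 by omega] at h2
    have h6 := Nat.dvd_of_mul_dvd_mul_right (by norm_num) h2
    have h7 : Nat.card ψ.ker ≠ 4 := fun h => h4 P (h ▸ card_dvd_of_le hKC)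
    rw [Nat.card_zpowers, hot]
    exact (by decide : ∀ n ≤ 4, n ∣ 4 → n ≠ 4 → n ≤ 2) _ (Nat.le_of_dvd (by norm_num) h6) h6 h7
  have hr : Nat.card ψ.range = 60 := by
    have := ψ.ker.card_mul_index
    rw [hK, Nat.card_zpowers, hot, ← hK, index_ker, hM] at this
    omega
  have hA : ψ.range ≤ alternatingGroup (Sylow 5 M) := by
    let L := (sign.comp ψ).ker
    suffices h : L = ⊤ by
      rintro _ ⟨g, rfl⟩
      exact (h ▸ mem_top g : g ∈ L)
    by_contra hL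
    have h1 : Nat.card L ≤ 60 := by
      have a1 := L.card_mul_index
      have a2 : L.index ≠ 1 := by rwa [Ne, index_eq_one]
      have a3 : L.index ≠ 0 := index_ne_zero_of_finite
      have a4 : 2 ≤ L.index := by omega
      have := Nat.mul_le_mul_left (Nat.card L) a4
      omega
    have hodd : ∀ z : M, Odd (orderOf z) → z ∈ L := fun z hz => by
      have a1 : (sign (ψ z)) ^ orderOf z = 1 := by
        rw [← map_pow, ← map_pow, pow_orderOf_eq_one, map_one, map_one]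
      rcases Int.units_eq_one_or (sign (ψ z)) with a2 | a2
      · exact a2
      · rw [a2, hz.neg_one_pow] at a1; exact absurd a1 (by decide)
    have htL : t ∈ L := by
      change sign (ψ t) = 1
      rw [MonoidHom.mem_ker.1 htK, map_one]
    let Y : Set M := {z | orderOf z = 3} ∪ {z | orderOf z = 5}
    have hY : ∀ z ∈ Y, Odd (orderOf z) := by
      rintro z (hz | hz) <;> rw [hz] <;> decide
    have h2 : 44 ≤ Y.ncard := by
      let Q : Sylow 3 M := Classical.arbitrary _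
      have a1 := H8.mul_le_ncard_orderOf_eq P (hP P)
      have a2 := H8.mul_le_ncard_orderOf_eq Q (H9.card_sylow_eq_of_not_sq_dvd Q
        (by rw [hM]; norm_num) (by rw [hM]; norm_num))
      rw [Set.ncard_union_eq (Set.disjoint_left.2 fun z a b => by
        have := a.symm.trans b; omega)]
      omega
    have h6 : (Y ∪ (fun z => z * t) '' Y).ncard ≤ 60 := by
      refine le_trans (Set.ncard_le_ncard (t := (L : Set M)) ?_) h1
      rintro _ (hz | ⟨z, hz, rfl⟩)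
      · exact hodd _ (hY _ hz)
      · exact mul_mem (hodd _ (hY _ hz)) htL
    rw [Set.ncard_union_eq, Set.ncard_image_of_injective _ (mul_left_injective t)] at h6
    · omega
    · rw [Set.disjoint_right]
      rintro _ ⟨z, hz, rfl⟩ hz'
      have a1 : (z * t) ^ (orderOf z * orderOf (z * t)) = 1 := by
        rw [mul_comm, pow_mul, pow_orderOf_eq_one, one_pow]
      rw [Commute.mul_pow (hc z), pow_mul, pow_orderOf_eq_one, one_pow, one_mul,
        ← orderOf_dvd_iff_pow_eq_one, hot] at a1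
      exact ((hY _ hz).mul (hY _ hz')).not_two_dvd_nat a1
  have h6 : Fintype.card (Sylow 5 M) = 6 := by rw [← Nat.card_eq_fintype_card, h5]
  obtain ⟨f⟩ := H6.nonempty_equiv_five_of_relIndex h6 hA (by
    have := H1.card_mul_relIndex hA
    rw [hr, H6.card_alternatingGroup_of_card (n := 4) h6] at this
    norm_num [Nat.factorial] at this
    omega)
  refine ⟨(alternatingGroup (Fin 5)).subtype.comp (f.toMonoidHom.comp ψ.rangeRestrict),
    fun z => ?_, fun z => (f _).2, fun σ hσ => ?_⟩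
  · have : z ∈ zpowers t ↔ z = 1 ∨ z = t := by
      refine ⟨fun h => ?_, fun h => h.elim (· ▸ one_mem _) (· ▸ mem_zpowers t)⟩
      obtain ⟨i, hi, rfl⟩ := Finset.mem_image.1 (mem_zpowers_iff_mem_range_orderOf.1 h)
      rw [hot, Finset.mem_range] at hi
      interval_cases i <;> simp
    rw [← this, ← hK, ← MonoidHom.ker_rangeRestrict, MonoidHom.mem_ker]
    simp
  · obtain ⟨z, hz⟩ := ψ.rangeRestrict_surjective (f.symm ⟨σ, hσ⟩)
    exact ⟨z, by simp [hz]⟩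

end Cfsg.Agent.P8
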