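import Cfsg.Agent.P8.Tw
import Cfsg.Agent.P8.Pres
import Cfsg.Agent.P7.Defs
import Cfsg.Agent.Cj.Ext

/-! Groups whose involution centralizers are `2 × A5`: the facts inside the centralizer. -/

set_option autoImplicit false

namespace Cfsg.Agent.P8

open Equiv Equiv.Perm Subgroup Cfsg Cfsg.Agent Cfsg.Agent.FT

theorem nonempty_PSL25 {F : Type*} [Field F] [Fintype F] (h : Fintype.card F = 5) :
    Nonempty (Matrix.ProjectiveSpecialLinearGroup (Fin 2) F ≃* alternatingGroup (Fin 5)) := by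
  have : Fact (Nat.Prime 5) := ⟨by norm_num⟩
  obtain ⟨e⟩ := P3.nonempty_PSL2_equiv_of_ringEquiv
    (FiniteField.ringEquivOfCardEq (K := F) (K' := ZMod 5) (by rw [h, ZMod.card]))
  obtain ⟨ρ, w, hρ⟩ := Cj.exists_DC_SL25
  have h1 : center H8.SL25 = ρ.ker := by
    refine le_antisymm (fun z hz => ?_) fun z hz => ?_
    · have h2 : ρ z ∈ center (alternatingGroup (Fin 5)) := mem_center_iff.2 fun g => by
        obtain ⟨g, rfl⟩ := hρ.surj g
        rw [← map_mul, ← map_mul, mem_center_iff.1 hz]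
      have h3 : ∀ x : Perm (Fin 5), x * (swap 0 1 * swap 2 3) = (swap 0 1 * swap 2 3) * x →
          x * (swap 0 1 * swap 2 4) = (swap 0 1 * swap 2 4) * x → sign x = 1 → x = 1 := by
        decide +kernel
      exact Subtype.ext (h3 _
        (congrArg Subtype.val (mem_center_iff.1 h2 ⟨_, mem_alternatingGroup.2 (by decide)⟩)).symm
        (congrArg Subtype.val (mem_center_iff.1 h2 ⟨_, mem_alternatingGroup.2 (by decide)⟩)).symm (ρ z).2)
    · rcases hρ.ker z hz with rfl | rfl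
      · exact one_mem _
      · exact mem_center_iff.2 fun g => mul_inv_eq_iff_eq_mul.1 (hρ.comm g)
  exact ⟨e.trans ((QuotientGroup.quotientMulEquivOfEq h1).trans
    (QuotientGroup.quotientKerEquivOfSurjective ρ hρ.surj))⟩

/-- A direct product of a central involution with `A5`. -/
theorem good_of_prod {G : Type*} [Group G] {t : G} {L : Subgroup G} (ht : t * t = 1)
    (ht1 : t ≠ 1) (h : 𝐂[t] = zpowers t ⊔ L) (e : L ≃* alternatingGroup (Fin 5)) :
    ∃ φ : 𝐂[t] →* Perm (Fin 5), Good (self t) φ := by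
  have hL : L ≤ 𝐂[t] := h ▸ le_sup_right
  have hn : (zpowers (self t)).Normal := ⟨fun n hn g => by
    obtain ⟨i, rfl⟩ := hn
    have : Commute g (self t) := Subtype.ext (mem_cent.1 g.2)
    rw [(this.zpow_right i).eq, mul_inv_cancel_right]
    exact ⟨i, rfl⟩⟩
  have hs : self t * self t = 1 := Subtype.ext ht
  have htL : t ∉ L := fun hm => by
    have h3 : ∀ x : Perm (Fin 5), x * (swap 0 1 * swap 2 3) = (swap 0 1 * swap 2 3) * x →
        x * (swap 0 1 * swap 2 4) = (swap 0 1 * swap 2 4) * x → sign x = 1 → x = 1 := by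
      decide +kernel
    have h4 : ∀ g, e ⟨t, hm⟩ * g = g * e ⟨t, hm⟩ := fun g => by
      obtain ⟨g, rfl⟩ := e.surjective g
      rw [← map_mul, ← map_mul]
      exact congrArg e (Subtype.ext (mem_cent1.1 (hL g.2)))
    have h5 : e ⟨t, hm⟩ = 1 := Subtype.ext (h3 _ (congrArg Subtype.val (h4 ⟨_, mem_alternatingGroup.2 (by decide)⟩))
      (congrArg Subtype.val (h4 ⟨_, mem_alternatingGroup.2 (by decide)⟩)) (e _).2)
    exact ht1 (congrArg Subtype.val ((map_eq_one_iff _ e.injective).1 h5))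
  let f := (QuotientGroup.mk' (zpowers (self t))).comp (inclusion hL)
  have hf : Function.Bijective f := by
    refine ⟨(injective_iff_map_eq_one f).2 fun a ha => ?_, fun b => ?_⟩
    · rcases mem_zpowers_invol hs ((QuotientGroup.eq_one_iff _).1 ha) with h1 | h1
      · exact Subtype.ext (congrArg (fun x : 𝐂[t] => (x : G)) h1)
      · have h2 : (a : G) = t := congrArg (fun x : 𝐂[t] => (x : G)) h1
        exact absurd (h2 ▸ a.2) htL
    · obtain ⟨b, rfl⟩ := QuotientGroup.mk_surjective b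
      obtain ⟨z, hz, l, hl, h2⟩ := (H1.mem_sup_iff_of_le_normalizer (zpowers_le.2
        (centralizer_le_normalizer _ fun g hg => (mem_cent1.1 (hL hg)).symm))).1 (h.le b.2)
      refine ⟨⟨l, hl⟩, (QuotientGroup.eq.2 ?_).symm⟩
      rcases mem_zpowers_invol ht hz with rfl | rfl
      · have : b = inclusion hL ⟨l, hl⟩ := Subtype.ext (by simpa using h2.symm)
        simp [this]
      · have : b = self z * inclusion hL ⟨l, hl⟩ := Subtype.ext h2.symm
        rw [this, mul_inv_rev, mul_assoc]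
        simpa [mul_assoc] using hn.conj_mem _ (inv_mem (mem_zpowers (self z))) (inclusion hL ⟨l, hl⟩)⁻¹
  let g := (MulEquiv.ofBijective f hf).symm.trans e
  refine ⟨(alternatingGroup (Fin 5)).subtype.comp
    (g.toMonoidHom.comp (QuotientGroup.mk' _)), fun z => ?_, fun z => (g _).2, fun σ hσ => ?_⟩
  · simp only [MonoidHom.comp_apply, subtype_apply, OneMemClass.coe_eq_one, MulEquiv.coe_toMonoidHom,
      map_eq_one_iff _ g.injective, QuotientGroup.mk'_apply, QuotientGroup.eq_one_iff]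
    exact ⟨mem_zpowers_invol hs, fun h => h.elim (fun h => h ▸ one_mem _) fun h => h ▸ mem_zpowers _⟩
  · obtain ⟨z, hz⟩ := g.surjective ⟨σ, hσ⟩
    obtain ⟨z, rfl⟩ := QuotientGroup.mk_surjective z
    exact ⟨z, congrArg Subtype.val hz⟩

theorem d_I5 : ∀ u ∈ I5, u * u = 1 ∧ u ≠ 1 ∧ sign u = 1 := by decide +kernel

set_option synthInstance.maxSize 2000 in
theorem d_cent : ∀ y : Perm (Fin 5), y ^ 3 = 1 ∨ y ^ 5 = 1 → y ≠ 1 → ∀ z, z * y = y * z →
    sign z = 1 → ∃ i ∈ [0, 1, 2, 3, 4], z = y ^ i := by decide +kernel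

theorem d_inv : ∀ y : Perm (Fin 5), y ^ 3 = 1 ∨ y ^ 5 = 1 → ∃ u ∈ I5, u * y * u * y = 1 := by
  decide +kernel

theorem d_four : ∀ z : Perm (Fin 5), z * u0 = u0 * z → sign z = 1 → z * z = 1 := by decide +kernel

set_option synthInstance.maxSize 2000 in
theorem d_fifteen : ∀ x : Perm (Fin 5), x ^ 3 = 1 → x ≠ 1 → ∀ y : Perm (Fin 5), y ^ 5 = 1 → y ≠ 1 →
    ∃ i ∈ [1, 2, 3, 4], x * y ^ i * (x * y ^ i) = 1 ∧ x * y ^ i ≠ 1 := by decide +kernel

set_option synthInstance.maxSize 2000 in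
theorem d_two : ∀ y : Perm (Fin 5), u0 * y * u0 * y = 1 → y ^ 5 = 1 → y ≠ 1 →
    ∀ z : Perm (Fin 5), u0 * z * u0 * z = 1 → z ^ 5 = 1 → z ≠ 1 →
    ∃ k ∈ [1, swap 0 2 * swap 1 3], ∃ i ∈ [1, 2, 3, 4], k * y = z ^ i * k := by decide +kernel

section M

variable {M : Type*} [Group M] {t : M} {φ : M →* Perm (Fin 5)}

theorem Good.card [Finite M] (h : Good t φ) (ht : t * t = 1) (ht1 : t ≠ 1) : Nat.card M = 120 := by
  have h1 : φ.ker = zpowers t := by
    ext z
    rw [MonoidHom.mem_ker, h.ker]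
    exact ⟨fun h => h.elim (fun h => h ▸ one_mem _) fun h => h ▸ mem_zpowers _,
      mem_zpowers_invol ht⟩
  have h2 : φ.range = alternatingGroup (Fin 5) := by
    ext σ
    exact ⟨fun ⟨z, hz⟩ => hz ▸ h.even z, h.surj σ⟩
  have h3 := φ.ker.card_mul_index
  have h4 := two_mul_nat_card_alternatingGroup (α := Fin 5)
  rw [Nat.card_perm, Nat.card_fin] at h4
  rw [index_ker, h1, h2, Nat.card_zpowers, orderOf_invol ht ht1, h4] at h3
  exact h3.symm

theorem Good.eq_iff (h : Good t φ) {a b : M} (e : φ a = φ b) : a = b ∨ a = b * t := by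
  have h1 : φ (b⁻¹ * a) = 1 := by rw [map_mul, map_inv, e, inv_mul_cancel]
  rw [h.ker, inv_mul_eq_one, inv_mul_eq_iff_eq_mul] at h1
  exact h1.imp Eq.symm id

theorem Good.eq_of_odd (h : Good t φ) (ht : t * t = 1) (hc : ∀ g, g * t = t * g) {a b : M}
    {n : ℕ} (hn : Odd n) (ha : a ^ n = 1) (hb : b ^ n = 1) (e : φ a = φ b) : a = b := by
  refine (h.eq_iff e).elim id fun h1 => ?_
  rw [h1, P5.mul_pow_odd hn ht (hc b).symm hb] at ha
  rw [h1, ha, mul_one]

theorem Good.ne_one (h : Good t φ) (ht : t * t = 1) (hc : ∀ g, g * t = t * g) {a : M}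
    {n : ℕ} (hn : Odd n) (ha : a ^ n = 1) (h1 : a ≠ 1) : φ a ≠ 1 := fun e =>
  h1 (h.eq_of_odd ht hc hn ha (one_pow n) (by rw [e, map_one]))

theorem Good.cent_mem (h : Good t φ) (ht : t * t = 1) (hc : ∀ g, g * t = t * g) {g z : M} {p : ℕ}
    (hp : p = 3 ∨ p = 5) (hg : g ^ p = 1) (h1 : g ≠ 1) (hz : Commute z g) :
    z ∈ zpowers g ∨ z * t ∈ zpowers g := by
  have ho : Odd p := by rcases hp with rfl | rfl <;> decide
  obtain ⟨i, -, hi⟩ := d_cent (φ g) (by
    rcases hp with rfl | rfl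
    · exact Or.inl (by rw [← map_pow, hg, map_one])
    · exact Or.inr (by rw [← map_pow, hg, map_one]))
    (h.ne_one ht hc ho hg h1) (φ z) (by rw [← map_mul, hz.eq, map_mul]) (h.even z)
  rw [← map_pow] at hi
  refine (h.eq_iff hi).imp (fun e => by rw [e]; exact npow_mem_zpowers g i) fun e => ?_
  rw [e, mul_assoc, ht, mul_one]
  exact npow_mem_zpowers g i

theorem Good.sq' (h : Good t φ) (ht : t * t = 1) (h4 : ∀ x : M, x ^ 4 = 1 → x * x = 1) {u : M}
    (hu : φ u * φ u = 1) : u * u = 1 := by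
  rw [← map_mul, h.ker] at hu
  refine hu.elim id fun h1 => h4 u ?_
  rw [show u ^ 4 = u * u * (u * u) by simp only [pow_succ, pow_zero, one_mul, mul_assoc], h1, ht]

theorem Good.exists_inv (h : Good t φ) (ht : t * t = 1) (hc : ∀ g, g * t = t * g)
    (h4 : ∀ x : M, x ^ 4 = 1 → x * x = 1) {g : M} {p : ℕ} (hp : p = 3 ∨ p = 5) (hg : g ^ p = 1) :
    ∃ s, s * s = 1 ∧ s * g * s⁻¹ = g⁻¹ := by
  have ho : Odd p := by rcases hp with rfl | rfl <;> decide
  obtain ⟨u, hu, h1⟩ := d_inv (φ g) (by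
    rcases hp with rfl | rfl
    · exact Or.inl (by rw [← map_pow, hg, map_one])
    · exact Or.inr (by rw [← map_pow, hg, map_one]))
  obtain ⟨s, rfl⟩ := h.surj u (d_I5 u hu).2.2
  have h2 := h.sq' ht h4 (d_I5 _ hu).1
  refine ⟨s, h2, h.eq_of_odd ht hc ho (by rw [conj_pow, hg]; simp) (by rw [inv_pow, hg, inv_one]) ?_⟩
  rw [P5.inv_eq_of_sq h2, map_mul, map_mul, map_inv, eq_inv_iff_mul_eq_one, h1]

theorem Good.sq_of_comm (h : Good t φ) (ht : t * t = 1) (h4 : ∀ x : M, x ^ 4 = 1 → x * x = 1)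
    {s z : M} (hs : s * s = 1) (h1 : s ≠ 1) (h2 : s ≠ t) (hz : Commute z s) : z * z = 1 := by
  obtain ⟨ψ, hψ, h3⟩ := h.exists_norm hs h1 h2
  exact hψ.sq' ht h4 (d_four _ (by rw [← h3, ← map_mul, hz.eq, map_mul]) (hψ.even z))

theorem Good.card_odd [Finite M] (h : Good t φ) (ht : t * t = 1) (ht1 : t ≠ 1)
    (hc : ∀ g, g * t = t * g) (h4 : ∀ x : M, x ^ 4 = 1 → x * x = 1) {K : Subgroup M}
    (hK : Odd 𝐨(K)) : 𝐨(K) = 1 ∨ 𝐨(K) = 3 ∨ 𝐨(K) = 5 := by
  have h1 : 𝐨(K) ∣ 8 * 15 := (card_subgroup_dvd_card K).trans (h.card ht ht1).dvd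
  have h2 : 𝐨(K) ∣ 15 := (Nat.Coprime.dvd_mul_left
    ((Nat.coprime_two_right.2 hK).pow_right 3)).1 h1
  have h3 : 𝐨(K) ≠ 15 := fun e => by
    have : Fact (Nat.Prime 5) := ⟨by norm_num⟩
    obtain ⟨x, hx⟩ := exists_prime_orderOf_dvd_card' (G := K) 3 (by rw [e]; norm_num)
    obtain ⟨y, hy⟩ := exists_prime_orderOf_dvd_card' (G := K) 5 (by rw [e]; norm_num)
    have x3 : (x : M) ^ 3 = 1 := by rw [← hx, ← orderOf_coe, pow_orderOf_eq_one]
    have y5 : (y : M) ^ 5 = 1 := by rw [← hy, ← orderOf_coe, pow_orderOf_eq_one]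
    obtain ⟨i, -, h5, h6⟩ := d_fifteen (φ x) (by rw [← map_pow, x3, map_one])
      (h.ne_one ht hc (by decide) x3 fun e => by simp [show x = 1 from Subtype.ext e] at hx)
      (φ y) (by rw [← map_pow, y5, map_one])
      (h.ne_one ht hc (by decide) y5 fun e => by simp [show y = 1 from Subtype.ext e] at hy)
    rw [← map_pow, ← map_mul] at h5 h6
    exact h6 (by
      rw [P5.eq_one_of_odd hK (mul_mem x.2 (pow_mem y.2 i)) (h.sq' ht h4 h5), map_one])
  have h5 := Nat.le_of_dvd (by norm_num) h2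
  generalize 𝐨(K) = n at *
  interval_cases n <;> simp_all

theorem Good.exists_conj_five (h : Good t φ) (ht : t * t = 1) (hc : ∀ g, g * t = t * g)
    (h4 : ∀ x : M, x ^ 4 = 1 → x * x = 1) {s y z : M} (hs : s * s = 1) (h1 : s ≠ 1) (h2 : s ≠ t)
    (hy : y ^ 5 = 1) (hy1 : y ≠ 1) (hsy : s * y * s⁻¹ = y⁻¹) (hz : z ^ 5 = 1) (hz1 : z ≠ 1)
    (hsz : s * z * s⁻¹ = z⁻¹) : ∃ k, Commute k s ∧ k * y * k⁻¹ ∈ zpowers z := by
  obtain ⟨ψ, hψ, h3⟩ := h.exists_norm hs h1 h2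
  rw [P5.inv_eq_of_sq hs] at hsy hsz
  obtain ⟨κ, hκ, i, -, h5⟩ := d_two (ψ y) (by rw [← h3, ← map_mul, ← map_mul, hsy, ← map_mul]; simp)
    (by rw [← map_pow, hy, map_one]) (hψ.ne_one ht hc (by decide) hy hy1) (ψ z)
    (by rw [← h3, ← map_mul, ← map_mul, hsz, ← map_mul]; simp)
    (by rw [← map_pow, hz, map_one]) (hψ.ne_one ht hc (by decide) hz hz1)
  have h6 : sign κ = 1 ∧ κ * κ = 1 ∧ κ * u0 * (κ * u0) = 1 :=
    (by decide +kernel : ∀ κ ∈ [1, swap 0 2 * swap 1 3],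
      sign κ = 1 ∧ κ * κ = 1 ∧ κ * u0 * (κ * u0) = 1) κ hκ
  obtain ⟨k, rfl⟩ := hψ.surj κ h6.1
  refine ⟨k, commute_of_sq (hψ.sq' ht h4 h6.2.1) hs
    (by rw [pow_two]; exact hψ.sq' ht h4 (by rw [map_mul, h3]; exact h6.2.2)), ?_⟩
  rw [hψ.eq_of_odd ht hc (n := 5) (by decide) (a := k * y * k⁻¹) (b := z ^ i)
    (by rw [conj_pow, hy]; simp) (by rw [← pow_mul, mul_comm, pow_mul, hz, one_pow])
    (by rw [map_mul, map_mul, h5, map_inv, mul_inv_cancel_right, map_pow])]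
  exact npow_mem_zpowers z i

end M

end Cfsg.Agent.P8
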