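import Cfsg.Agent.P8.Loc

/-! A simple group of order 175560 is generated by elements satisfying the relations of `J1`. -/

set_option autoImplicit false

namespace Cfsg.Agent.P8

open Subgroup

variable {G : Type*} [Group G] [Finite G]

omit [Finite G] in
theorem centralizer_zpowers (x : G) :
    centralizer ((zpowers x : Subgroup G) : Set G) = centralizer {x} := by
  rw [zpowers_eq_closure, centralizer_closure]

theorem commute_of_mem_zpowers {p : ℕ} [Fact p.Prime] {y u a : G} (hy : orderOf y = p)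
    (hu : u ∈ zpowers y) (hu1 : u ≠ 1) (h : Commute a u) : Commute a y := by
  obtain ⟨i, hi⟩ := mem_zpowers_of_prime_card (G := zpowers y) (p := p)
    (by rw [Nat.card_zpowers, hy]) (g := ⟨u, hu⟩)
    (fun a => hu1 (congrArg Subtype.val a)) (g' := ⟨y, mem_zpowers y⟩)
  have hi' : u ^ i = y := congrArg Subtype.val hi
  exact hi' ▸ h.zpow_right i

theorem inverts_of_not_commute {p : ℕ} [Fact p.Prime] {y e : G} (hy : orderOf y = p)
    (he : e * e = 1) (hn : e ∈ normalizer ((zpowers y : Subgroup G) : Set G))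
    (h : ¬ Commute e y) : e * y * e = y⁻¹ := by
  have h1 := H1.conj_mem_of_le_normalizer le_rfl hn (mem_zpowers y)
  rw [inv_eq_of_mul_eq_one_right he] at h1
  by_contra h2
  refine h (commute_of_mem_zpowers hy (mul_mem h1 (mem_zpowers y))
    (fun a => h2 (eq_inv_of_mul_eq_one_left a)) ?_)
  have h3 : Commute (e * y * e) y := by obtain ⟨i, hi⟩ := h1; exact hi ▸ Commute.zpow_self y i
  calc e * (e * y * e * y) = y * (e * y * e) * e := by
        rw [← mul_assoc, ← mul_assoc, ← mul_assoc, he, one_mul, mul_assoc y _ e, mul_assoc _ e e,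
          he, mul_one, mul_assoc]
    _ = _ := by rw [← h3.eq]

theorem exists_loc [IsSimpleGroup G] (hG : Nat.card G = 175560) :
    ∃ x y e d : G, Loc x y e d ∧ Nat.card (centralizer ({e} : Set G)) = 120 ∧
      ∃ Q : Sylow 5 G, (Q : Subgroup G) = zpowers y ∧
        Nat.card (normalizer ((Q : Subgroup G) : Set G)) = 60 ∧
        x ∈ normalizer ((Q : Subgroup G) : Set G) ∧ e ∈ normalizer ((Q : Subgroup G) : Set G) ∧
        d ∈ normalizer ((Q : Subgroup G) : Set G) := by
  have : Fact (Nat.Prime 5) := ⟨by norm_num⟩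
  obtain ⟨n3, n5, -, -, -, c3, c5, -⟩ := sylow_counts hG
  have s3 : ∀ z : G, orderOf z = 3 → ∃ P : Sylow 3 G, (P : Subgroup G) = zpowers z := fun z =>
    H8.exists_sylow_eq_zpowers (Classical.arbitrary _)
      (H9.card_sylow_eq_of_not_sq_dvd _ (by rw [hG]; norm_num) (by rw [hG]; norm_num))
  have s5 : ∀ z : G, orderOf z = 5 → ∃ P : Sylow 5 G, (P : Subgroup G) = zpowers z := fun z =>
    H8.exists_sylow_eq_zpowers (Classical.arbitrary _)
      (H9.card_sylow_eq_of_not_sq_dvd _ (by rw [hG]; norm_num) (by rw [hG]; norm_num))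
  have el : ∀ (H : Subgroup G) (p : ℕ), p.Prime → p ∣ Nat.card H → ∃ z ∈ H, orderOf z = p := by
    intro H p hp h
    have := Fact.mk hp
    obtain ⟨z, hz⟩ := exists_prime_orderOf_dvd_card' p h
    exact ⟨z, z.2, by rw [orderOf_coe, hz]⟩
  have inv : ∀ z : G, orderOf z = 2 → z * z = 1 ∧ z ≠ 1 := fun z hz =>
    ⟨by rw [← pow_two, ← hz, pow_orderOf_eq_one], fun a => by simp [a] at hz⟩
  obtain ⟨x, ox⟩ := exists_prime_orderOf_dvd_card' (G := G) 3 (by rw [hG]; norm_num)
  obtain ⟨P, hP⟩ := s3 x ox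
  have cP : centralizer ((P : Subgroup G) : Set G) = centralizer {x} := by
    rw [hP, centralizer_zpowers]
  have cx : Nat.card (centralizer ({x} : Set G)) = 30 := cP ▸ c3 P
  obtain ⟨y, yx, oy⟩ := el (centralizer {x}) 5 (by norm_num) (by rw [cx]; norm_num)
  obtain ⟨Q, hQ⟩ := s5 y oy
  have cQ : centralizer ((Q : Subgroup G) : Set G) = centralizer {y} := by
    rw [hQ, centralizer_zpowers]
  obtain ⟨hN, cN⟩ := normalizer_three_eq hG P Q (by rw [cP, hQ]; exact zpowers_le.2 yx)
  have yN : y ∈ normalizer ((P : Subgroup G) : Set G) := centralizer_le_normalizer _ (cP ▸ yx)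
  obtain ⟨e, ex, oe⟩ := el (centralizer {x}) 2 (by norm_num) (by rw [cx]; norm_num)
  obtain ⟨ee, e1⟩ := inv e oe
  obtain ⟨ce, e3, e5, k3⟩ := invol_cent hG ee e1
    (Or.inl (ox ▸ Subgroup.orderOf_dvd_natCard _ (mem_cent.2 (mem_cent.1 ex).symm)))
  replace k3 := k3 P (cP ▸ ex)
  have eN : e ∈ normalizer ((P : Subgroup G) : Set G) := centralizer_le_normalizer _ (cP ▸ ex)
  have ey := inverts_of_not_commute oy ee (hQ ▸ hN ▸ eN) fun a => by
    have := Subgroup.orderOf_dvd_natCard _ (mem_inf.2 ⟨yN, mem_cent.2 a.symm⟩)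
    rw [oy, k3] at this
    omega
  have cy : Nat.card (centralizer ({y} : Set G)) = 30 := by
    obtain ⟨Q', hQ'⟩ := exists_sylow_of_dvd (p := 5) (v := e) (by rw [hG]; norm_num)
      (by rw [ce]; norm_num)
    have a1 := Subgroup.orderOf_dvd_natCard _ hQ'
    rw [oe, H8.card_centralizer_sylow_eq Q' Q, cQ] at a1
    have a2 := Subgroup.orderOf_dvd_natCard _ (mem_cent.2 (mem_cent.1 yx).symm)
    have a3 := Subgroup.orderOf_dvd_natCard _ (mem_cent.2 (Commute.refl y))
    have a4 := Nat.le_of_dvd (by norm_num) (cQ ▸ c5 Q)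
    have a5 : 0 < Nat.card (centralizer ({y} : Set G)) := Nat.card_pos
    rw [ox] at a2
    rw [oy] at a3
    omega
  obtain ⟨d, ⟨dy, dN, de⟩, od⟩ := el (centralizer {y} ⊓ (normalizer ((P : Subgroup G) : Set G) ⊓
      centralizer {e})) 2 (by norm_num) (by
    have a1 := H1.card_mul_relIndex (centralizer_le_normalizer ((Q : Subgroup G) : Set G))
    rw [← hN, cN, cQ, cy] at a1
    have a2 := relIndex_le_of_le_right (H := centralizer {y})
      (inf_le_left : normalizer ((P : Subgroup G) : Set G) ⊓ centralizer {e} ≤ _) (by omega)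
    have a3 := H1.card_inf_mul_relIndex (centralizer {y})
      (normalizer ((P : Subgroup G) : Set G) ⊓ centralizer {e})
    rw [k3] at a3
    generalize relIndex _ (normalizer ((P : Subgroup G) : Set G) ⊓ centralizer {e}) = r at a2 a3
    have a4 : r ≤ 2 := by omega
    interval_cases r <;> omega)
  obtain ⟨dd, d1⟩ := inv d od
  obtain ⟨cd, -, -, k3'⟩ := invol_cent hG dd d1
    (Or.inr (oy ▸ Subgroup.orderOf_dvd_natCard _ (mem_cent.2 (mem_cent.1 dy).symm)))
  have dx := inverts_of_not_commute ox dd (hP ▸ dN) fun a => by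
    have := Subgroup.orderOf_dvd_natCard _ (mem_inf.2 ⟨yN, mem_cent.2 (mem_cent.1 dy).symm⟩)
    rw [oy, k3' P (cP ▸ mem_cent.2 a)] at this
    omega
  have three : ∀ z : G, orderOf z = 3 → ∃ g, g * z * g⁻¹ = x := by
    intro z hz
    obtain ⟨g, hg⟩ := H8.exists_conj_le_sylow P
      (H8.isPGroup_zpowers_of_orderOf (k := 1) (by rw [hz, pow_one]))
    have a1 := hP ▸ hg z (mem_zpowers z)
    classical
    obtain ⟨i, hi, a2⟩ := Finset.mem_image.1 (mem_zpowers_iff_mem_range_orderOf.1 a1)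
    rw [ox, Finset.mem_range] at hi
    interval_cases i
    · have a3 : z = 1 := by simpa using a2.symm
      simp [a3] at hz
    · exact ⟨g, by simpa using a2.symm⟩
    · refine ⟨d * g, ?_⟩
      rw [show d * g * z * (d * g)⁻¹ = d * (g * z * g⁻¹) * d⁻¹ by group, ← a2, ← conj_pow,
        inv_eq_of_mul_eq_one_right dd, dx, inv_pow, inv_eq_iff_mul_eq_one, ← pow_succ,
        ← orderOf_dvd_iff_pow_eq_one, ox]
  refine ⟨x, y, e, d, ⟨ox, oy, (mem_cent.1 yx).symm, ee, e1, dd, d1, mem_cent.1 ex, ey,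
    mem_cent.1 dy, dx, (mem_cent.1 de).symm, cx, cy, three, ?_, ?_, by rw [hG]; norm_num⟩, ce,
    Q, hQ, hN ▸ cN, hN ▸ le_normalizer (hP ▸ mem_zpowers x), hN ▸ eN, hN ▸ dN⟩
  · obtain ⟨z, hz, oz⟩ := el (centralizer {d}) 3 (by norm_num) (by rw [cd]; norm_num)
    obtain ⟨g, hg⟩ := three z oz
    obtain ⟨h, -, hh⟩ := exists_conj_of_not_four_dvd (H := centralizer {x})
      (by rw [cx]; norm_num) ex ee e1 (v := g * d * g⁻¹)
      (mem_cent.2 (hg ▸ (mem_cent.1 hz).symm.conj g))
      (by rw [conj_mul, dd, mul_one, mul_inv_cancel]) (by simpa using d1)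
    exact ⟨g⁻¹ * h, by
      rw [show g⁻¹ * h * e * (g⁻¹ * h)⁻¹ = g⁻¹ * (h * e * h⁻¹) * g by group, hh]; group⟩
  · refine exists_good ce (Subtype.ext ee) (fun a => e1 (congrArg Subtype.val a))
      (fun g => Subtype.ext (mem_cent.1 g.2)) e5 e3 fun R a => ?_
    obtain ⟨w, ow⟩ := exists_prime_orderOf_dvd_card' (G := R) 5
      (R.dvd_card_of_dvd_card (by rw [ce]; norm_num))
    obtain ⟨R', hR'⟩ := s5 ((w : centralizer ({e} : Set G)) : G)
      (by rw [orderOf_coe, orderOf_coe, ow])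
    have a1 := c5 R'
    rw [hR', centralizer_zpowers] at a1
    have a2 : (centralizer ((R : Subgroup (centralizer ({e} : Set G))) : Set _)).map
        (centralizer ({e} : Set G)).subtype ≤
        centralizer {((w : centralizer ({e} : Set G)) : G)} := by
      rintro _ ⟨z, hz, rfl⟩
      exact mem_cent.2 (congrArg Subtype.val (hz w w.2)).symm
    have a3 := card_dvd_of_le a2
    rw [card_map_of_injective (subtype_injective _)] at a3
    have := a.trans (a3.trans a1)
    omega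

theorem exists_gen [IsSimpleGroup G] (hG : Nat.card G = 175560) :
    ∃ e a b c d : G, Rel e a b c d ∧ closure {x | x ∈ [e, a, b, c, d]} = ⊤ ∧
      Nat.card (centralizer ({e} : Set G)) = 120 := by
  have : Fact (Nat.Prime 5) := ⟨by norm_num⟩
  obtain ⟨x, y, e, d, h, ce, Q, hQ, cN, xN, eN, dN⟩ := exists_loc hG
  obtain ⟨j, b, hj, hb, hr⟩ := h.exists_rel
  refine ⟨_, _, _, _, _, hr, ?_, ce⟩
  set W := closure {z | z ∈ [e, e * y ^ j, b, d * x, d]}
  have eW : e ∈ W := subset_closure (by simp)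
  have bW : b ∈ W := subset_closure (by simp)
  have dW : d ∈ W := subset_closure (by simp)
  have xW : x ∈ W := (W.mul_mem_cancel_left dW).1 (subset_closure (by simp))
  have yW : y ∈ W := by
    have a1 : y ^ j ∈ W := (W.mul_mem_cancel_left eW).1 (subset_closure (by simp))
    rcases hj with rfl | rfl
    · rwa [pow_one] at a1
    · have a2 := pow_mem a1 3
      rwa [← pow_mul, show 2 * 3 = 5 + 1 by rfl, pow_succ, ← h.oy, pow_orderOf_eq_one,
        one_mul] at a2
  have h8 : 8 ∣ Nat.card W := by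
    rw [← card_eight hb.bb h.ee h.dd h.ed hb.be.symm hb.bd.symm h.e1 h.d1 h.ne hb.n1 hb.ne hb.nd
      hb.ned]
    exact card_dvd_of_le (sup_le (zpowers_le.2 bW) (sup_le (zpowers_le.2 eW) (zpowers_le.2 dW)))
  have h60 : Nat.card (normalizer ((Q : Subgroup G) : Set G) ⊓ W : Subgroup G) = 60 := by
    have a1 := Subgroup.orderOf_dvd_natCard _ (mem_inf.2 ⟨xN, xW⟩)
    have a2 := Subgroup.orderOf_dvd_natCard _
      (mem_inf.2 ⟨le_normalizer (hQ ▸ mem_zpowers y : y ∈ (Q : Subgroup G)), yW⟩)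
    have a3 := card_dvd_of_le (sup_le (zpowers_le.2 (mem_inf.2 ⟨eN, eW⟩))
      (zpowers_le.2 (mem_inf.2 ⟨dN, dW⟩)))
    have a4 := card_le_of_le (inf_le_left : normalizer ((Q : Subgroup G) : Set G) ⊓ W ≤ _)
    have a5 : 0 < Nat.card (normalizer ((Q : Subgroup G) : Set G) ⊓ W : Subgroup G) :=
      Nat.card_pos
    rw [card_klein h.ee h.dd h.ed h.e1 h.d1 h.ne] at a3
    rw [h.ox] at a1
    rw [h.oy] at a2
    omega
  have h1 := H1.card_inf_mul_relIndex (normalizer ((Q : Subgroup G) : Set G)) W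
  have h2 := relIndex_normalizer_modEq Q (hQ ▸ zpowers_le.2 yW : (Q : Subgroup G) ≤ W)
  have h3 := W.card_mul_index
  rw [← h1, h60] at h3 h8
  refine H6.eq_top_of_index_lt_prime W (r := 19) (by norm_num) (by rw [hG]; norm_num) ?_
  generalize relIndex _ W = r at h2 h3 h8
  obtain ⟨s, rfl⟩ : 2 ∣ r := by omega
  have h4 : s * W.index = 1463 := by
    rw [hG, ← mul_assoc, mul_assoc] at h3
    omega
  exact (by decide +kernel : ∀ i ≤ 1463, i ∣ 1463 → 2 * (1463 / i) ≡ 1 [MOD 5] → i < 19) _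
    (Nat.le_of_dvd (by norm_num) (Dvd.intro_left _ h4)) (Dvd.intro_left _ h4) (by
      rwa [← h4, Nat.mul_div_cancel _ (Nat.pos_of_ne_zero index_ne_zero_of_finite)])

end Cfsg.Agent.P8
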