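import Cfsg.Agent.P8.JLoc
import Cfsg.Agent.P8.Order

/-! Groups whose involution centralizers are `2 × A5`: the Sylow 5-subgroups have order 5. -/

set_option autoImplicit false

namespace Cfsg.Agent.P8

open Subgroup Cfsg Cfsg.Agent Cfsg.Agent.FT
open Cfsg.Agent.P5 (V4 Tri)
open scoped commutatorElement

universe u

variable {G : Type u} [Group G]

theorem pow_conj_eq {h a c : G} (e : h * a * h⁻¹ = c * a) (hc : Commute h c) (m : ℕ) :
    h ^ m * a * (h ^ m)⁻¹ = c ^ m * a := by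
  induction m with
  | zero => simp
  | succ m ih =>
    rw [show h ^ (m + 1) * a * (h ^ (m + 1))⁻¹ = h * (h ^ m * a * (h ^ m)⁻¹) * h⁻¹ by group, ih,
      ← conj_mul, e, (hc.pow_right m).eq, mul_inv_cancel_right, pow_succ, mul_assoc]

theorem sq_inverts {a b g h : G} (ha : a ^ 5 = 1) (hb : b ^ 5 = 1) (hc : Commute a b)
    (h1 : g * a * g⁻¹ = a) (h2 : g * b * g⁻¹ = a * b) (h3 : h * a * h⁻¹ = b ^ 3 * a)
    (h4 : h * b * h⁻¹ = b) : g * h * (g * h) * a * (g * h * (g * h))⁻¹ = a⁻¹ := by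
  have e1 : g * h * a * (g * h)⁻¹ = a ^ 4 * b ^ 3 := by
    rw [show g * h * a * (g * h)⁻¹ = g * (h * a * h⁻¹) * g⁻¹ by group, h3, ← conj_mul, ← conj_pow,
      h1, h2, hc.mul_pow, mul_assoc, ← (hc.pow_right 3).eq, ← mul_assoc, ← pow_succ]
  have e2 : g * h * b * (g * h)⁻¹ = a * b := by
    rw [show g * h * b * (g * h)⁻¹ = g * (h * b * h⁻¹) * g⁻¹ by group, h4, h2]
  generalize g * h = k at e1 e2
  rw [show k * k * a * (k * k)⁻¹ = k * (k * a * k⁻¹) * k⁻¹ by group, e1, ← conj_mul, ← conj_pow,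
    ← conj_pow, e1, e2, (hc.pow_pow 4 3).mul_pow, hc.mul_pow, ← pow_mul, ← pow_mul,
    (hc.pow_pow 3 (3 * 4)).symm.mul_mul_mul_comm, ← pow_add, ← pow_add,
    show 3 * 4 + 3 = 5 * 3 from rfl, pow_mul, hb, one_pow, mul_one, eq_inv_iff_mul_eq_one,
    ← pow_succ, show 4 * 4 + 3 + 1 = 5 * 4 from rfl, pow_mul, ha, one_pow]

variable [Finite G]

theorem zpowers_eq_of_prime {p : ℕ} (hp : p.Prime) {y u : G} (hy : orderOf y = p)
    (hu : u ∈ zpowers y) (hu1 : u ≠ 1) : zpowers u = zpowers y := by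
  have h1 := orderOf_dvd_card_of_mem hu
  rw [Nat.card_zpowers, hy, Nat.dvd_prime hp, orderOf_eq_one_iff] at h1
  exact eq_of_le_of_card_ge (zpowers_le.2 hu) (by
    rw [Nat.card_zpowers, Nat.card_zpowers, hy, h1.resolve_left hu1])

theorem Tri.pow_three {x t s : G} (hx : Tri x t s) (hV : V4 t s) : x ^ 3 ∈ 𝐂[t] ⊓ 𝐂[s] := by
  have h3 := hx.third hV
  have e : ∀ w, x ^ 3 * w * (x ^ 3)⁻¹ = x * (x * (x * w * x⁻¹) * x⁻¹) * x⁻¹ := fun w => by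
    simp only [pow_succ, pow_zero, one_mul, mul_inv_rev, mul_assoc]
  refine ⟨mem_cent1_iff_conj.2 ?_, mem_cent1_iff_conj.2 ?_⟩
  · rw [e, hx.1, hx.2, h3]
  · rw [e, hx.2, h3, hx.1]

theorem Tri.mem_norm_cent {x t s : G} (hx : Tri x t s) : x ∈ 𝐍((𝐂[t] ⊓ 𝐂[s] : Subgroup G)) := by
  refine mem_normalizer_fintype fun z hz => ?_
  have h1 : Commute t z := mem_cent1.1 hz.1
  have h2 : Commute s z := mem_cent1.1 hz.2
  have h3 : Commute s (x * z * x⁻¹) := hx.1 ▸ h1.conj x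
  have h4 : Commute (t * s) (x * z * x⁻¹) := hx.2 ▸ h2.conj x
  have h5 : Commute t (x * z * x⁻¹) := by simpa using h4.mul_left h3.inv_left
  exact ⟨mem_cent1.2 h5, mem_cent1.2 h3⟩

omit [Finite G] in
theorem Tri.inverts {x t s a : G} (hx : Tri x t s) (at' : a ∈ 𝐂[t]) (hs : s * a * s⁻¹ = a⁻¹) :
    x * a * x⁻¹ ∈ 𝐂[s] ∧ t * (x * a * x⁻¹) * t⁻¹ = (x * a * x⁻¹)⁻¹ := by
  have bs : x * a * x⁻¹ ∈ 𝐂[s] :=
    mem_cent1.2 (hx.1 ▸ (show Commute t a from mem_cent1.1 at').conj x)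
  refine ⟨bs, ?_⟩
  calc t * (x * a * x⁻¹) * t⁻¹ = t * (s * (x * a * x⁻¹) * s⁻¹) * t⁻¹ := by
        rw [mem_cent1_iff_conj.1 (mem_cent1_comm.1 bs)]
    _ = t * s * (x * a * x⁻¹) * (t * s)⁻¹ := by group
    _ = x * (s * a * s⁻¹) * x⁻¹ := by rw [← hx.2]; group
    _ = _ := by rw [hs]; group

theorem exists_fixed {x : G} (hx : orderOf x = 3) {K : Subgroup G} (hn : x ∈ 𝐍(K))
    (hK : 𝐨(K) % 3 = 2) : ∃ z ∈ K, z ≠ 1 ∧ z ∈ 𝐂[x] := by
  have h1 := H2.card_modEq_card_inf_centralizer (p := 3)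
    (isPGroup_of_card_prime ((Nat.card_zpowers x).trans hx)) (zpowers_le.2 hn)
  by_contra h2
  push Not at h2
  rw [cent_zpowers, show K ⊓ 𝐂[x] = ⊥ from eq_bot_iff.2 fun z hz =>
    by_contra fun e => h2 z hz.1 e hz.2, card_bot, Nat.ModEq] at h1
  omega

namespace JH

variable (h : JH G)
include h

theorem card_five {v y : G} (vv : v * v = 1) (v1 : v ≠ 1) {K : Subgroup G} (hK : K ≤ 𝐂[v])
    (ho : Odd 𝐨(K)) (hy : orderOf y = 5) (hyK : y ∈ K) : 𝐨(K) = 5 := by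
  have h1 := orderOf_dvd_card_of_mem hyK
  rw [hy] at h1
  rcases h.card_odd vv v1 hK ho with e | e | e <;> omega

theorem conj_five {v y z : G} (vv : v * v = 1) (v1 : v ≠ 1) (hy : orderOf y = 5)
    (hz : orderOf z = 5) (yv : y ∈ 𝐂[v]) (zv : z ∈ 𝐂[v]) : ∃ k, k * y * k⁻¹ ∈ zpowers z := by
  have h1 := H1.card_mul_relIndex (zpowers_le.2 zv)
  rw [Nat.card_zpowers, hz, h.card_cent vv v1] at h1
  have h2 : IsSyl 5 (zpowers z) 𝐂[v] :=
    ⟨zpowers_le.2 zv, isPGroup_of_card_prime ((Nat.card_zpowers z).trans hz), by omega⟩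
  obtain ⟨k, -, hk⟩ := h2.exists_conj_le (by norm_num)
    (isPGroup_of_card_prime ((Nat.card_zpowers y).trans hy)) (zpowers_le.2 yv)
  exact ⟨k, hk (conj_mem_conj (mem_zpowers y) k)⟩

/-- If an element of order 15 has a cube root part centralized by an involution, every element of
order 5 centralized by an involution commutes with an element of order 3. -/
theorem three_dvd {v x e t a : G} (vv : v * v = 1) (v1 : v ≠ 1) (hx : orderOf x = 3)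
    (xv : x ∈ 𝐂[v]) (he : orderOf e = 5) (ex : e ∈ 𝐂[x]) (tt : t * t = 1) (t1 : t ≠ 1)
    (ha : orderOf a = 5) (at' : a ∈ 𝐂[t]) : 3 ∣ 𝐨(𝐂[a]) := by
  have : Fact (Nat.Prime 5) := ⟨by norm_num⟩
  have x3 : x ^ 3 = 1 := hx ▸ pow_orderOf_eq_one x
  have x1 : x ≠ 1 := fun e => by simp [e] at hx
  obtain ⟨s, hV, hs⟩ := h.exists_inv vv v1 (Or.inl rfl) x3 x1 xv
  have h1 := orderOf_dvd_card_of_mem
    (h.mem_Od vv v1 (Or.inl rfl) x3 x1 xv ex (by rw [he]; decide))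
  rw [he, h.card_Od (Or.inl rfl) x3 x1 xv hV hs] at h1
  obtain ⟨w, ww, w1, h2⟩ : ∃ w, w * w = 1 ∧ w ≠ 1 ∧ 5 ∣ 𝐨((Od x ⊓ 𝐂[w] : Subgroup G)) := by
    rcases (Nat.Prime.dvd_mul (by norm_num)).1
      ((Nat.Coprime.dvd_mul_left (by norm_num)).1 h1) with e | e
    exacts [⟨s, hV.ss, hV.s1, e⟩, ⟨v * s, hV.tsts, hV.ts1, e⟩]
  obtain ⟨z, hz, h3⟩ := exists_mem_orderOf_eq_prime (by norm_num) h2
  obtain ⟨g, rfl⟩ := h.conj w t ww w1 tt t1
  have h4 : orderOf (g * z * g⁻¹) = 5 := by rw [← MulAut.conj_apply, MulEquiv.orderOf_eq, h3]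
  obtain ⟨k, hk⟩ := h.conj_five tt t1 h4 ha
    (mem_cent1.2 ((show Commute w z from mem_cent1.1 hz.2).conj g)) at'
  have h5 := commute_of_mem_zpowers ha hk (fun e => by simp_all)
    (((show Commute x z from mem_cent1.1 (Od_le x hz.1)).conj g).conj k)
  have h6 := orderOf_dvd_card_of_mem (mem_cent1.2 h5.symm)
  rwa [← MulAut.conj_apply, MulEquiv.orderOf_eq, ← MulAut.conj_apply, MulEquiv.orderOf_eq,
    hx] at h6

theorem no_five' {t s a ρ : G} (hV : V4 t s) (hρ : Tri ρ t s) (ha : orderOf a = 5)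
    (at' : a ∈ 𝐂[t]) (hs : s * a * s⁻¹ = a⁻¹) (hc : Commute a (ρ * a * ρ⁻¹)) : False := by
  have p5 : Nat.Prime 5 := by norm_num
  have ne : ∀ {y : G}, orderOf y = 5 → y ≠ 1 := fun hy e => by simp [e] at hy
  have pw : ∀ {y : G}, orderOf y = 5 → y ^ 5 = 1 := fun hy => hy ▸ pow_orderOf_eq_one _
  have hO := Od_conj a ρ
  have hb : orderOf (ρ * a * ρ⁻¹) = 5 := by rw [← MulAut.conj_apply, MulEquiv.orderOf_eq, ha]
  obtain ⟨bs, tb⟩ := Tri.inverts hρ at' hs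
  have hcc := hc.conj ρ
  generalize ρ * a * ρ⁻¹ = b at *
  have mb : ∀ x ∈ 𝐂[b], Odd (orderOf x) → x ∈ Od b := fun x =>
    h.mem_Od hV.ss hV.s1 (Or.inr rfl) (pw hb) (ne hb) bs
  have ma : ∀ x ∈ 𝐂[a], Odd (orderOf x) → x ∈ Od a := fun x =>
    h.mem_Od hV.tt hV.t1 (Or.inr rfl) (pw ha) (ne ha) at'
  have h1 := h.card_Od (Or.inr rfl) (pw hb) (ne hb) bs hV.swap tb
  have hc5 : orderOf (ρ * b * ρ⁻¹) = 5 := by rw [← MulAut.conj_apply, MulEquiv.orderOf_eq, hb]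
  have od : ∀ g w : G, Odd 𝐨((Od g ⊓ 𝐂[w] : Subgroup G)) := fun g w =>
    (odd_Od g).of_dvd_nat (FT.card_dvd_of_le inf_le_left)
  rw [h.card_five hV.tt hV.t1 inf_le_right (od _ _) ha
      ⟨mb a (mem_cent1.2 hc.symm) (by rw [ha]; decide), at'⟩,
    h.card_five hV.swap.tsts hV.swap.ts1 inf_le_right (od _ _) hc5
      ⟨mb _ (mem_cent1.2 hcc) (by rw [hc5]; decide), mem_cent1.2 (by
        rw [← hV.comm.eq, ← hρ.2]
        exact (show Commute s b from mem_cent1.1 bs).conj ρ)⟩] at h1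
  have h2 : 𝐨(Od a) = 5 * (5 * 5) := by rw [← h1, hO, card_conj]
  have odd : ∀ {g x : G}, x ∈ Od g → Odd (orderOf x) := fun hx =>
    (odd_Od _).of_dvd_nat (orderOf_dvd_card_of_mem hx)
  by_cases h3 : Od a = Od b
  · have h4 := Tri.pow_three hρ hV
    have h5 := h.sq_of_comm hV h4.1 h4.2
    have h6 : orderOf (ρ ^ 3 * ρ) = 3 := orderOf_eq_prime (by
      rw [((Commute.refl ρ).pow_left 3).mul_pow, pow_succ (ρ ^ 3), pow_two, h5, one_mul, h5])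
      fun e => hV.ts (by
        rw [← hρ.1, eq_inv_of_mul_eq_one_right e, mem_cent1_iff_conj.1 (inv_mem h4.1)])
    obtain ⟨v, hv, v1, hvx⟩ := exists_fixed h6 (mul_mem (pow_mem (Tri.mem_norm_cent hρ) 3)
      (Tri.mem_norm_cent hρ)) (by rw [h.card_cent2 hV])
    have h7 : ρ ∈ 𝐍(Od a) := conj_eq_self_iff.1 (hO.symm.trans h3.symm)
    obtain ⟨e, he, e1, hex⟩ := exists_fixed h6 (mul_mem (pow_mem h7 3) h7) (by rw [h2])
    have h8 : 5 ∣ orderOf e := by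
      have h9 := orderOf_dvd_card_of_mem he
      rw [h2, show 5 * (5 * 5) = 5 ^ 3 from rfl, Nat.dvd_prime_pow p5] at h9
      obtain ⟨k, -, hk⟩ := h9
      exact hk ▸ dvd_pow_self 5 fun e => e1 (orderOf_eq_one_iff.1 (by rw [hk, e, pow_zero]))
    have h9 := h.three_dvd (h.sq_of_comm hV hv.1 hv.2) v1 h6 (mem_cent1_comm.1 hvx)
      (orderOf_pow_orderOf_div (orderOf_pos e).ne' h8) (pow_mem hex _) hV.tt hV.t1 ha at'
    rw [h.card_eq hV.tt hV.t1 (Or.inr rfl) (pw ha) (ne ha) at', h2] at h9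
    omega
  have key : ∀ {x y z : G}, orderOf x = 5 → 𝐨(Od x) = 5 * (5 * 5) → x ∈ Od x → y ∈ Od x →
      z ∈ Od x → y * z * y⁻¹ * z⁻¹ ∈ zpowers x := fun {x y z} hx h4 h5 hy hz => by
    have h6 := H1.card_mul_relIndex (zpowers_le.2 h5)
    rw [Nat.card_zpowers, hx, h4] at h6
    exact BG04.der_le_of_relIndex_le_sq p5 (isPGroup_of_card_eq (n := 3) h4)
      ((Od_le x).trans ((cent_zpowers x).ge.trans (cent_le_norm _))) (by omega)
      (commutator_mem_commutator hy hz)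
  obtain ⟨g, hg, hgb⟩ : ∃ g ∈ Od a, g ∉ 𝐂[b] := by
    by_contra e
    push Not at e
    exact h3 (eq_of_le_of_card_ge (fun g hg => mb g (e g hg) (odd hg)) (by rw [h1, h2]))
  obtain ⟨k, hk, hka⟩ : ∃ k ∈ Od b, k ∉ 𝐂[a] := by
    by_contra e
    push Not at e
    exact h3 (eq_of_le_of_card_ge (fun g hg => ma g (e g hg) (odd hg)) (by rw [h1, h2])).symm
  have o5 : Odd 5 := by decide
  have h4 := key ha h2 (ma a (self_mem_cent1 a) (ha ▸ o5)) hg (ma b (mem_cent1.2 hc) (hb ▸ o5))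
  have h5 : g * b * g⁻¹ * b⁻¹ ≠ 1 := fun e => hgb (mem_cent1_iff_conj.2 (mul_inv_eq_one.1 e))
  have h6 := zpowers_eq_of_prime p5 ha h4 h5
  have h7 : g * b * g⁻¹ = g * b * g⁻¹ * b⁻¹ * b := by group
  generalize g * b * g⁻¹ * b⁻¹ = a' at h4 h5 h6 h7
  have h8 : 𝐂[a'] = 𝐂[a] := by rw [← cent_zpowers, h6, cent_zpowers]
  have h9 : orderOf a' = 5 := by rw [← Nat.card_zpowers, h6, Nat.card_zpowers, ha]
  have h10 : Commute a' b := mem_cent1.1 (h8.ge (mem_cent1.2 hc))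
  have h11 := key hb h1 (mb b (self_mem_cent1 b) (hb ▸ o5)) hk
    (mb a' (mem_cent1.2 h10.symm) (h9 ▸ o5))
  have h12 := zpowers_eq_of_prime p5 hb h11 fun e =>
    hka (h8.le (mem_cent1_iff_conj.2 (mul_inv_eq_one.1 e)))
  obtain ⟨m, hm⟩ := mem_powers_iff_mem_zpowers.2 (h12.ge (npow_mem_zpowers b 3))
  have h13 := pow_conj_eq (h := k) (a := a') (c := k * a' * k⁻¹ * a'⁻¹) (by group)
    (mem_cent1.1 (cent1_le_cent1_of_mem_zpowers h11 (Od_le b hk))).symm m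
  have h14 := h.sq_of_inverts (sq_inverts (pw h9) (pw hb) h10
    (mem_cent1_iff_conj.1 (h8.ge (Od_le a hg))) h7 (h13.trans (congrArg (· * a') hm))
    (mem_cent1_iff_conj.1 (pow_mem (Od_le b hk) m)))
  rw [← pow_two, ← orderOf_dvd_iff_pow_eq_one, h9] at h14
  omega

theorem not_five {t s a : G} (hV : V4 t s) (ha : orderOf a = 5) (at' : a ∈ 𝐂[t])
    (hs : s * a * s⁻¹ = a⁻¹) : 𝐨((Od a ⊓ 𝐂[s] : Subgroup G)) ≠ 5 := fun h5 => by
  have : Fact (Nat.Prime 5) := ⟨by norm_num⟩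
  have ne : ∀ {y : G}, orderOf y = 5 → y ≠ 1 := fun hy e => by simp [e] at hy
  have pw : ∀ {y : G}, orderOf y = 5 → y ^ 5 = 1 := fun hy => hy ▸ pow_orderOf_eq_one _
  obtain ⟨b, hbK, hb⟩ := exists_mem_orderOf_eq_prime (by norm_num) h5.symm.dvd
  have h1 : zpowers b = Od a ⊓ 𝐂[s] :=
    eq_of_le_of_card_ge (zpowers_le.2 hbK) (by rw [Nat.card_zpowers, hb, h5])
  have tb : t * b * t⁻¹ = b⁻¹ := by
    rw [P5.inv_eq_of_sq hV.tt]
    refine inverts_of_not_commute hb hV.tt (h1 ▸ inf_normalizer_le_normalizer_inf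
      ⟨(h.sdProd hV.tt hV.t1 (Or.inr rfl) (pw ha) (ne ha) at').norm (mem_zpowers t),
        le_norm_self _ (mem_cent1.2 hV.comm.symm)⟩) fun e => ?_
    have h2 := h.sq_of_comm hV (mem_cent1.2 e) hbK.2
    rw [← pow_two, ← orderOf_dvd_iff_pow_eq_one, hb] at h2
    omega
  obtain ⟨ρ, hρ⟩ := h.exists_tri hV
  have h2 : orderOf (ρ * a * ρ⁻¹) = 5 := by rw [← MulAut.conj_apply, MulEquiv.orderOf_eq, ha]
  obtain ⟨bs, h3⟩ := Tri.inverts hρ at' hs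
  obtain ⟨k, ks, kt, hk⟩ := h.exists_conj_five hV.swap bs hbK.2 (pw h2) (ne h2) h3 (pw hb) (ne hb) tb
  rw [mem_cent1_iff_conj] at ks kt
  refine h.no_five' (ρ := k * ρ) hV ⟨?_, ?_⟩ ha at' hs ?_
  · rw [show k * ρ * t * (k * ρ)⁻¹ = k * (ρ * t * ρ⁻¹) * k⁻¹ by group, hρ.1, ks]
  · rw [show k * ρ * s * (k * ρ)⁻¹ = k * (ρ * s * ρ⁻¹) * k⁻¹ by group, hρ.2, ← conj_mul, ks, kt]
  · rw [show k * ρ * a * (k * ρ)⁻¹ = k * (ρ * a * ρ⁻¹) * k⁻¹ by group]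
    exact mem_cent1.1 (Od_le a (h1.le hk).1)

end JH

end Cfsg.Agent.P8
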