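import Cfsg.Agent.P8.JA5
import Cfsg.Agent.P5.Loc
import Cfsg.Agent.H2.SigBasic
import Cfsg.Agent.FT.Final

/-! Groups whose involution centralizers are `2 × A5`: centralizers of elements of order 3, 5. -/

set_option autoImplicit false

namespace Cfsg.Agent.P8

open Subgroup Cfsg Cfsg.Agent Cfsg.Agent.FT
open Cfsg.Agent.P5 (V4 Tri)

universe u

/-- One class of involutions, with centralizer `2 × A5`. -/
structure JH (G : Type u) [Group G] : Prop where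
  e8 : P7.E8 G
  conj : ∀ u v : G, u * u = 1 → u ≠ 1 → v * v = 1 → v ≠ 1 → ∃ g, g * u * g⁻¹ = v
  good : ∀ v : G, v * v = 1 → v ≠ 1 → ∃ φ : 𝐂[v] →* Equiv.Perm (Fin 5), Good (self v) φ
  ex : ∃ t : G, t * t = 1 ∧ t ≠ 1

variable {G : Type u} [Group G]

theorem jh_of_jr [Finite G] {t : G} {L : Subgroup G} (h : P7.JR t L 5) : JH G := by
  have tt : t * t = 1 := by rw [← pow_two, ← h.inv, pow_orderOf_eq_one]
  have t1 : t ≠ 1 := fun e => by simpa [e] using h.inv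
  obtain ⟨F, _, _, hF, ⟨e⟩⟩ := h.l2.iso
  obtain ⟨e'⟩ := nonempty_PSL25 hF
  obtain ⟨φ, hφ⟩ := good_of_prod tt t1 h.exact (e.trans e')
  have hc : ∀ v : G, v * v = 1 → v ≠ 1 → ∃ g, g * t * g⁻¹ = v := fun v hv h1 =>
    isConj_iff.1 (h.conj v (orderOf_invol hv h1))
  refine ⟨h.e8, fun u v hu hu1 hv hv1 => ?_, fun v hv hv1 => ?_, t, tt, t1⟩
  · obtain ⟨g, rfl⟩ := hc u hu hu1
    obtain ⟨k, rfl⟩ := hc v hv hv1
    exact ⟨k * g⁻¹, by group⟩
  · obtain ⟨g, hg⟩ := hc v hv hv1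
    exact ⟨_, hφ.of_equiv (cj hg) (cj_self hg)⟩

theorem self_comm (v : G) (g : 𝐂[v]) : g * self v = self v * g := Subtype.ext (mem_cent.1 g.2)

theorem coe_mem_zpowers {H : Subgroup G} {a b : H} (h : a ∈ zpowers b) :
    (a : G) ∈ zpowers (b : G) := by
  obtain ⟨i, rfl⟩ := h
  exact ⟨i, by simp⟩

/-- The odd part of the centralizer of `g`. -/
noncomputable def Od (g : G) : Subgroup G := H2.pPrimeCoreOf 2 𝐂[g]

theorem Od_le [Finite G] (g : G) : Od g ≤ 𝐂[g] := (pPrimeCoreOf_normal 2 _).1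

theorem odd_Od [Finite G] (g : G) : Odd 𝐨(Od g) :=
  Nat.not_even_iff_odd.1 fun h => not_dvd_card_pPrimeCoreOf Nat.prime_two _ h.two_dvd

theorem Od_conj [Finite G] (g k : G) : Od (k * g * k⁻¹) = Od g ^ᵍ k := by
  refine Eq.trans ?_ (pPrimeCoreOf_conj k _ Nat.prime_two)
  unfold Od
  congr 1
  ext x
  rw [mem_conj, mem_cent1_iff_conj, mem_cent1_iff_conj]
  constructor <;> intro h
  · rw [show k⁻¹ * x * k * g * (k⁻¹ * x * k)⁻¹ = k⁻¹ * (x * (k * g * k⁻¹) * x⁻¹) * k by group, h]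
    group
  · rw [show x * (k * g * k⁻¹) * x⁻¹ = k * (k⁻¹ * x * k * g * (k⁻¹ * x * k)⁻¹) * k⁻¹ by group, h]

theorem Od_inv (g : G) : Od g⁻¹ = Od g := by rw [Od, cent1_inv, Od]

namespace JH

variable (h : JH G)
include h

theorem four (H : Subgroup G) (x : H) (hx : x ^ 4 = 1) : x * x = 1 :=
  Subtype.ext (h.e8.sq x (congrArg Subtype.val hx))

theorem sq_of_pow {x : G} {n : ℕ} (hx : x ^ 2 ^ n = 1) : x * x = 1 := by
  induction n generalizing x with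
  | zero => rw [pow_zero, pow_one] at hx; rw [hx, mul_one]
  | succ n ih =>
    refine h.e8.sq x ?_
    rw [pow_succ', pow_mul] at hx
    rw [show 4 = 2 + 2 from rfl, pow_add, ih hx]

theorem cent_mem {v g z : G} {p : ℕ} (vv : v * v = 1) (v1 : v ≠ 1) (hp : p = 3 ∨ p = 5)
    (hg : g ^ p = 1) (g1 : g ≠ 1) (gv : g ∈ 𝐂[v]) (zv : z ∈ 𝐂[v]) (hz : Commute z g) :
    z ∈ zpowers g ∨ z * v ∈ zpowers g := by
  obtain ⟨φ, hφ⟩ := h.good v vv v1
  exact (hφ.cent_mem (Subtype.ext vv) (self_comm v) hp (g := ⟨g, gv⟩) (z := ⟨z, zv⟩)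
    (Subtype.ext hg) (fun e => g1 (congrArg Subtype.val e)) (Subtype.ext hz)).imp
    coe_mem_zpowers coe_mem_zpowers

theorem exists_inv {v g : G} {p : ℕ} (vv : v * v = 1) (v1 : v ≠ 1) (hp : p = 3 ∨ p = 5)
    (hg : g ^ p = 1) (g1 : g ≠ 1) (gv : g ∈ 𝐂[v]) : ∃ s, V4 v s ∧ s * g * s⁻¹ = g⁻¹ := by
  obtain ⟨φ, hφ⟩ := h.good v vv v1
  obtain ⟨s, h1, h2⟩ := hφ.exists_inv (Subtype.ext vv) (self_comm v) (h.four _) hp
    (g := ⟨g, gv⟩) (Subtype.ext hg)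
  have h3 : (s : G) * g * (s : G)⁻¹ = g⁻¹ := congrArg Subtype.val h2
  have h4 : ¬ Commute (s : G) g := fun e => by
    rw [e.eq, mul_inv_cancel_right, eq_inv_iff_mul_eq_one] at h3
    have ho : Odd p := by rcases hp with rfl | rfl <;> decide
    obtain ⟨k, rfl⟩ := ho
    rw [pow_succ, pow_mul, pow_two, h3, one_pow, one_mul] at hg
    exact g1 hg
  exact ⟨s, ⟨v1, fun e => h4 (e ▸ Commute.one_left g), fun e => h4 (e ▸ mem_cent1.1 gv), vv,
    congrArg Subtype.val h1, mem_cent1.1 s.2⟩, h3⟩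

theorem sq_of_comm {v s z : G} (hV : V4 v s) (zv : z ∈ 𝐂[v]) (zs : z ∈ 𝐂[s]) : z * z = 1 := by
  obtain ⟨φ, hφ⟩ := h.good v hV.tt hV.t1
  exact congrArg Subtype.val (hφ.sq_of_comm (Subtype.ext hV.tt) (h.four _)
    (s := ⟨s, mem_cent1.2 hV.comm⟩) (z := ⟨z, zv⟩) (Subtype.ext hV.ss)
    (fun e => hV.s1 (congrArg Subtype.val e)) (fun e => hV.ts (congrArg Subtype.val e).symm)
    (Subtype.ext (mem_cent1.1 zs).symm))

theorem exists_conj_five {v s y z : G} (hV : V4 v s) (yv : y ∈ 𝐂[v]) (zv : z ∈ 𝐂[v])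
    (hy : y ^ 5 = 1) (hy1 : y ≠ 1) (hsy : s * y * s⁻¹ = y⁻¹) (hz : z ^ 5 = 1) (hz1 : z ≠ 1)
    (hsz : s * z * s⁻¹ = z⁻¹) : ∃ k ∈ 𝐂[v], k ∈ 𝐂[s] ∧ k * y * k⁻¹ ∈ zpowers z := by
  obtain ⟨φ, hφ⟩ := h.good v hV.tt hV.t1
  obtain ⟨k, h1, h2⟩ := hφ.exists_conj_five (Subtype.ext hV.tt) (self_comm v) (h.four _)
    (s := ⟨s, mem_cent1.2 hV.comm⟩) (y := ⟨y, yv⟩) (z := ⟨z, zv⟩) (Subtype.ext hV.ss)
    (fun e => hV.s1 (congrArg Subtype.val e)) (fun e => hV.ts (congrArg Subtype.val e).symm)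
    (Subtype.ext hy) (fun e => hy1 (congrArg Subtype.val e)) (Subtype.ext hsy)
    (Subtype.ext hz) (fun e => hz1 (congrArg Subtype.val e)) (Subtype.ext hsz)
  exact ⟨k, k.2, mem_cent1.2 (congrArg Subtype.val h1).symm, coe_mem_zpowers h2⟩

variable [Finite G]

theorem card_cent {v : G} (vv : v * v = 1) (v1 : v ≠ 1) : 𝐨(𝐂[v]) = 120 := by
  obtain ⟨φ, hφ⟩ := h.good v vv v1
  exact hφ.card (Subtype.ext vv) fun e => v1 (congrArg Subtype.val e)

theorem card_odd {v : G} (vv : v * v = 1) (v1 : v ≠ 1) {K : Subgroup G} (hK : K ≤ 𝐂[v])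
    (ho : Odd 𝐨(K)) : 𝐨(K) = 1 ∨ 𝐨(K) = 3 ∨ 𝐨(K) = 5 := by
  obtain ⟨φ, hφ⟩ := h.good v vv v1
  have e := Nat.card_congr (subgroupOfEquivOfLe hK).toEquiv
  rw [← e] at ho ⊢
  exact hφ.card_odd (Subtype.ext vv) (fun e => v1 (congrArg Subtype.val e)) (self_comm v)
    (h.four _) ho

theorem card_cent2 {v s : G} (hV : V4 v s) : 𝐨((𝐂[v] ⊓ 𝐂[s] : Subgroup G)) = 8 := by
  obtain ⟨φ, hφ⟩ := h.good v hV.tt hV.t1
  obtain ⟨b, h1, h2, h3, h4, h5, h6⟩ := hφ.exists_third (Subtype.ext hV.tt) (self_comm v)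
    (d := ⟨s, mem_cent1.2 hV.comm⟩) (Subtype.ext hV.ss)
    (fun e => hV.s1 (congrArg Subtype.val e)) (fun e => hV.ts (congrArg Subtype.val e).symm)
  have h7 : Commute (b : G) s := congrArg Subtype.val h2
  have h8 := card_eight (v := (b : G)) (congrArg Subtype.val h1) hV.tt hV.ss hV.comm
    (mem_cent1.1 b.2) h7.symm hV.t1 hV.s1 hV.ts (fun e => h3 (Subtype.ext e))
    (fun e => h4 (Subtype.ext e)) (fun e => h5 (Subtype.ext e)) (fun e => h6 (Subtype.ext e))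
  have h9 : 8 ∣ 𝐨((𝐂[v] ⊓ 𝐂[s] : Subgroup G)) := h8 ▸ FT.card_dvd_of_le
    (sup_le (zpowers_le.2 ⟨b.2, mem_cent1.2 h7.symm⟩) (sup_le
      (zpowers_le.2 ⟨self_mem_cent1 v, mem_cent1.2 hV.comm.symm⟩)
      (zpowers_le.2 ⟨mem_cent1.2 hV.comm, self_mem_cent1 s⟩)))
  obtain ⟨n, hn⟩ := exists_card_eq_pow Nat.prime_two (P := 𝐂[v] ⊓ 𝐂[s]) fun z =>
    ⟨1, Subtype.ext (by simpa [pow_two] using h.sq_of_comm hV z.2.1 z.2.2)⟩
  have h10 : ¬ 2 ^ 4 ∣ 2 ^ n := fun e => h.e8.lt (e.trans (hn ▸ card_subgroup_dvd_card _))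
  rw [hn] at h9 ⊢
  rw [Nat.pow_dvd_pow_iff_le_right (by norm_num)] at h10
  have h11 := (Nat.pow_dvd_pow_iff_le_right (by norm_num : 1 < 2)).1 (show 2 ^ 3 ∣ 2 ^ n from h9)
  rw [show n = 3 by omega]; rfl

/-- The square of an element inverts no element of order bigger than 2. -/
theorem sq_of_inverts {k a : G} (e : k * k * a * (k * k)⁻¹ = a⁻¹) : a * a = 1 := by
  obtain ⟨n, m, hm, hk⟩ := Nat.exists_eq_two_pow_mul_odd (orderOf_pos k).ne'
  have h1 : k ^ m * k ^ m = 1 := h.sq_of_pow (n := n) (by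
    rw [← pow_mul, mul_comm, ← hk, pow_orderOf_eq_one])
  obtain ⟨j, rfl⟩ := hm
  have h2 : Commute (k * k * (k * k)) a := by
    rw [commute_iff_eq, ← mul_inv_eq_iff_eq_mul, show k * k * (k * k) * a * (k * k * (k * k))⁻¹ =
      k * k * (k * k * a * (k * k)⁻¹) * (k * k)⁻¹ by group, e, ← conj_inv, e, inv_inv]
  have h3 : Commute (k * k) a := by
    have h4 : k * k = ((k * k * (k * k)) ^ j)⁻¹ := by
      rw [eq_inv_iff_mul_eq_one, ← h1, ← pow_two, ← pow_two, ← pow_mul, ← pow_mul, ← pow_add,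
        ← pow_add]
      congr 1; ring
    rw [h4]
    exact (h2.pow_left j).inv_left
  rwa [h3.eq, mul_inv_cancel_right, eq_inv_iff_mul_eq_one] at e

theorem exists_tri {t s : G} (hV : V4 t s) : ∃ x, Tri x t s := by
  obtain ⟨g, hg⟩ := h.conj t s hV.tt hV.t1 hV.ss hV.s1
  obtain ⟨φ, hφ⟩ := h.good s hV.ss hV.s1
  obtain ⟨k, hk⟩ := hφ.conj (u := ⟨g * s * g⁻¹, mem_cent1.2 (by
      calc s * (g * s * g⁻¹) = g * (t * s) * g⁻¹ := by rw [← conj_mul, hg]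
        _ = g * s * g⁻¹ * s := by rw [hV.comm.eq, ← conj_mul, hg])⟩) (v := ⟨t, mem_cent1.2 hV.comm.symm⟩)
    (Or.inl (Subtype.ext (by simp [hV.ss]))) (fun e => hV.s1 (by simpa using e))
    (fun e => hV.ts (by simpa using hg.trans (congrArg Subtype.val e).symm))
    (Or.inl (Subtype.ext hV.tt)) (fun e => hV.t1 (congrArg Subtype.val e))
    (fun e => hV.ts (congrArg Subtype.val e))
  have h1 : k * g * t * (k * g)⁻¹ = s := by
    rw [show k * g * t * (k * g)⁻¹ = k * (g * t * g⁻¹) * (k : G)⁻¹ by group, hg,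
      mem_cent1_iff_conj.1 k.2]
  have h2 : k * g * s * (k * g)⁻¹ = k * (g * s * g⁻¹) * (k : G)⁻¹ := by group
  refine ⟨k * g, h1, h2.trans (hk.elim (fun e => ?_) fun e => congrArg Subtype.val e)⟩
  exfalso
  have h3 : k * g * s * (k * g)⁻¹ = t := h2.trans (congrArg Subtype.val e)
  generalize k * g = x at h1 h3
  obtain ⟨n, m, ⟨j, rfl⟩, hx⟩ := Nat.exists_eq_two_pow_mul_odd (orderOf_pos x).ne'
  have h4 : x ^ (2 * j + 1) * x ^ (2 * j + 1) = 1 := h.sq_of_pow (n := n) (by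
    rw [← pow_mul, mul_comm, ← hx, pow_orderOf_eq_one])
  have h5 : Commute (x ^ 2) t := by
    rw [commute_iff_eq, ← mul_inv_eq_iff_eq_mul, pow_two,
      show x * x * t * (x * x)⁻¹ = x * (x * t * x⁻¹) * x⁻¹ by group, h1, h3]
  have h6 : x ^ (2 * j + 1) * t * (x ^ (2 * j + 1))⁻¹ = s := by
    rw [pow_succ', pow_mul, mul_assoc x, (h5.pow_left j).eq, ← h1]; group
  generalize x ^ (2 * j + 1) = y at h4 h6
  rw [P5.inv_eq_of_sq h4] at h6
  have h7 : y * t * (y * t) = s * t := by rw [← h6, mul_assoc (y * t)]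
  have h8 := h.e8.sq (y * t) (by
    rw [show 4 = 2 + 2 from rfl, pow_add, pow_two, h7, hV.swap.tsts])
  exact hV.swap.ts1 (h7.symm.trans h8)

section A

variable {v g : G} {p : ℕ} (vv : v * v = 1) (v1 : v ≠ 1) (hp : p = 3 ∨ p = 5) (hg : g ^ p = 1)
  (g1 : g ≠ 1) (gv : g ∈ 𝐂[v])
include vv v1 hp hg g1 gv

omit h vv v1 gv in
theorem ord : orderOf g = p := by
  have : Fact p.Prime := ⟨by rcases hp with rfl | rfl <;> norm_num⟩
  exact orderOf_eq_prime hg g1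

omit h vv v1 gv in
theorem odd_zpowers : Odd 𝐨(zpowers g) := by
  rw [Nat.card_zpowers, ord hp hg g1]
  rcases hp with rfl | rfl <;> decide

theorem isSyl : IsSyl 2 (zpowers v) 𝐂[g] := by
  refine isSyl_of_maximal Nat.prime_two (zpowers_le.2 (mem_cent1_comm.1 gv))
    (isPGroup_of_card_prime (by rw [Nat.card_zpowers, orderOf_invol vv v1])) fun Q h1 h2 h3 => ?_
  have h4 : ∀ q ∈ Q, q * q = 1 := fun q hq => by
    obtain ⟨n, hn⟩ := h3 ⟨q, hq⟩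
    exact h.sq_of_pow (congrArg Subtype.val hn)
  have h5 := h1 (mem_zpowers v)
  refine le_antisymm (fun q hq => ?_) h1
  rcases h.cent_mem vv v1 hp hg g1 gv (mem_cent.2 (commute_of_sq (h4 q hq) vv
    (by rw [pow_two, h4 _ (mul_mem hq h5)]))) (mem_cent.1 (h2 hq)) with e | e
  · rw [P5.eq_one_of_odd (odd_zpowers hp hg g1) e (h4 q hq)]
    exact one_mem _
  · rw [eq_inv_of_mul_eq_one_left (P5.eq_one_of_odd (odd_zpowers hp hg g1) e
      (h4 _ (mul_mem hq h5)))]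
    exact inv_mem (mem_zpowers v)

theorem npc : HasNPC 2 𝐂[g] :=
  cyclic_minFac_npc Nat.prime_two (h.isSyl vv v1 hp hg g1 gv) inferInstance fun _ hq _ => hq.two_le

theorem sdProd : SdProd (Od g) (zpowers v) 𝐂[g] :=
  (h.npc vv v1 hp hg g1 gv).sdProd Nat.prime_two (h.isSyl vv v1 hp hg g1 gv)

theorem card_eq : 𝐨(𝐂[g]) = 2 * 𝐨(Od g) := by
  rw [(h.sdProd vv v1 hp hg g1 gv).card, Nat.card_zpowers, orderOf_invol vv v1, mul_comm]

theorem mem_Od {x : G} (hx : x ∈ 𝐂[g]) (ho : Odd (orderOf x)) : x ∈ Od g :=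
  zpowers_le.1 ((h.npc vv v1 hp hg g1 gv).le_pPrimeCoreOf Nat.prime_two (zpowers_le.2 hx)
    (by rw [Nat.card_zpowers]; exact ho.not_two_dvd_nat))

theorem Od_inf : Od g ⊓ 𝐂[v] = zpowers g := by
  refine le_antisymm (fun z hz => ?_) (zpowers_le.2 ⟨h.mem_Od vv v1 hp hg g1 gv
    (self_mem_cent1 g) (Nat.card_zpowers g ▸ odd_zpowers hp hg g1), gv⟩)
  refine (h.cent_mem vv v1 hp hg g1 gv hz.2 (mem_cent.1 (Od_le g hz.1))).elim id fun e => ?_
  have h1 : z * v ∈ Od g := zpowers_le.2 (h.mem_Od vv v1 hp hg g1 gv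
    (self_mem_cent1 g) (Nat.card_zpowers g ▸ odd_zpowers hp hg g1)) e
  exact absurd (P5.eq_one_of_odd (odd_Od g) ((Subgroup.mul_mem_cancel_left _ hz.1).1 h1) vv) v1

omit vv v1 in
theorem card_Od {s : G} (hV : V4 v s) (hs : s * g * s⁻¹ = g⁻¹) :
    𝐨(Od g) = p * (𝐨((Od g ⊓ 𝐂[s] : Subgroup G)) * 𝐨((Od g ⊓ 𝐂[v * s] : Subgroup G))) := by
  classical
  have h1 := H2.wielandt_formula (p := 2) (B := closure {v, s})
    ⟨isMulComm_iff_le_cent.2 fun a ha b hb => (commute_of_sq (hV.sq hb) (hV.sq ha)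
      (by rw [pow_two, hV.sq (mul_mem hb ha)])).eq, fun a ha => by rw [pow_two, hV.sq ha]⟩
    hV.card {v, s, v * s} (fun b => by
      rw [hV.mem_iff]
      simp only [Finset.mem_insert, Finset.mem_singleton]
      exact ⟨fun e => ⟨Or.inr e, by
        rcases e with rfl | rfl | rfl
        exacts [hV.t1, hV.s1, hV.ts1]⟩, fun e => e.1.resolve_left e.2⟩)
    (Od g) (feit_thompson _ (odd_Od g)) (V4.le_iff.2
      ⟨(h.sdProd hV.tt hV.t1 hp hg g1 gv).norm (mem_zpowers v),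
        conj_eq_self_iff.1 (by rw [← Od_conj, hs, Od_inv])⟩)
    (by rw [hV.card]; exact (Nat.coprime_two_left.2 (odd_Od g)).pow_left 2)
  have h2 : Od g ⊓ 𝐂(closure ({v, s} : Set G)) = ⊥ := eq_bot_iff.2 fun z hz =>
    P5.eq_one_of_odd (odd_Od g) hz.1
      (h.sq_of_comm hV (cent_le_cent1 V4.t_mem hz.2) (cent_le_cent1 V4.s_mem hz.2))
  rw [h2, Finset.prod_insert (by simp [hV.ts, hV.s1]),
    Finset.prod_pair hV.ts_ne_s.symm, h.Od_inf hV.tt hV.t1 hp hg g1 gv, Nat.card_zpowers,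
    ord hp hg g1] at h1
  simpa using h1

end A

end JH

end Cfsg.Agent.P8
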