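import Cfsg.Agent.P8.Tw
import Cfsg.Agent.P8.Pres

/-! From the local structure of a group of type `J1` to generators and relations. -/

set_option autoImplicit false

namespace Cfsg.Agent.P8

open Subgroup Equiv

variable {G : Type*} [Group G]

theorem inverts_zpowers {e y u : G} (he : e * e = 1) (hey : e * y * e = y⁻¹) (hu : u ∈ zpowers y) :
    e * u * e = u⁻¹ := by
  obtain ⟨i, rfl⟩ := hu
  have h1 := inv_eq_of_mul_eq_one_right he
  calc e * y ^ i * e = (e * y * e⁻¹) ^ i := by rw [conj_zpow, h1]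
    _ = (y ^ i)⁻¹ := by rw [h1, hey, inv_zpow]

theorem inv_form [Finite G] {x y e w : G} (hx : Odd (orderOf x)) (hy : Odd (orderOf y))
    (hc : (orderOf x).Coprime (orderOf y)) (hxy : Commute x y) (he : e * e = 1) (he1 : e ≠ 1)
    (hex : Commute e x) (hey : e * y * e = y⁻¹)
    (hC : Nat.card (centralizer ({x} : Set G)) = 2 * (orderOf x * orderOf y))
    (hw : w * w = 1) (hw1 : w ≠ 1) (hwx : Commute w x) : ∃ u ∈ zpowers y, w = e * u := by
  have hn : zpowers x ≤ normalizer (zpowers y : Set G) :=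
    H1.le_normalizer_of_le_centralizer (zpowers_le.2 fun y hy => by
      obtain ⟨i, rfl⟩ := hy
      exact (hxy.symm.zpow_left i))
  have hA : zpowers x ⊔ zpowers y ≤ centralizer {x} :=
    sup_le (zpowers_le.2 (mem_cent.2 (Commute.refl x))) (zpowers_le.2 (mem_cent.2 hxy.symm))
  have h1 := H1.card_sup_of_coprime hn (by rwa [Nat.card_zpowers, Nat.card_zpowers])
  rw [Nat.card_zpowers, Nat.card_zpowers] at h1
  have h2 := H1.card_mul_relIndex hA
  rw [h1, hC, mul_comm] at h2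
  have h3 := Nat.eq_of_mul_eq_mul_right (hx.mul hy).pos h2
  have h4 := (mul_mem_iff_of_index_two h3 (a := ⟨e, mem_cent.2 hex⟩)
    (b := ⟨w, mem_cent.2 hwx⟩)).2 (iff_of_false
      (fun h => he1 (L.eq_one_of_sq_of_odd (h1 ▸ hx.mul hy) h he))
      (fun h => hw1 (L.eq_one_of_sq_of_odd (h1 ▸ hx.mul hy) h hw)))
  obtain ⟨s, hs, u, hu, h5⟩ := (H1.mem_sup_iff_of_le_normalizer hn).1 h4
  have h6 : w = e * (s * u) := by
    rw [h5]
    change w = e * (e * w)
    rw [← mul_assoc, he, one_mul]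
  have h7 : Commute s e := by obtain ⟨i, rfl⟩ := hs; exact hex.symm.zpow_left i
  have h8 : Commute s u := by
    obtain ⟨i, rfl⟩ := hs; obtain ⟨j, rfl⟩ := hu; exact hxy.zpow_zpow i j
  have h9 : s * s = 1 := by
    calc s * s = s * s * (e * u * e * u) := by
          rw [inverts_zpowers he hey hu, inv_mul_cancel, mul_one]
      _ = s * e * u * (s * e) * u := by
          simp only [mul_assoc]
          rw [← mul_assoc u s, ← h8.eq, mul_assoc s u, ← mul_assoc e s, ← h7.eq, mul_assoc s e]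
      _ = w * w := by rw [h7.eq, h6]; simp only [mul_assoc]
      _ = 1 := hw
  rw [L.eq_one_of_sq_of_odd (by rwa [Nat.card_zpowers]) hs h9, one_mul] at h6
  exact ⟨u, hu, h6⟩

theorem conj_form [Finite G] {y e u : G} (hy : Odd (orderOf y)) (he : e * e = 1)
    (hey : e * y * e = y⁻¹) (hu : u ∈ zpowers y) : ∃ s ∈ zpowers y, s * (e * u) * s⁻¹ = e := by
  obtain ⟨s, hs, rfl⟩ := L.exists_sq_eq_of_odd (by rwa [Nat.card_zpowers]) hu
  refine ⟨s, hs, ?_⟩
  have h1 := inverts_zpowers he hey hs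
  calc s * (e * (s * s)) * s⁻¹ = e * e * s * e * s := by rw [he]; group
    _ = e := by rw [mul_assoc e e, mul_assoc e, h1]; group

theorem Tw.one {v : G} {χ : G → ℤˣ} (h : Tw v χ) : χ 1 = 1 := by
  have := h.mul 1 1 (Commute.one_left v) (Commute.one_left v)
  rwa [one_mul, left_eq_mul] at this

theorem Tw.pow {v : G} {χ : G → ℤˣ} (h : Tw v χ) {a : G} (ha : Commute a v) (n : ℕ) :
    χ (a ^ n) = χ a ^ n := by
  induction n with
  | zero => rw [pow_zero, pow_zero, h.one]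
  | succ n ih => rw [pow_succ, pow_succ, h.mul _ _ (ha.pow_left n) ha, ih]

theorem Tw.pow_odd {v : G} {χ : G → ℤˣ} (h : Tw v χ) {a : G} (ha : Commute a v) {n : ℕ}
    (hn : Odd n) : χ (a ^ n) = χ a := by
  rw [h.pow ha]
  rcases Int.units_eq_one_or (χ a) with h1 | h1 <;> rw [h1]
  · exact one_pow n
  · exact hn.neg_one_pow

theorem Tw.odd {v : G} {χ : G → ℤˣ} (h : Tw v χ) {a : G} (ha : Commute a v)
    (ho : Odd (orderOf a)) : χ a = 1 := by
  rw [← h.pow_odd ha ho, pow_orderOf_eq_one, h.one]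

theorem Tw.eq_one {v : G} {χ : G → ℤˣ} (h : Tw v χ) {z : G} (hz : z = 1 ∨ z = v) (h1 : χ z = 1) :
    z = 1 := hz.elim id fun h2 => absurd (h1.symm.trans (h2 ▸ h.neg)) (by decide)

theorem Tw.eq_self {v : G} {χ : G → ℤˣ} (h : Tw v χ) {z : G} (hz : z = 1 ∨ z = v)
    (h1 : χ z = -1) : z = v :=
  hz.elim (fun h2 => absurd (h1.symm.trans (h2 ▸ h.one)) (by decide)) id

/-- The local structure of `J1`: `⟨e, y⟩ × ⟨d, x⟩ = D10 × D6`, `C(e) = ⟨e⟩ × A5`. -/
structure Loc (x y e d : G) : Prop where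
  ox : orderOf x = 3
  oy : orderOf y = 5
  xy : Commute x y
  ee : e * e = 1
  e1 : e ≠ 1
  dd : d * d = 1
  d1 : d ≠ 1
  ex : Commute e x
  ey : e * y * e = y⁻¹
  dy : Commute d y
  dx : d * x * d = x⁻¹
  ed : Commute e d
  cx : Nat.card (centralizer ({x} : Set G)) = 30
  cy : Nat.card (centralizer ({y} : Set G)) = 30
  three : ∀ z : G, orderOf z = 3 → ∃ g, g * z * g⁻¹ = x
  conj : ∃ g, g * e * g⁻¹ = d
  good : ∃ φ, Good (self e) φ
  h16 : ¬ 16 ∣ Nat.card G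

/-- `b` completes `e, d` to a basis of an elementary abelian group of order 8. -/
structure Third (e d b : G) : Prop where
  bb : b * b = 1
  be : Commute b e
  bd : Commute b d
  n1 : b ≠ 1
  ne : b ≠ e
  nd : b ≠ d
  ned : b ≠ e * d

theorem Third.symm {e d b : G} (h : Third e d b) (hed : Commute e d) : Third d e b :=
  ⟨h.bb, h.bd, h.be, h.n1, h.nd, h.ne, hed.eq ▸ h.ned⟩

theorem Third.mul {e d b : G} (h : Third e d b) (he : e * e = 1) (hed : Commute e d) :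
    Third e d (b * e) := by
  have h1 := inv_eq_of_mul_eq_one_right he
  refine ⟨?_, h.be.mul_left (Commute.refl e), h.bd.mul_left hed, ?_, by simpa using h.n1, ?_, ?_⟩
  · rw [mul_assoc, ← mul_assoc e, ← h.be.eq, mul_assoc, he, mul_one, h.bb]
  · rw [Ne, mul_eq_one_iff_eq_inv, h1]; exact h.ne
  · rw [Ne, ← eq_mul_inv_iff_mul_eq, h1, ← hed.eq]; exact h.ned
  · rw [hed.eq]; simpa using h.nd

theorem not_commute_of_inverts {e y : G} {n j : ℕ} (hy : orderOf y = n) (he : e * e = 1)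
    (hey : e * y * e = y⁻¹) (hj : ¬ n ∣ j + j) : ¬ Commute (y ^ j) e := fun h => by
  have h1 := inverts_zpowers he hey (pow_mem (mem_zpowers y) j)
  rw [mul_assoc, h.eq, ← mul_assoc, he, one_mul, eq_inv_iff_mul_eq_one, ← pow_add,
    ← orderOf_dvd_iff_pow_eq_one, hy] at h1
  exact hj h1

theorem Loc.ne {x y e d : G} (h : Loc x y e d) : e ≠ d := fun h1 =>
  not_commute_of_inverts (j := 1) h.oy h.ee h.ey (by decide) (by rw [pow_one, h1]; exact h.dy.symm)

theorem Loc.exists_rel [Finite G] {x y e d : G} (h : Loc x y e d) :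
    ∃ j b, (j = 1 ∨ j = 2) ∧ Third e d b ∧ Rel e (e * y ^ j) b (d * x) d := by
  obtain ⟨φ, hφ⟩ := h.good
  obtain ⟨g, hg⟩ := h.conj
  have hne := h.ne
  obtain ⟨b0, hb0⟩ : ∃ b, Third e d b := by
    obtain ⟨b, a1, a2, a3, a4, a5, a6⟩ := hφ.exists_third (Subtype.ext h.ee)
      (fun g => Subtype.ext (mem_cent.1 g.2)) (d := ⟨d, mem_cent.2 h.ed.symm⟩) (Subtype.ext h.dd)
      (fun a => h.d1 (congrArg Subtype.val a)) (fun a => hne (congrArg Subtype.val a).symm)
    exact ⟨b, congrArg Subtype.val a1, mem_cent.1 b.2, congrArg Subtype.val a2,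
      fun a => a3 (Subtype.ext a), fun a => a4 (Subtype.ext a), fun a => a5 (Subtype.ext a),
      fun a => a6 (Subtype.ext a)⟩
  have hsw : ∀ k : G, k * e * k⁻¹ = d → k * d * k⁻¹ = e → False := fun k =>
    no_swap h.h16 h.ee h.dd hb0.bb h.ed hb0.be hb0.bd h.e1 h.d1 hne hb0.n1 hb0.ne hb0.nd hb0.ned
  obtain ⟨χ, χ', he, hd, hg'⟩ : ∃ χ χ' : G → ℤˣ, Tw e χ ∧ Tw d χ' ∧ χ' e = χ (g⁻¹ * e * g) := by
    obtain ⟨χ, hχ⟩ := exists_chi h.h16 h.ee h.dd hb0.bb hb0.bd.symm h.ed.symm hb0.be h.d1 hb0.n1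
      hb0.nd.symm h.e1 hne hb0.ne.symm fun a => hb0.ned (by
        rw [h.ed.eq, a, ← mul_assoc, h.dd, one_mul])
    refine ⟨_, _, Tw.of h.ee hφ χ hχ, Tw.of h.dd (hφ.of_equiv (cj hg) (cj_self hg))
      (χ.comp (cj hg).toMonoidHom) (by simpa [cj_self] using hχ), ?_⟩
    have a1 : g⁻¹ * e * g ∈ centralizer ({e} : Set G) := (cj hg ⟨e, mem_cent.2 h.ed⟩).2
    rw [dif_pos (mem_cent.2 h.ed), dif_pos a1]
    rfl
  have htour : χ d ≠ χ' e := fun a => by
    have a1 : Commute (g⁻¹ * e * g) e := mem_cent.1 (cj hg ⟨e, mem_cent.2 h.ed⟩).2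
    obtain ⟨k, k1, k2⟩ := he.conj d (g⁻¹ * e * g) h.ed.symm a1 h.dd
      (by rw [show g⁻¹ * e * g * (g⁻¹ * e * g) = g⁻¹ * (e * e) * g by group, h.ee]; simp) h.d1
      (fun a2 => h.e1 (by rw [show e = g * (g⁻¹ * e * g) * g⁻¹ by group, a2]; simp)) hne.symm
      (fun a2 => hne (by rw [← hg]; nth_rewrite 2 [← a2]; group)) (a.trans hg')
    refine hsw (g * k) ?_ ?_
    · rw [show g * k * e * (g * k)⁻¹ = g * (k * e * k⁻¹) * g⁻¹ by group, k1.eq,
        mul_inv_cancel_right, hg]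
    · rw [show g * k * d * (g * k)⁻¹ = g * (k * d * k⁻¹) * g⁻¹ by group, k2]; group
  obtain ⟨b, hb, b1, b2⟩ : ∃ b, Third e d b ∧ χ b = χ d ∧ χ' b = χ' e := by
    have t1 := hb0.mul h.ee h.ed
    have t2 := ((hb0.symm h.ed).mul h.dd h.ed.symm).symm h.ed.symm
    have t3 := t2.mul h.ee h.ed
    have e1 := he.mul _ _ hb0.be (Commute.refl e)
    have e2 := he.mul _ _ hb0.be h.ed.symm
    have e3 := he.mul _ _ t2.be (Commute.refl e)
    have d1 := hd.mul _ _ hb0.bd h.ed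
    have d2 := hd.mul _ _ hb0.bd (Commute.refl d)
    have d3 := hd.mul _ _ t2.bd h.ed
    rw [e2, he.neg] at e3
    rw [he.neg] at e1
    rw [hd.neg] at d2
    rw [d2] at d3
    have key : ∀ p q r s : ℤˣ, r ≠ s → (p = r ∧ q = s) ∨ (p * -1 = r ∧ q * s = s) ∨
        (p * r = r ∧ q * -1 = s) ∨ (p * r * -1 = r ∧ q * -1 * s = s) := by decide
    rcases key (χ b0) (χ' b0) _ _ htour with a | a | a | a
    · exact ⟨_, hb0, a⟩
    · exact ⟨_, t1, e1.trans a.1, d1.trans a.2⟩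
    · exact ⟨_, t2, e2.trans a.1, d2.trans a.2⟩
    · exact ⟨_, t3, e3.trans a.1, d3.trans a.2⟩
  obtain ⟨j, hj, f1, f2⟩ := hd.five e b y h.ed hb.bd h.dy.symm h.ee h.e1 hne hb.bb hb.n1 hb.nd
    hb.ne hb.ned hb.be h.oy h.ey
  obtain ⟨f3, f4⟩ := he.three d b x h.ed.symm hb.be h.ex.symm h.dd h.d1 hne.symm hb.bb hb.n1 hb.ne
    hb.nd (h.ed.eq ▸ hb.ned) hb.bd h.ox h.dx
  have oy : Odd (orderOf y) := by rw [h.oy]; decide
  have ox : Odd (orderOf x) := by rw [h.ox]; decide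
  have yd : Commute (y ^ j) d := h.dy.symm.pow_left j
  have hy : χ' (y ^ j) = 1 := by rw [hd.pow h.dy.symm, hd.odd h.dy.symm oy, one_pow]
  have hx : χ (d * x) = χ d := by rw [he.mul _ _ h.ed.symm h.ex.symm, he.odd h.ex.symm ox, mul_one]
  have ce : Commute (d * x) e := h.ed.symm.mul_left h.ex.symm
  have ad : Commute (e * y ^ j) d := h.ed.mul_left yd
  have ac : Commute (e * y ^ j) (d * x) := ad.mul_right (h.ex.mul_left (h.xy.symm.pow_left j))
  have ye : ¬ Commute (y ^ j) e := not_commute_of_inverts h.oy h.ee h.ey (by omega)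
  have ae : ¬ Commute (e * y ^ j) e := fun a => ye (by
    simpa using (Commute.refl e).inv_left.mul_left a)
  have aa : e * y ^ j * (e * y ^ j) = 1 := by
    rw [← mul_assoc, inverts_zpowers h.ee h.ey (pow_mem (mem_zpowers y) j), inv_mul_cancel]
  have cc : d * x * (d * x) = 1 := by rw [← mul_assoc, h.dx, inv_mul_cancel]
  have ab := hd.eq_one f1 (by
    rw [hd.pow_odd (ad.mul_left hb.bd) (by decide), hd.mul _ _ ad hb.bd, hd.mul _ _ h.ed yd, hy,
      b2, mul_one, Int.units_mul_self])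
  have bc := he.eq_one f3 (by
    rw [he.pow_odd (hb.be.mul_left ce) (by decide), he.mul _ _ hb.be ce, hx, b1,
      Int.units_mul_self])
  have sq : ∀ u v : G, u * u = 1 → v * v = 1 → Commute u v → (u * v) ^ 2 = 1 := fun u v a1 a2 a3 =>
    by rw [a3.mul_pow, pow_two, pow_two, a1, a2, one_mul]
  have abc : (e * y ^ j * b * (d * x)) ^ 5 = 1 := by
    obtain ⟨z1, z2, z3, z4⟩ := h3_central aa hb.bb cc ab bc (sq _ _ aa cc ac)
    generalize (e * y ^ j * b * (d * x)) ^ 5 = z at z1 z2 z3 z4 ⊢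
    by_contra z0
    obtain ⟨g1, hg1⟩ := h.three (e * y ^ j * b) (orderOf_eq_prime ab fun a => ae (by
      rw [eq_inv_of_mul_eq_one_left a]; exact hb.be.inv_left))
    have key : ∀ w : G, w * w = 1 → w ≠ 1 → Commute w (e * y ^ j * b) →
        ∃ u ∈ zpowers y, g1 * w * g1⁻¹ = e * u := fun w w1 w2 w3 =>
      inv_form ox oy (by rw [h.ox, h.oy]; decide) h.xy h.ee h.e1 h.ex h.ey
        (by rw [h.cx, h.ox, h.oy]) (by rw [conj_mul, w1, mul_one, mul_inv_cancel])
        (by simpa using w2) (hg1 ▸ w3.conj g1)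
    obtain ⟨u, hu, u1⟩ := key d h.dd h.d1 (ad.mul_left hb.bd).symm
    obtain ⟨v, hv, v1⟩ := key z z1 z0 (z2.mul_right z3)
    have a1 : Commute (g1 * (e * y ^ j) * g1⁻¹) (u⁻¹ * v) := by
      have := (ad.conj g1).inv_right.mul_right (z2.symm.conj g1)
      rwa [u1, v1, mul_inv_rev, mul_assoc u⁻¹, inv_mul_cancel_left] at this
    have a2 : u⁻¹ * v ≠ 1 := by
      rw [Ne, inv_mul_eq_one]
      rintro rfl
      rw [← mul_left_cancel (mul_right_cancel (u1.trans v1.symm))] at z4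
      exact not_commute_of_inverts (j := 1) h.ox h.dd h.dx (by decide) (by
        simpa using (Commute.refl d).inv_left.mul_left z4.symm)
    have a3 : Commute (g1 * (e * y ^ j) * g1⁻¹) y := by
      have : Fact (Nat.Prime 5) := ⟨by norm_num⟩
      obtain ⟨i, hi⟩ := mem_zpowers_of_prime_card (G := zpowers y) (p := 5)
        (by rw [Nat.card_zpowers, h.oy]) (g := ⟨u⁻¹ * v, mul_mem (inv_mem hu) hv⟩)
        (fun a => a2 (congrArg Subtype.val a)) (g' := ⟨y, mem_zpowers y⟩)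
      have hi' : (u⁻¹ * v) ^ i = y := congrArg Subtype.val hi
      nth_rewrite 2 [← hi']
      exact a1.zpow_right i
    obtain ⟨w, hw, w1⟩ := inv_form oy ox (by rw [h.ox, h.oy]; decide) h.xy.symm h.dd h.d1 h.dy h.dx
      (by rw [h.cy, h.ox, h.oy]) (by rw [conj_mul, aa, mul_one, mul_inv_cancel])
      (by simpa using fun a : e * y ^ j = 1 => ae (by rw [a]; exact Commute.one_left e)) a3
    obtain ⟨s, hs, s1⟩ := conj_form oy h.ee h.ey hu
    obtain ⟨t, ht, t1⟩ := conj_form ox h.dd h.dx hw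
    obtain ⟨r, hr, r1⟩ := conj_form oy h.ee h.ey (pow_mem (mem_zpowers y) j)
    have s2 : Commute s (g1 * (e * y ^ j) * g1⁻¹) := by
      obtain ⟨i, rfl⟩ := hs; exact a3.symm.zpow_left i
    have t2 : Commute t e := by obtain ⟨i, rfl⟩ := ht; exact h.ex.symm.zpow_left i
    have r2 : Commute r d := by obtain ⟨i, rfl⟩ := hr; exact h.dy.symm.zpow_left i
    refine hsw (t * s * g1 * r⁻¹) ?_ ?_
    · calc _ = t * (s * (g1 * (r⁻¹ * (r * (e * y ^ j) * r⁻¹) * r) * g1⁻¹) * s⁻¹) * t⁻¹ := by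
            rw [r1]; group
        _ = d := by
            rw [show r⁻¹ * (r * (e * y ^ j) * r⁻¹) * r = e * y ^ j by group, s2.eq,
              mul_inv_cancel_right, w1, t1]
    · calc _ = t * (s * (g1 * (r⁻¹ * d * r) * g1⁻¹) * s⁻¹) * t⁻¹ := by group
        _ = e := by
            rw [mul_assoc r⁻¹, ← r2.eq, inv_mul_cancel_left, u1, s1, t2.eq, mul_inv_cancel_right]
  have h0 : Rel0 e (e * y ^ j) b (d * x) d :=
    ⟨h.ee, aa, hb.bb, cc, h.dd,
      by rw [← mul_assoc, h.ee, one_mul, ← pow_mul, ← orderOf_dvd_iff_pow_eq_one, h.oy]; omega,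
      ab, bc, by rw [h.dx, inv_pow, inv_eq_one, ← orderOf_dvd_iff_pow_eq_one, h.ox],
      sq _ _ h.ee hb.bb hb.be.symm, sq _ _ h.ee cc ce.symm, sq _ _ h.ee h.dd h.ed, sq _ _ aa cc ac,
      sq _ _ aa h.dd ad, sq _ _ hb.bb h.dd hb.bd, abc⟩
  have g1 : χ ((b * (d * x) * d) ^ 5) = χ d := by
    rw [he.pow_odd ((hb.be.mul_left ce).mul_left h.ed.symm) (by decide),
      he.mul _ _ (hb.be.mul_left ce) h.ed.symm, he.mul _ _ hb.be ce, hx, b1, Int.units_mul_self,
      one_mul]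
  have g2 : χ' ((y ^ j * b) ^ 5) = χ' e := by
    rw [hd.pow_odd (yd.mul_left hb.bd) (by decide), hd.mul _ _ yd hb.bd, hy, one_mul, b2]
  have g3 : e * (e * y ^ j) * b = y ^ j * b := by rw [← mul_assoc, h.ee, one_mul]
  rcases (by decide : ∀ p q : ℤˣ, p ≠ q → (p = 1 ∧ q = -1) ∨ (p = -1 ∧ q = 1)) _ _ htour
    with a | a
  · exact ⟨j, b, hj, hb, h0, he.eq_one f4 (g1.trans a.1),
      by rw [g3, hd.eq_self f2 (g2.trans a.2), h.dd]⟩
  · exact absurd (mem_cent.1 (h0.collapse (g3 ▸ hd.eq_one f2 (g2.trans a.2))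
      (by rw [he.eq_self f4 (g1.trans a.1), h.ee]) _ (mem_cent.2 hb.be) (mem_cent.2 ce)
      (mem_cent.2 h.ed.symm))) ae

end Cfsg.Agent.P8
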