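import Mathlib.GroupTheory.GroupAction.Quotient
import Mathlib.GroupTheory.Index
import Mathlib.Data.Set.Card
import Mathlib.Tactic

/-!
# A kernel-checked coset enumeration

Letters are the numbers `1, …, W - 1` (letter `0` stands for the identity and records
coincidences), `iv` is the inverse letter.  The coset table is one natural number with 16-bit
digits.  `P` lists the definitions (24-bit digits: parent * 256 + letter), `cert` the deductions
(32-bit digits: coset * 65536 + kind * 256 + position).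
-/

set_option autoImplicit false

namespace Cfsg.Agent.P8.TC

def get (T k : ℕ) : ℕ := Nat.mod (Nat.shiftRight T (Nat.mul 16 k)) 65536

def put (T k v : ℕ) : ℕ := Nat.xor T (Nat.shiftLeft (Nat.xor (get T k) v) (Nat.mul 16 k))

def key (W i x : ℕ) : ℕ := Nat.add (Nat.mul W i) x

/-- Evaluate a number before passing it on. -/
def force (n : ℕ) (k : ℕ → ℕ) : ℕ := Nat.rec (k 0) (fun m _ => k m.succ) n

/-- Continue only with a nonzero number. -/
def bnd (n d : ℕ) (k : ℕ → ℕ) : ℕ := Nat.rec d (fun m _ => k m.succ) n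

def res (W T f : ℕ) : ℕ → ℕ :=
  Nat.rec (fun j => j) (fun _ ih j => bnd (get T (key W j 0)) j ih) f

def nxt (W T i x : ℕ) : ℕ := bnd (get T (key W i x)) 0 (res W T 40)

def tr (W T : ℕ) (u : List ℕ) : ℕ → ℕ :=
  List.rec (fun i => i) (fun x _ ih i => bnd (nxt W T i x) 0 ih) u

def fact (W T i x j : ℕ) : ℕ :=
  bnd (get T (key W i x)) (put T (key W i x) j) fun m => force (res W T 40 m) fun a =>
    cond (Nat.beq a j) T (cond (Nat.ble a j) (put T (key W j 0) a) (put T (key W a 0) j))

def fact2 (W : ℕ) (iv : ℕ → ℕ) (T i x j : ℕ) : ℕ :=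
  force (fact W T i x j) fun T' => fact W T' j (iv x) i

def par (P k : ℕ) : ℕ := Nat.mod (Nat.shiftRight P (Nat.add (Nat.mul 24 k) 8)) 65536

def ltr (P k : ℕ) : ℕ := Nat.mod (Nat.shiftRight P (Nat.mul 24 k)) 256

def defn (W : ℕ) (iv : ℕ → ℕ) (P T k : ℕ) : ℕ :=
  force (par P k) fun p => force (ltr P k) fun x =>
    cond (Nat.blt p k && Nat.blt 1 k && Nat.blt x W && Nat.blt k 65536) (fact2 W iv T p x k) T

def start (W : ℕ) (iv : ℕ → ℕ) (P n : ℕ) : ℕ :=
  Nat.rec (motive := fun _ => ℕ → ℕ) (fun T => T)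
    (fun k ih T => force (defn W iv P T k.succ) ih) n 0

def gap (l : List ℕ) (d : ℕ) (k : ℕ → List ℕ → ℕ) : ℕ := List.rec d (fun x v _ => k x v) l

def step (W : ℕ) (iv : ℕ → ℕ) (rels subs : List (List ℕ)) (T s : ℕ) : ℕ :=
  force (Nat.mod s 256) fun k => force (Nat.mod (Nat.shiftRight s 8) 256) fun r =>
  force (Nat.mod (Nat.shiftRight s 16) 65536) fun i =>
  cond (Nat.blt r 128)
    (gap ((rels.getD r []).drop k) T fun x v => bnd (tr W T v i) T fun j₁ =>
      bnd (tr W T ((rels.getD r []).take k) j₁) T fun j => fact2 W iv T j x i)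
    (cond (Nat.beq r 255)
      (cond (Nat.blt k W) (bnd (nxt W T i k) T fun j => force (res W T 40 i) fun i' =>
        fact W T i' k j) T)
      (cond (Nat.beq r 254) (cond (Nat.blt 0 W) (put T (key W i 0) (res W T 40 i)) T)
      (gap ((subs.getD (Nat.sub r 128) []).drop k) T fun x v =>
        bnd (tr W T (v.reverse.map iv) 1) T fun i' =>
        bnd (tr W T ((subs.getD (Nat.sub r 128) []).take k) 1) T fun j => fact2 W iv T j x i')))

def chunk (W : ℕ) (iv : ℕ → ℕ) (rels subs : List (List ℕ)) (f : ℕ) : ℕ → ℕ → ℕ :=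
  Nat.rec (motive := fun _ => ℕ → ℕ → ℕ) (fun _ T => T)
    (fun _ ih c T => bnd c T fun c' => force (step W iv rels subs T (Nat.mod c' 4294967296))
      fun T' => force (Nat.shiftRight c' 32) fun c'' => ih c'' T') f

def run (W : ℕ) (iv : ℕ → ℕ) (rels subs : List (List ℕ)) (cert : List ℕ) : ℕ → ℕ :=
  List.rec (fun T => T) (fun c _ ih T => force (chunk W iv rels subs 64 c T) ih) cert

def table (W : ℕ) (iv : ℕ → ℕ) (rels subs : List (List ℕ)) (P n : ℕ) (cert : List ℕ) : ℕ :=
  force (start W iv P n) (run W iv rels subs cert)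

def live (M n i : ℕ) : Bool :=
  Nat.blt 0 i && Nat.ble i n && Nat.beq (Nat.mod (Nat.shiftRight M i) 2) 1

def closed (W T M n N : ℕ) : Bool :=
  live M n 1 && Nat.ble ((List.range n.succ).filter (live M n)).length N &&
    (List.range n.succ).all fun i => !(live M n i) ||
      (List.range W).all fun x => Nat.beq x 0 || live M n (nxt W T i x)

def small (W : ℕ) (l : List (List ℕ)) : Bool := l.all fun r => r.all fun x => Nat.blt x W

def forceB (n : ℕ) (k : ℕ → Bool) : Bool := Nat.rec (k 0) (fun m _ => k m.succ) n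

/-- The table closes up on the at most `N` cosets marked in the bit mask `M`. -/
def checkIndex (W : ℕ) (iv : ℕ → ℕ) (rels subs : List (List ℕ)) (P n : ℕ) (cert : List ℕ)
    (M N : ℕ) : Bool :=
  small W rels && small W subs && forceB (table W iv rels subs P n cert) fun T => closed W T M n N

/-- Each of the words `ws` leads from the first coset back to it. -/
def checkWords (W : ℕ) (iv : ℕ → ℕ) (rels subs : List (List ℕ)) (P n : ℕ) (cert : List ℕ)
    (ws : List (List ℕ)) : Bool :=
  small W rels && small W subs && small W ws &&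
    forceB (table W iv rels subs P n cert) fun T => ws.all fun w => Nat.beq (tr W T w 1) 1

theorem force_eq (n : ℕ) (k : ℕ → ℕ) : force n k = k n := by cases n <;> rfl

theorem forceB_eq (n : ℕ) (k : ℕ → Bool) : forceB n k = k n := by cases n <;> rfl

theorem bnd_eq (n d : ℕ) (k : ℕ → ℕ) : bnd n d k = if n = 0 then d else k n := by
  cases n <;> rfl

theorem gap_cons (x : ℕ) (v : List ℕ) (d : ℕ) (k : ℕ → List ℕ → ℕ) :
    gap (x :: v) d k = k x v := rfl

theorem chunk_succ (W : ℕ) (iv : ℕ → ℕ) (rels subs : List (List ℕ)) (f c T : ℕ) :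
    chunk W iv rels subs (f + 1) c T = bnd c T fun c' =>
      force (step W iv rels subs T (Nat.mod c' 4294967296))
      fun T' => force (Nat.shiftRight c' 32) fun c'' => chunk W iv rels subs f c'' T' := rfl

theorem get_lt (T k : ℕ) : get T k < 65536 := Nat.mod_lt _ (by norm_num)

theorem get_eq (T k : ℕ) : get T k = (T >>> (16 * k)) % 2 ^ 16 := rfl

theorem get_put (T k v k' : ℕ) (hv : v < 65536) :
    get (put T k v) k' = if k' = k then v else get T k' := by
  have h1 : get T k ^^^ v < 2 ^ 16 := Nat.xor_lt_two_pow (get_lt T k) hv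
  change get (T ^^^ ((get T k ^^^ v) <<< (16 * k))) k' = _
  rw [get_eq, Nat.shiftRight_xor_distrib, Nat.xor_mod_two_pow, ← get_eq]
  generalize hu : get T k ^^^ v = u at h1
  split_ifs with h
  · subst h
    rw [Nat.shiftLeft_shiftRight, Nat.mod_eq_of_lt h1, ← hu, ← Nat.xor_assoc, Nat.xor_self,
      Nat.zero_xor]
  · have : (u <<< (16 * k)) >>> (16 * k') % 2 ^ 16 = 0 := by
      refine Nat.eq_of_testBit_eq fun b => ?_
      rw [Nat.testBit_mod_two_pow, Nat.testBit_shiftRight, Nat.testBit_shiftLeft,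
        Nat.zero_testBit]
      by_cases hb : b < 16
      · rcases lt_or_gt_of_ne h with h | h
        · have : ¬ (16 * k' + b ≥ 16 * k) := by omega
          simp [this]
        · rw [Nat.testBit_lt_two_pow (h1.trans_le (Nat.pow_le_pow_right two_pos (by omega)))]
          simp
      · simp [hb]
    rw [this, Nat.xor_zero]

section sound

variable {X Ω : Type*} [Group X] [MulAction X Ω] {W : ℕ} {g : ℕ → X} {c : ℕ → Ω}

/-- Every entry of the table is true. -/
def Inv (W : ℕ) (g : ℕ → X) (c : ℕ → Ω) (T : ℕ) : Prop :=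
  ∀ i x, x < W → get T (key W i x) ≠ 0 → (g x)⁻¹ • c i = c (get T (key W i x))

theorem key_inj {i x i' x' : ℕ} (hx : x < W) (hx' : x' < W) (h : key W i x = key W i' x') :
    i = i' ∧ x = x' := by
  change W * i + x = W * i' + x' at h
  have h1 := congrArg (· % W) h
  have h2 := congrArg (· / W) h
  simp only [Nat.mul_add_mod, Nat.mod_eq_of_lt hx, Nat.mod_eq_of_lt hx'] at h1
  simp only [Nat.mul_add_div (Nat.zero_lt_of_lt hx), Nat.div_eq_of_lt hx,
    Nat.div_eq_of_lt hx'] at h2
  exact ⟨h2, h1⟩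

theorem Inv.put {T i x j : ℕ} (h : Inv W g c T) (hx : x < W) (hj : j < 65536)
    (hf : (g x)⁻¹ • c i = c j) : Inv W g c (put T (key W i x) j) := by
  intro i' x' hx' h0
  rw [get_put _ _ _ _ hj] at h0 ⊢
  split_ifs at h0 ⊢ with hk
  · obtain ⟨rfl, rfl⟩ := key_inj hx' hx hk
    exact hf
  · exact h i' x' hx' h0

theorem Inv.res {T : ℕ} (h : Inv W g c T) (hW : 0 < W) (hg : g 0 = 1) (f j : ℕ) :
    c (res W T f j) = c j ∧ (j < 65536 → res W T f j < 65536) := by
  induction f generalizing j with
  | zero => exact ⟨rfl, id⟩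
  | succ f ih =>
    change c (bnd _ _ (TC.res W T f)) = _ ∧ (_ → bnd _ _ (TC.res W T f) < _)
    rw [bnd_eq]
    split_ifs with h0
    · exact ⟨rfl, id⟩
    · have h1 := h j 0 hW h0
      rw [hg, inv_one, one_smul] at h1
      exact ⟨(ih _).1.trans h1.symm, fun _ => (ih _).2 (get_lt _ _)⟩

theorem Inv.nxt {T i x : ℕ} (h : Inv W g c T) (hg : g 0 = 1) (hx : x < W)
    (h0 : nxt W T i x ≠ 0) : (g x)⁻¹ • c i = c (nxt W T i x) ∧ nxt W T i x < 65536 := by
  unfold TC.nxt at h0 ⊢
  rw [bnd_eq] at h0 ⊢
  split_ifs at h0 ⊢ with h1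
  · exact absurd rfl h0
  · have h2 := h.res (Nat.zero_lt_of_lt hx) hg 40 (get T (key W i x))
    exact ⟨(h i x hx h1).trans h2.1.symm, h2.2 (get_lt _ _)⟩

theorem Inv.tr {T : ℕ} (h : Inv W g c T) (hg : g 0 = 1) (u : List ℕ) (hu : ∀ x ∈ u, x < W)
    (i : ℕ) (hi : i < 65536) (h0 : tr W T u i ≠ 0) :
    (u.map g).prod⁻¹ • c i = c (tr W T u i) ∧ tr W T u i < 65536 := by
  induction u generalizing i with
  | nil => exact ⟨by simp [TC.tr], hi⟩
  | cons x u ih =>
    change bnd _ _ (TC.tr W T u) ≠ 0 at h0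
    change _ = c (bnd _ _ (TC.tr W T u)) ∧ bnd _ _ (TC.tr W T u) < _
    rw [bnd_eq] at h0 ⊢
    split_ifs at h0 ⊢ with h1
    · exact absurd rfl h0
    · have h2 := h.nxt hg (hu x (by simp)) h1
      have h3 := ih (fun y hy => hu y (by simp [hy])) _ h2.2 h0
      refine ⟨?_, h3.2⟩
      rw [← h3.1, ← h2.1, List.map_cons, List.prod_cons, mul_inv_rev, mul_smul]

theorem Inv.fact {T i x j : ℕ} (h : Inv W g c T) (hg : g 0 = 1) (hx : x < W) (hj : j < 65536)
    (hf : (g x)⁻¹ • c i = c j) : Inv W g c (fact W T i x j) := by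
  unfold TC.fact
  rw [bnd_eq]
  have hW := Nat.zero_lt_of_lt hx
  split_ifs with h0
  · exact h.put hx hj hf
  · rw [force_eq]
    have h1 := h.res hW hg 40 (get T (key W i x))
    have h2 := h1.1.trans ((h i x hx h0).symm.trans hf)
    cases Nat.beq _ j
    · cases Nat.ble _ j
      · exact h.put hW hj (by rw [hg, inv_one, one_smul, h2])
      · exact h.put hW (h1.2 (get_lt _ _)) (by rw [hg, inv_one, one_smul, h2])
    · exact h

variable {iv : ℕ → ℕ}

theorem Inv.fact2 {T i x j : ℕ} (h : Inv W g c T) (hg : g 0 = 1)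
    (hiv : ∀ x < W, iv x < W ∧ g (iv x) * g x = 1) (hx : x < W) (hi : i < 65536)
    (hj : j < 65536) (hf : (g x)⁻¹ • c i = c j) : Inv W g c (fact2 W iv T i x j) := by
  unfold TC.fact2
  rw [force_eq]
  refine (h.fact hg hx hj hf).fact hg (hiv x hx).1 hi ?_
  rw [← hf, ← mul_smul, ← mul_inv_rev, mul_eq_one_comm.1 (hiv x hx).2, inv_one, one_smul]

/-- The points named by the definitions. -/
noncomputable def pt (g : ℕ → X) (ω : Ω) (P : ℕ) (k : ℕ) : Ω :=
  if par P k < k ∧ 1 < k then (g (ltr P k))⁻¹ • pt g ω P (par P k) else ω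
termination_by k

theorem pt_one (g : ℕ → X) (ω : Ω) (P : ℕ) : pt g ω P 1 = ω := by
  rw [pt, if_neg (by simp)]

theorem inv_start (hg : g 0 = 1) (hiv : ∀ x < W, iv x < W ∧ g (iv x) * g x = 1) (ω : Ω)
    (P n : ℕ) : Inv W g (pt g ω P) (start W iv P n) := by
  have h0 : Inv W g (pt g ω P) 0 := fun i x _ h => absurd (by simp [get_eq]) h
  unfold start
  generalize (0 : ℕ) = T at h0 ⊢
  induction n generalizing T with
  | zero => exact h0
  | succ k ih =>
    change Inv W g (pt g ω P) (force _ _)
    rw [force_eq]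
    refine ih _ ?_
    unfold defn
    rw [force_eq, force_eq]
    cases hb : (Nat.blt (par P k.succ) k.succ && Nat.blt 1 k.succ && Nat.blt (ltr P k.succ) W &&
      Nat.blt k.succ 65536)
    · exact h0
    · simp only [Bool.and_eq_true, Nat.blt_eq] at hb
      refine h0.fact2 hg hiv hb.1.2 (hb.1.1.1.trans hb.2) hb.2 ?_
      rw [pt.eq_1 g ω P k.succ, if_pos hb.1.1]

theorem prod_reverse_iv (hiv : ∀ x < W, iv x < W ∧ g (iv x) * g x = 1) (v : List ℕ)
    (hv : ∀ x ∈ v, x < W) : ((v.reverse.map iv).map g).prod = (v.map g).prod⁻¹ := by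
  induction v with
  | nil => simp
  | cons x v ih =>
    rw [List.reverse_cons, List.map_append, List.map_append, List.prod_append,
      ih fun y hy => hv y (by simp [hy])]
    simp [eq_inv_of_mul_eq_one_left (hiv x (hv x (by simp))).2]

theorem Inv.step {T : ℕ} (h : Inv W g c T) (hg : g 0 = 1)
    (hiv : ∀ x < W, iv x < W ∧ g (iv x) * g x = 1) {rels subs : List (List ℕ)}
    (hr : ∀ r ∈ rels, (∀ x ∈ r, x < W) ∧ (r.map g).prod = 1)
    (hs : ∀ r ∈ subs, (∀ x ∈ r, x < W) ∧ (r.map g).prod • c 1 = c 1) (s : ℕ) :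
    Inv W g c (step W iv rels subs T s) := by
  unfold TC.step
  rw [force_eq, force_eq, force_eq]
  have hi : Nat.mod (Nat.shiftRight s 16) 65536 < 65536 := Nat.mod_lt _ (by norm_num)
  generalize Nat.mod (Nat.shiftRight s 16) 65536 = i at hi ⊢
  generalize Nat.mod (Nat.shiftRight s 8) 256 = r
  generalize Nat.mod s 256 = k
  cases Nat.blt r 128
  · cases Nat.beq r 255
    · cases Nat.beq r 254
      swap
      · simp only [cond_false, cond_true]
        cases hW : Nat.blt 0 W
        · exact h
        · rw [Nat.blt_eq] at hW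
          have h1 := h.res hW hg 40 i
          exact h.put hW (h1.2 hi) (by rw [hg, inv_one, one_smul, h1.1])
      have h1 : (∀ x ∈ subs.getD (Nat.sub r 128) [], x < W) ∧
          ((subs.getD (Nat.sub r 128) []).map g).prod • c 1 = c 1 := by
        rw [List.getD_eq_getElem?_getD]
        cases he : subs[Nat.sub r 128]? with
        | none => simp
        | some l => exact hs l (List.mem_of_getElem? he)
      generalize subs.getD (Nat.sub r 128) [] = l at h1 ⊢
      have h2 := List.take_append_drop k l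
      simp only [cond_false]
      cases hd : l.drop k with
      | nil => exact h
      | cons x v =>
        rw [hd] at h2
        generalize l.take k = u at h2 ⊢
        subst h2
        rw [gap_cons, bnd_eq]
        split_ifs with h3
        · exact h
        rw [bnd_eq]
        split_ifs with h4
        · exact h
        have hv : ∀ y ∈ v, y < W := fun y hy => h1.1 y (by simp [hy])
        have h5 := h.tr hg _ (fun y hy => by
          obtain ⟨z, hz, rfl⟩ := List.mem_map.1 hy
          exact (hiv z (hv z (List.mem_reverse.1 hz))).1) 1 (by norm_num) h3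
        have h6 := h.tr hg u (fun y hy => h1.1 y (by simp [hy])) 1 (by norm_num) h4
        refine h.fact2 hg hiv (h1.1 x (by simp)) h6.2 h5.2 ?_
        rw [← h5.1, ← h6.1, prod_reverse_iv hiv v hv, inv_inv, ← mul_smul, ← mul_inv_rev,
          inv_smul_eq_iff, ← mul_smul]
        simpa [mul_assoc] using h1.2.symm
    · simp only [cond_false, cond_true]
      cases hk : Nat.blt k W
      · exact h
      · rw [Nat.blt_eq] at hk
        rw [cond_true, bnd_eq]
        split_ifs with h3
        · exact h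
        rw [force_eq]
        have h4 := h.nxt hg hk h3
        refine h.fact hg hk h4.2 ?_
        rw [(h.res (Nat.zero_lt_of_lt hk) hg 40 i).1, h4.1]
  · have h1 : (∀ x ∈ rels.getD r [], x < W) ∧ ((rels.getD r []).map g).prod = 1 := by
      rw [List.getD_eq_getElem?_getD]
      cases he : rels[r]? with
      | none => simp
      | some l => exact hr l (List.mem_of_getElem? he)
    generalize rels.getD r [] = l at h1 ⊢
    have h2 := List.take_append_drop k l
    simp only [cond_true]
    cases hd : l.drop k with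
    | nil => exact h
    | cons x v =>
      rw [hd] at h2
      generalize l.take k = u at h2 ⊢
      subst h2
      rw [gap_cons, bnd_eq]
      split_ifs with h3
      · exact h
      rw [bnd_eq]
      split_ifs with h4
      · exact h
      have h5 := h.tr hg v (fun y hy => h1.1 y (by simp [hy])) i hi h3
      have h6 := h.tr hg u (fun y hy => h1.1 y (by simp [hy])) _ h5.2 h4
      refine h.fact2 hg hiv (h1.1 x (by simp)) h6.2 hi ?_
      have h7 : (v.map g).prod * (u.map g).prod * g x = 1 := by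
        have h8 := h1.2
        simp only [List.map_append, List.map_cons, List.prod_append, List.prod_cons] at h8
        rw [← mul_assoc, mul_eq_one_comm, ← mul_assoc] at h8
        exact h8
      rw [← h6.1, ← h5.1, ← mul_smul, ← mul_smul, ← mul_inv_rev, ← mul_inv_rev, ← mul_assoc, h7,
        inv_one, one_smul]

theorem inv_table (hg : g 0 = 1) (hiv : ∀ x < W, iv x < W ∧ g (iv x) * g x = 1)
    {rels subs : List (List ℕ)} (ω : Ω)
    (hr : ∀ r ∈ rels, (∀ x ∈ r, x < W) ∧ (r.map g).prod = 1)
    (hs : ∀ r ∈ subs, (∀ x ∈ r, x < W) ∧ (r.map g).prod • ω = ω) (P n : ℕ) (cert : List ℕ) :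
    Inv W g (pt g ω P) (table W iv rels subs P n cert) := by
  unfold table
  rw [force_eq]
  have h0 := inv_start hg hiv ω P n
  generalize start W iv P n = T at h0 ⊢
  induction cert generalizing T with
  | nil => exact h0
  | cons c cert ih =>
    change Inv W g (pt g ω P) (force _ _)
    rw [force_eq]
    refine ih _ ?_
    clear ih
    generalize 64 = f
    induction f generalizing c T with
    | zero => exact h0
    | succ f ih' =>
      rw [chunk_succ, bnd_eq]
      split_ifs
      · exact h0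
      rw [force_eq, force_eq]
      have h1 : ∀ r ∈ subs, (∀ x ∈ r, x < W) ∧ (r.map g).prod • pt g ω P 1 = pt g ω P 1 := by
        simpa only [pt_one] using hs
      exact ih' _ _ (h0.step hg hiv hr h1 _)

end sound

theorem small_iff {W : ℕ} {l : List (List ℕ)} : small W l = true ↔ ∀ r ∈ l, ∀ x ∈ r, x < W := by
  simp [small, Nat.blt_eq]

open Subgroup MulAction

variable {X : Type*} [Group X] {W : ℕ} {g : ℕ → X} {iv : ℕ → ℕ} {rels subs : List (List ℕ)}
  {P n : ℕ} {cert : List ℕ}

theorem smul_one_eq_iff (K : Subgroup X) (a : X) :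
    a • ((1 : X) : X ⧸ K) = ((1 : X) : X ⧸ K) ↔ a ∈ K := by
  rw [Quotient.smul_coe, QuotientGroup.eq]
  simp

/-- Words that trace from the first coset to itself lie in the subgroup. -/
theorem mem_of_checkWords (K : Subgroup X) (hg : g 0 = 1)
    (hiv : ∀ x < W, iv x < W ∧ g (iv x) * g x = 1) (hr : ∀ r ∈ rels, (r.map g).prod = 1)
    (hs : ∀ r ∈ subs, (r.map g).prod ∈ K) {ws : List (List ℕ)}
    (h : checkWords W iv rels subs P n cert ws = true) : ∀ w ∈ ws, (w.map g).prod ∈ K := by
  simp only [checkWords, forceB_eq, Bool.and_eq_true, small_iff, List.all_eq_true,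
    Nat.beq_eq] at h
  intro w hw
  have h1 := inv_table hg hiv ((1 : X) : X ⧸ K) (fun r hr' => ⟨h.1.1.1 r hr', hr r hr'⟩)
    (fun r hr' => ⟨h.1.1.2 r hr', (smul_one_eq_iff K _).2 (hs r hr')⟩) P n cert
  have h2 := (h1.tr hg w (h.1.2 w hw) 1 (by norm_num) (by rw [h.2 w hw]; norm_num)).1
  rw [h.2 w hw, pt_one, smul_one_eq_iff] at h2
  exact (inv_mem_iff).1 h2

/-- A closed table bounds the index. -/
theorem relIndex_le_of_checkIndex (K : Subgroup X) (hg : g 0 = 1)
    (hiv : ∀ x < W, iv x < W ∧ g (iv x) * g x = 1) (hr : ∀ r ∈ rels, (r.map g).prod = 1)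
    (hs : ∀ r ∈ subs, (r.map g).prod ∈ K) {M N : ℕ}
    (h : checkIndex W iv rels subs P n cert M N = true) (H : Subgroup X)
    (hH : H ≤ closure (g '' {x | x < W})) : K.relIndex H ≠ 0 ∧ K.relIndex H ≤ N := by
  simp only [checkIndex, forceB_eq, Bool.and_eq_true, small_iff, closed, List.all_eq_true,
    Nat.ble_eq, List.mem_range, Bool.or_eq_true, Bool.not_eq_true', Nat.beq_eq] at h
  have h1 := inv_table hg hiv ((1 : X) : X ⧸ K) (fun r hr' => ⟨h.1.1 r hr', hr r hr'⟩)
    (fun r hr' => ⟨h.1.2 r hr', (smul_one_eq_iff K _).2 (hs r hr')⟩) P n cert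
  obtain ⟨-, ⟨h2, h3⟩, h4⟩ := h
  generalize table W iv rels subs P n cert = T at h1 h2 h3 h4
  set c := pt g ((1 : X) : X ⧸ K) P with hc
  have hlive : ∀ i, live M n i = true → i ≠ 0 ∧ i < n.succ := fun i hi => by
    simp only [live, Bool.and_eq_true, Nat.blt_eq, Nat.ble_eq] at hi
    omega
  let C : Set (X ⧸ K) := c '' {i | live M n i = true}
  have hC : ∀ x < W, ∀ a ∈ C, (g x)⁻¹ • a ∈ C := by
    rintro x hx _ ⟨i, hi, rfl⟩
    rcases h4 i (hlive i hi).2 with h5 | h5
    · exact absurd (h5.symm.trans hi) (by simp)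
    rcases h5 x hx with rfl | h6
    · rw [hg, inv_one, one_smul]; exact ⟨i, hi, rfl⟩
    · exact ⟨_, h6, (h1.nxt hg hx (hlive _ h6).1).1.symm⟩
  have hC' : ∀ y ∈ closure (g '' {x | x < W}), ∀ a ∈ C, y • a ∈ C := by
    intro y hy
    induction hy using closure_induction_left with
    | one => intro a ha; rwa [one_smul]
    | mul_left x hx y _ ih =>
      intro a ha
      obtain ⟨z, hz, rfl⟩ := hx
      rw [mul_smul, eq_inv_of_mul_eq_one_right (hiv z hz).2]
      exact hC _ (hiv z hz).1 _ (ih a ha)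
    | inv_mul_cancel x hx y _ ih =>
      intro a ha
      obtain ⟨z, hz, rfl⟩ := hx
      rw [mul_smul]
      exact hC z hz _ (ih a ha)
  have hfin : {i | live M n i = true}.Finite :=
    (Set.finite_lt_nat n.succ).subset fun i hi => (hlive i hi).2
  have hcard : C.ncard ≤ N := by
    refine (Set.ncard_image_le hfin).trans (le_trans ?_ h3)
    have : {i | live M n i = true} = ((List.range n.succ).filter (live M n)).toFinset := by
      ext i
      simp only [Set.mem_ofPred_eq, List.coe_toFinset, List.mem_filter, List.mem_range]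
      exact ⟨fun hi => ⟨(hlive i hi).2, hi⟩, fun hi => hi.2⟩
    rw [this, Set.ncard_coe_finset]
    exact List.toFinset_card_le _
  have hsub : orbit H ((1 : X) : X ⧸ K) ⊆ C := by
    rintro _ ⟨y, rfl⟩
    exact hC' y (hH y.2) _ ⟨1, h2, pt_one _ _ _⟩
  have hst : stabilizer H ((1 : X) : X ⧸ K) = K.subgroupOf H := by
    ext y
    rw [mem_stabilizer_iff, mem_subgroupOf]
    exact smul_one_eq_iff K y
  have hCf : C.Finite := hfin.image c
  rw [relIndex, ← hst, index_stabilizer]
  exact ⟨((Set.ncard_pos (hCf.subset hsub)).2 ⟨_, mem_orbit_self _⟩).ne',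
    (Set.ncard_le_ncard hsub hCf).trans hcard⟩

end Cfsg.Agent.P8.TC
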