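import Cfsg.Agent.P8.A5
import Cfsg.Agent.P8.Inv

/-! Involutions with centralizer `2 × A5`: element-level form. -/

set_option autoImplicit false

namespace Cfsg.Agent.P8

open Subgroup Equiv

variable {G : Type*} [Group G]

theorem mem_cent {u v : G} : u ∈ centralizer ({v} : Set G) ↔ Commute u v :=
  mem_centralizer_singleton_iff

/-- `v` as an element of its centralizer. -/
def self (v : G) : centralizer ({v} : Set G) := ⟨v, mem_cent.2 rfl⟩

theorem mem_zpowers_invol {u z : G} (hu : u * u = 1) (h : z ∈ zpowers u) : z = 1 ∨ z = u := by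
  obtain ⟨i, rfl⟩ := h
  have h1 : u ^ (2 : ℤ) = 1 := by rw [zpow_two, hu]
  rcases Int.even_or_odd' i with ⟨k, rfl | rfl⟩ <;> simp [zpow_add, zpow_mul, h1]

theorem mem_klein {u w z : G} (hu : u * u = 1) (hw : w * w = 1) (hc : Commute u w)
    (h : z ∈ zpowers u ⊔ zpowers w) : z = 1 ∨ z = u ∨ z = w ∨ z = u * w := by
  obtain ⟨a, ha, b, hb, rfl⟩ := (H1.mem_sup_iff_of_le_normalizer
    (H1.le_normalizer_of_le_centralizer (zpowers_le.2 fun y hy => by
      obtain ⟨i, rfl⟩ := hy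
      exact (hc.symm.zpow_left i)))).1 h
  rcases mem_zpowers_invol hu ha with rfl | rfl <;>
    rcases mem_zpowers_invol hw hb with rfl | rfl <;> simp

theorem card_klein [Finite G] {u w : G} (hu : u * u = 1) (hw : w * w = 1) (hc : Commute u w)
    (hu1 : u ≠ 1) (hw1 : w ≠ 1) (hne : u ≠ w) :
    Nat.card (zpowers u ⊔ zpowers w : Subgroup G) = 4 := by
  rw [H1.card_sup_of_inf_eq_bot (H1.le_normalizer_of_le_centralizer (zpowers_le.2 fun y hy => by
      obtain ⟨i, rfl⟩ := hy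
      exact (hc.symm.zpow_left i))), Nat.card_zpowers, Nat.card_zpowers, orderOf_invol hu hu1,
    orderOf_invol hw hw1]
  rw [eq_bot_iff]
  rintro z ⟨h1, h2⟩
  rcases mem_zpowers_invol hu h1 with rfl | rfl
  · exact one_mem _
  · exact ((mem_zpowers_invol hw h2).elim hu1 hne).elim

theorem card_eight [Finite G] {v u w : G} (hv : v * v = 1) (hu : u * u = 1) (hw : w * w = 1)
    (hc : Commute u w) (h1 : Commute u v) (h2 : Commute w v) (hu1 : u ≠ 1) (hw1 : w ≠ 1)
    (hne : u ≠ w) (hv1 : v ≠ 1) (h3 : v ≠ u) (h4 : v ≠ w) (h5 : v ≠ u * w) :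
    Nat.card (zpowers v ⊔ (zpowers u ⊔ zpowers w) : Subgroup G) = 8 := by
  rw [H1.card_sup_of_inf_eq_bot (H1.le_normalizer_of_le_centralizer (zpowers_le.2 fun y hy =>
      mem_cent.1 (sup_le (zpowers_le.2 (mem_cent.2 h1)) (zpowers_le.2 (mem_cent.2 h2)) hy))),
    Nat.card_zpowers, orderOf_invol hv hv1, card_klein hu hw hc hu1 hw1 hne]
  rw [eq_bot_iff]
  rintro z ⟨a1, a2⟩
  rcases mem_zpowers_invol hv a1 with rfl | rfl
  · exact one_mem _
  · have := mem_klein hu hw hc a2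
    tauto

theorem exists_chi [Finite G] (h16 : ¬ 16 ∣ Nat.card G) {v u w : G} (hv : v * v = 1)
    (hu : u * u = 1) (hw : w * w = 1)
    (hc : Commute u w) (h1 : Commute u v) (h2 : Commute w v) (hu1 : u ≠ 1) (hw1 : w ≠ 1)
    (hne : u ≠ w) (hv1 : v ≠ 1) (h3 : v ≠ u) (h4 : v ≠ w) (h5 : v ≠ u * w) :
    ∃ χ : centralizer ({v} : Set G) →* ℤˣ, χ (self v) = -1 := by
  have hV : zpowers u ⊔ zpowers w ≤ centralizer {v} :=
    sup_le (zpowers_le.2 (mem_cent.2 h1)) (zpowers_le.2 (mem_cent.2 h2))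
  obtain ⟨k, hk⟩ := card_dvd_of_le (sup_le (zpowers_le.2 (mem_cent.2 (Commute.refl v))) hV)
  rw [card_eight hv hu hw hc h1 h2 hu1 hw1 hne hv1 h3 h4 h5] at hk
  have h6 := H1.card_mul_relIndex hV
  rw [card_klein hu hw hc hu1 hw1 hne] at h6
  obtain ⟨χ, hχ⟩ := H8.exists_hom_thompson_transfer
    ((zpowers u ⊔ zpowers w).subgroupOf (centralizer {v})) (k := k) (by
      rw [← Nat.not_even_iff_odd]
      rintro ⟨j, rfl⟩
      exact h16 (Dvd.dvd.trans ⟨j, by omega⟩ (card_subgroup_dvd_card (centralizer {v}))))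
    (by rw [← relIndex]; omega)
  refine ⟨χ, hχ _ (Subtype.ext (by simpa [self, pow_two] using hv)) fun g hg => ?_⟩
  rw [mem_subgroupOf] at hg
  have h7 : ((g * self v * g⁻¹ : centralizer ({v} : Set G)) : G) = v :=
    mul_inv_eq_iff_eq_mul.2 (mem_cent.1 g.2)
  have := mem_klein hu hw hc (h7 ▸ hg)
  tauto

/-- No element interchanges two members of an elementary abelian Sylow 2-subgroup. -/
theorem no_swap [Finite G] (h16 : ¬ 16 ∣ Nat.card G) {e d b k : G} (he : e * e = 1)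
    (hd : d * d = 1) (hb : b * b = 1) (hed : Commute e d) (hbe : Commute b e) (hbd : Commute b d)
    (he1 : e ≠ 1) (hd1 : d ≠ 1) (hne : e ≠ d) (hb1 : b ≠ 1) (h1 : b ≠ e) (h2 : b ≠ d)
    (h3 : b ≠ e * d) (h4 : k * e * k⁻¹ = d) (h5 : k * d * k⁻¹ = e) : False := by
  have a1 : Commute e (e * d) := (Commute.refl e).mul_right hed
  have a2 : Commute d (e * d) := hed.symm.mul_right (Commute.refl d)
  obtain ⟨χ, hχ⟩ := exists_chi h16 (v := e * d) (u := e) (w := b)
    (by rw [mul_assoc, ← mul_assoc d, ← hed.eq, mul_assoc, hd, mul_one, he]) he hb hbe.symm a1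
    (hbe.mul_right hbd) he1 hb1 h1.symm
    (fun h => hne (by rw [eq_inv_of_mul_eq_one_left h, inv_eq_of_mul_eq_one_right hd]))
    (by simpa using hd1) h3.symm (by simpa using h2.symm)
  have a3 : Commute k (e * d) := by
    rw [commute_iff_eq, ← mul_inv_eq_iff_eq_mul, ← conj_mul, h4, h5, hed.eq]
  have a4 : self (e * d) = ⟨e, mem_cent.2 a1⟩ * (⟨k, mem_cent.2 a3⟩ * ⟨e, mem_cent.2 a1⟩ *
      ⟨k, mem_cent.2 a3⟩⁻¹) := Subtype.ext (by simp [self, h4])
  rw [a4, map_mul, map_mul, map_mul, map_inv, mul_inv_cancel_comm, Int.units_mul_self] at hχ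
  exact absurd hχ (by decide)

/-- Element-level facts about an involution `v` with centralizer `⟨v⟩ × A5`; `χ` is the character
of the centralizer whose kernel is the factor `A5`. -/
structure Tw (v : G) (χ : G → ℤˣ) : Prop where
  mul : ∀ a b, Commute a v → Commute b v → χ (a * b) = χ a * χ b
  neg : χ v = -1
  conj : ∀ u w, Commute u v → Commute w v → u * u = 1 → w * w = 1 → u ≠ 1 → w ≠ 1 → u ≠ v →
    w ≠ v → χ u = χ w → ∃ h, Commute h v ∧ h * u * h⁻¹ = w
  five : ∀ e b y, Commute e v → Commute b v → Commute y v → e * e = 1 → e ≠ 1 → e ≠ v →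
    b * b = 1 → b ≠ 1 → b ≠ v → b ≠ e → b ≠ e * v → Commute b e → orderOf y = 5 →
    e * y * e = y⁻¹ → ∃ j, (j = 1 ∨ j = 2) ∧
      ((e * y ^ j * b) ^ 3 = 1 ∨ (e * y ^ j * b) ^ 3 = v) ∧
      ((y ^ j * b) ^ 5 = 1 ∨ (y ^ j * b) ^ 5 = v)
  three : ∀ d b x, Commute d v → Commute b v → Commute x v → d * d = 1 → d ≠ 1 → d ≠ v →
    b * b = 1 → b ≠ 1 → b ≠ v → b ≠ d → b ≠ d * v → Commute b d → orderOf x = 3 →
    d * x * d = x⁻¹ → ((b * (d * x)) ^ 5 = 1 ∨ (b * (d * x)) ^ 5 = v) ∧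
      ((b * (d * x) * d) ^ 5 = 1 ∨ (b * (d * x) * d) ^ 5 = v)

open Classical in
theorem Tw.of {v : G} (hv : v * v = 1) {φ : centralizer ({v} : Set G) →* Perm (Fin 5)}
    (h : Good (self v) φ) (χ : centralizer ({v} : Set G) →* ℤˣ) (hχ : χ (self v) = -1) :
    Tw v fun z => if hz : z ∈ centralizer ({v} : Set G) then χ ⟨z, hz⟩ else 1 := by
  have hv' : self v * self v = 1 := Subtype.ext hv
  refine ⟨fun a b ha hb => ?_, ?_, fun u w hu hw a1 a2 a3 a4 a5 a6 a7 => ?_,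
    fun e b y he hb hy a1 a2 a3 a4 a5 a6 a7 a8 a9 a10 a11 => ?_,
    fun d b x hd hb hx a1 a2 a3 a4 a5 a6 a7 a8 a9 a10 a11 => ?_⟩
  · rw [dif_pos (mem_cent.2 ha), dif_pos (mem_cent.2 hb), dif_pos (mem_cent.2 (ha.mul_left hb)),
      ← map_mul]
    rfl
  · rw [dif_pos (mem_cent.2 (Commute.refl v))]
    exact hχ
  · rw [dif_pos (mem_cent.2 hu), dif_pos (mem_cent.2 hw)] at a7
    obtain ⟨g, hg | hg⟩ := h.conj (u := ⟨u, mem_cent.2 hu⟩) (v := ⟨w, mem_cent.2 hw⟩)
      (Or.inl (Subtype.ext a1)) (fun h => a3 (congrArg Subtype.val h))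
      (fun h => a5 (congrArg Subtype.val h)) (Or.inl (Subtype.ext a2))
      (fun h => a4 (congrArg Subtype.val h)) (fun h => a6 (congrArg Subtype.val h))
    · exact ⟨g, mem_cent.1 g.2, congrArg Subtype.val hg⟩
    · have := congrArg χ hg
      rw [map_mul, map_mul, map_inv, mul_inv_cancel_comm, map_mul, a7, hχ, left_eq_mul] at this
      exact absurd this (by decide)
  · simpa only [Subtype.ext_iff, coe_mul, coe_pow, coe_one, self] using h.five hv' (e := ⟨e, mem_cent.2 he⟩)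
      (b := ⟨b, mem_cent.2 hb⟩) (y := ⟨y, mem_cent.2 hy⟩) (Subtype.ext a1)
      (fun h => a2 (congrArg Subtype.val h)) (fun h => a3 (congrArg Subtype.val h))
      (Subtype.ext a4) (fun h => a5 (congrArg Subtype.val h))
      (fun h => a6 (congrArg Subtype.val h)) (fun h => a7 (congrArg Subtype.val h))
      (fun h => a8 (congrArg Subtype.val h)) (Subtype.ext a9) (by rwa [← orderOf_coe])
      (Subtype.ext a11)
  · simpa only [Subtype.ext_iff, coe_mul, coe_pow, coe_one, self] using h.three hv' (d := ⟨d, mem_cent.2 hd⟩)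
      (b := ⟨b, mem_cent.2 hb⟩) (x := ⟨x, mem_cent.2 hx⟩) (Subtype.ext a1)
      (fun h => a2 (congrArg Subtype.val h)) (fun h => a3 (congrArg Subtype.val h))
      (Subtype.ext a4) (fun h => a5 (congrArg Subtype.val h))
      (fun h => a6 (congrArg Subtype.val h)) (fun h => a7 (congrArg Subtype.val h))
      (fun h => a8 (congrArg Subtype.val h)) (Subtype.ext a9) (by rwa [← orderOf_coe])
      (Subtype.ext a11)

theorem Good.of_equiv {M M' : Type*} [Group M] [Group M'] {t : M} {φ : M →* Perm (Fin 5)}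
    (h : Good t φ) (f : M' ≃* M) {t' : M'} (ht : f t' = t) : Good t' (φ.comp f.toMonoidHom) where
  ker z := by
    rw [← f.injective.eq_iff, ← f.injective.eq_iff, map_one, ht, ← h.ker]
    rfl
  even z := h.even _
  surj σ hσ := by
    obtain ⟨z, hz⟩ := h.surj σ hσ
    exact ⟨f.symm z, by simpa using hz⟩

/-- Conjugation between centralizers. -/
def cj {e d g : G} (h : g * e * g⁻¹ = d) :
    centralizer ({d} : Set G) ≃* centralizer ({e} : Set G) where
  toFun z := ⟨g⁻¹ * z * g, mem_cent.2 (by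
    have h1 := (mem_cent.1 z.2).conj g⁻¹
    generalize (z : G) = w at h1 ⊢
    simpa [← h, mul_assoc] using h1)⟩
  invFun z := ⟨g * z * g⁻¹, mem_cent.2 (h ▸ (mem_cent.1 z.2).conj g)⟩
  left_inv z := Subtype.ext (by simp [mul_assoc])
  right_inv z := Subtype.ext (by simp [mul_assoc])
  map_mul' a b := Subtype.ext (by simp [mul_assoc])

theorem cj_self {e d g : G} (h : g * e * g⁻¹ = d) : cj h (self d) = self e :=
  Subtype.ext (by simp [cj, self, ← h, mul_assoc])

theorem Good.sq {M : Type*} [Group M] {t : M} {φ : M →* Perm (Fin 5)} (h : Good t φ)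
    (ht : t * t = 1) (hc : ∀ g, g * t = t * g) {d : M} (hd : d * d = 1) (hd1 : d ≠ 1)
    (hd2 : d ≠ t) {u : M} (hu : φ u * φ u = 1) : u * u = 1 := by
  rw [← map_mul, h.ker] at hu
  refine hu.elim id fun h1 => ?_
  by_cases h2 : u = 1
  · rw [h2, one_mul]
  by_cases h3 : u = t
  · rw [h3, ht]
  obtain ⟨g, hg⟩ := h.conj (Or.inl hd) hd1 hd2 (Or.inr h1) h2 h3
  have h4 : (g * d * g⁻¹) * (g * d * g⁻¹) = 1 := by rw [conj_mul, hd, mul_one, mul_inv_cancel]
  rcases hg with hg | hg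
  · rwa [hg] at h4
  · rwa [hg, mul_assoc, ← mul_assoc t, ← hc, mul_assoc, ht, mul_one] at h4

theorem Good.exists_third {M : Type*} [Group M] {t : M} {φ : M →* Perm (Fin 5)} (h : Good t φ)
    (ht : t * t = 1) (hc : ∀ g, g * t = t * g) {d : M} (hd : d * d = 1) (hd1 : d ≠ 1)
    (hd2 : d ≠ t) : ∃ b, b * b = 1 ∧ Commute b d ∧ b ≠ 1 ∧ b ≠ t ∧ b ≠ d ∧ b ≠ t * d := by
  obtain ⟨ψ, hψ, h1⟩ := h.exists_norm hd hd1 hd2
  obtain ⟨b, hb⟩ := hψ.surj (swap 0 2 * swap 1 3) (by decide)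
  have h2 := hψ.sq ht hc hd hd1 hd2 (u := b) (by rw [hb]; decide)
  have h3 := hψ.sq ht hc hd hd1 hd2 (u := b * d) (by rw [map_mul, hb, h1]; decide)
  have h4 : ψ t = 1 := (hψ.ker t).2 (Or.inr rfl)
  refine ⟨b, h2, ?_, ?_, ?_, ?_, ?_⟩
  · rw [commute_iff_eq, eq_inv_of_mul_eq_one_left h3, mul_inv_rev, inv_eq_of_mul_eq_one_right h2,
      inv_eq_of_mul_eq_one_right hd]
  · rintro rfl
    rw [map_one] at hb
    exact absurd hb (by decide)
  · rintro rfl
    rw [h4] at hb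
    exact absurd hb (by decide)
  · rintro rfl
    rw [h1] at hb
    exact absurd hb (by decide)
  · rintro rfl
    rw [map_mul, h4, h1] at hb
    exact absurd hb (by decide)

end Cfsg.Agent.P8
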